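import Mathlib

set_option autoImplicit false
set_option maxHeartbeats 400000

/-!
# `SL₂(p)` inside the automorphism group of an elementary abelian group of order `p²`

* `sl2_closure_eq_top`: `SL₂(ZMod p)` is generated by the two elementary matrices `E₁₂(1)`, `E₂₁(1)`.
* `exists_sl2_hom`: if `H` is elementary abelian of order `p²`, `G ≤ Aut(H)` and `a, b ∈ G` have order `p`
  with `b ∉ ⟨a⟩`, then there is an injective homomorphism `SL₂(ZMod p) → Aut(H)` with image in `G`.
-/

namespace Cfsg.Agent.H86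

open Matrix

section SL2

variable {K : Type*} [Field K]

/-- The upper elementary matrix `[[1, s], [0, 1]]`. -/
def slUpper (s : K) : Matrix.SpecialLinearGroup (Fin 2) K :=
  ⟨!![1, s; 0, 1], by simp [Matrix.det_fin_two]⟩

/-- The lower elementary matrix `[[1, 0], [s, 1]]`. -/
def slLower (s : K) : Matrix.SpecialLinearGroup (Fin 2) K :=
  ⟨!![1, 0; s, 1], by simp [Matrix.det_fin_two]⟩

theorem slUpper_coe (s : K) : (slUpper s : Matrix (Fin 2) (Fin 2) K) = !![1, s; 0, 1] := rfl

theorem slLower_coe (s : K) : (slLower s : Matrix (Fin 2) (Fin 2) K) = !![1, 0; s, 1] := rfl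

theorem slUpper_mul (s t : K) : slUpper s * slUpper t = slUpper (s + t) := by
  apply Matrix.SpecialLinearGroup.ext
  intro i j
  rw [Matrix.SpecialLinearGroup.coe_mul, slUpper_coe, slUpper_coe, slUpper_coe]
  fin_cases i <;> fin_cases j <;> simp [Matrix.mul_apply, Fin.sum_univ_two, add_comm]

theorem slLower_mul (s t : K) : slLower s * slLower t = slLower (s + t) := by
  apply Matrix.SpecialLinearGroup.ext
  intro i j
  rw [Matrix.SpecialLinearGroup.coe_mul, slLower_coe, slLower_coe, slLower_coe]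
  fin_cases i <;> fin_cases j <;> simp [Matrix.mul_apply, Fin.sum_univ_two, add_comm]

theorem slUpper_zero : slUpper (0 : K) = 1 := by
  apply Matrix.SpecialLinearGroup.ext
  intro i j
  rw [slUpper_coe, Matrix.SpecialLinearGroup.coe_one]
  fin_cases i <;> fin_cases j <;> simp

theorem slLower_zero : slLower (0 : K) = 1 := by
  apply Matrix.SpecialLinearGroup.ext
  intro i j
  rw [slLower_coe, Matrix.SpecialLinearGroup.coe_one]
  fin_cases i <;> fin_cases j <;> simp

theorem slUpper_pow (n : ℕ) : (slUpper (1 : K)) ^ n = slUpper (n : K) := by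
  induction n with
  | zero => rw [pow_zero, Nat.cast_zero, slUpper_zero]
  | succ n ih => rw [pow_succ, ih, slUpper_mul, Nat.cast_succ]

theorem slLower_pow (n : ℕ) : (slLower (1 : K)) ^ n = slLower (n : K) := by
  induction n with
  | zero => rw [pow_zero, Nat.cast_zero, slLower_zero]
  | succ n ih => rw [pow_succ, ih, slLower_mul, Nat.cast_succ]

theorem sl2_decomp (M : Matrix.SpecialLinearGroup (Fin 2) K) (hc : M 1 0 ≠ 0) :
    M = slUpper ((M 0 0 - 1) / M 1 0) * slLower (M 1 0) * slUpper ((M 1 1 - 1) / M 1 0) := by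
  have hdet : M 0 0 * M 1 1 - M 0 1 * M 1 0 = 1 := by
    have := M.det_coe
    rwa [Matrix.det_fin_two] at this
  apply Matrix.SpecialLinearGroup.ext
  intro i j
  rw [Matrix.SpecialLinearGroup.coe_mul, Matrix.SpecialLinearGroup.coe_mul, slUpper_coe, slLower_coe,
    slUpper_coe]
  fin_cases i <;> fin_cases j
  · simp [Matrix.mul_apply, Fin.sum_univ_two]
    field_simp
    ring
  · simp [Matrix.mul_apply, Fin.sum_univ_two]
    field_simp
    linear_combination (-1 : K) * hdet
  · simp [Matrix.mul_apply, Fin.sum_univ_two]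
  · simp [Matrix.mul_apply, Fin.sum_univ_two]
    field_simp
    ring

theorem sl2_mem_closure (M : Matrix.SpecialLinearGroup (Fin 2) K) :
    M ∈ Subgroup.closure (Set.range (slUpper (K := K)) ∪ Set.range (slLower (K := K))) := by
  have hU : ∀ s : K, slUpper s ∈ Subgroup.closure (Set.range (slUpper (K := K)) ∪ Set.range (slLower (K := K))) :=
    fun s => Subgroup.subset_closure (Or.inl ⟨s, rfl⟩)
  have hL : ∀ s : K, slLower s ∈ Subgroup.closure (Set.range (slUpper (K := K)) ∪ Set.range (slLower (K := K))) :=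
    fun s => Subgroup.subset_closure (Or.inr ⟨s, rfl⟩)
  have key : ∀ N : Matrix.SpecialLinearGroup (Fin 2) K, N 1 0 ≠ 0 →
      N ∈ Subgroup.closure (Set.range (slUpper (K := K)) ∪ Set.range (slLower (K := K))) := by
    intro N hN
    rw [sl2_decomp N hN]
    exact Subgroup.mul_mem _ (Subgroup.mul_mem _ (hU _) (hL _)) (hU _)
  by_cases hc : M 1 0 = 0
  · have hdet : M 0 0 * M 1 1 - M 0 1 * M 1 0 = 1 := by
      have := M.det_coe
      rwa [Matrix.det_fin_two] at this
    have ha : M 0 0 ≠ 0 := by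
      intro h0
      rw [h0, hc] at hdet
      simp at hdet
    have h1 : (slLower (1 : K) * M) 1 0 ≠ 0 := by
      rw [Matrix.SpecialLinearGroup.coe_mul, slLower_coe]
      simp [Matrix.mul_apply, Fin.sum_univ_two, hc, ha]
    have h2 := key _ h1
    have h3 : M = (slLower (1 : K))⁻¹ * (slLower (1 : K) * M) := by group
    rw [h3]
    exact Subgroup.mul_mem _ (Subgroup.inv_mem _ (hL 1)) h2
  · exact key M hc

end SL2

/-- `SL₂(ZMod p)` is generated by the two elementary matrices with entry `1`. -/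
theorem sl2_closure_eq_top (p : ℕ) [Fact p.Prime] :
    Subgroup.closure ({slUpper (1 : ZMod p), slLower (1 : ZMod p)} :
      Set (Matrix.SpecialLinearGroup (Fin 2) (ZMod p))) = ⊤ := by
  rw [eq_top_iff]
  intro M _
  have h := sl2_mem_closure M
  have hle : Subgroup.closure (Set.range (slUpper (K := ZMod p)) ∪ Set.range (slLower (K := ZMod p))) ≤
      Subgroup.closure ({slUpper (1 : ZMod p), slLower (1 : ZMod p)} :
        Set (Matrix.SpecialLinearGroup (Fin 2) (ZMod p))) := by
    rw [Subgroup.closure_le]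
    rintro _ (⟨s, rfl⟩ | ⟨s, rfl⟩)
    · have : slUpper s = (slUpper (1 : ZMod p)) ^ s.val := by
        rw [slUpper_pow, ZMod.natCast_zmod_val]
      rw [this]
      exact Subgroup.pow_mem _ (Subgroup.subset_closure (by simp)) _
    · have : slLower s = (slLower (1 : ZMod p)) ^ s.val := by
        rw [slLower_pow, ZMod.natCast_zmod_val]
      rw [this]
      exact Subgroup.pow_mem _ (Subgroup.subset_closure (by simp)) _
  exact hle h

section AutBasics

variable {H : Type*} [CommGroup H]

/-- The subgroup of fixed points of an automorphism. -/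
def fixSub (a : MulAut H) : Subgroup H where
  carrier := {h | a h = h}
  one_mem' := map_one a
  mul_mem' := fun {x y} hx hy => by
    show a (x * y) = x * y
    have hx' : a x = x := hx
    have hy' : a y = y := hy
    rw [map_mul, hx', hy']
  inv_mem' := fun {x} hx => by
    show a x⁻¹ = x⁻¹
    have hx' : a x = x := hx
    rw [map_inv, hx']

theorem mem_fixSub {a : MulAut H} {h : H} : h ∈ fixSub a ↔ a h = h := Iff.rfl

/-- The homomorphism `h ↦ h⁻¹ a(h)`. -/
def autComm (a : MulAut H) : H →* H where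
  toFun h := h⁻¹ * a h
  map_one' := by simp
  map_mul' x y := by
    rw [map_mul, mul_inv]
    exact mul_mul_mul_comm _ _ _ _

theorem autComm_apply (a : MulAut H) (h : H) : autComm a h = h⁻¹ * a h := rfl

theorem autComm_ker (a : MulAut H) : (autComm a).ker = fixSub a := by
  ext h
  rw [MonoidHom.mem_ker, autComm_apply, inv_mul_eq_one, mem_fixSub, eq_comm]

theorem aut_pow_apply_fixed {c : MulAut H} {v : H} (hv : c v = v) (n : ℕ) : (c ^ n) v = v := by
  induction n with
  | zero => simp
  | succ n ih => rw [pow_succ', MulAut.mul_apply, ih, hv]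

theorem aut_pow_apply_mul {c : MulAut H} {u v : H} (hu : c u = u * v) (hv : c v = v) (n : ℕ) :
    (c ^ n) u = u * v ^ n := by
  induction n with
  | zero => simp
  | succ n ih => rw [pow_succ', MulAut.mul_apply, ih, map_mul, map_pow, hu, hv, pow_succ', mul_assoc]

theorem aut_ext_of_gen {c d : MulAut H} {x w : H}
    (hgen : Subgroup.zpowers x ⊔ Subgroup.zpowers w = ⊤) (hx : c x = d x) (hw : c w = d w) : c = d := by
  ext h
  have hh : h ∈ Subgroup.zpowers x ⊔ Subgroup.zpowers w := by rw [hgen]; exact Subgroup.mem_top h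
  obtain ⟨u, hu, v, hv, rfl⟩ := Subgroup.mem_sup.1 hh
  obtain ⟨s, rfl⟩ := Subgroup.mem_zpowers_iff.1 hu
  obtain ⟨t, rfl⟩ := Subgroup.mem_zpowers_iff.1 hv
  rw [map_mul, map_mul, map_zpow, map_zpow, map_zpow, map_zpow, hx, hw]

/-- An automorphism of `p`-power order that maps an element of order dividing `p` into the cyclic group it
generates fixes that element. -/
theorem aut_eq_self_of_mem_zpowers {p : ℕ} [hp : Fact p.Prime] {a : MulAut H} {z : H} {n : ℕ}
    (ha : a ^ (p ^ n) = 1) (hz : z ^ p = 1) (h : a z ∈ Subgroup.zpowers z) : a z = z := by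
  obtain ⟨k, hk⟩ := Subgroup.mem_zpowers_iff.1 h
  have hiter : ∀ m : ℕ, (a ^ m) z = z ^ (k ^ m) := by
    intro m
    induction m with
    | zero => simp
    | succ m ih => rw [pow_succ', MulAut.mul_apply, ih, map_zpow, ← hk, ← _root_.zpow_mul, pow_succ']
  by_cases hz1 : z = 1
  · rw [hz1, map_one]
  have hord : orderOf z = p := orderOf_eq_prime hz hz1
  have h2 := hiter (p ^ n)
  rw [ha, MulAut.one_apply] at h2
  have h3 : z ^ (1 : ℤ) = z ^ (k ^ (p ^ n)) := by rw [zpow_one]; exact h2
  rw [zpow_eq_zpow_iff_modEq, hord, ← ZMod.intCast_eq_intCast_iff] at h3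
  push_cast at h3
  rw [ZMod.pow_card_pow] at h3
  have h4 : k ≡ 1 [ZMOD (orderOf z)] := by
    rw [hord, ← ZMod.intCast_eq_intCast_iff]
    push_cast
    exact h3.symm
  rw [← hk, ← zpow_one z]
  conv_lhs => rw [zpow_one]
  exact zpow_eq_zpow_iff_modEq.2 h4

end AutBasics

section AutFinite

variable {H : Type*} [CommGroup H] [Finite H] {p : ℕ} [hp : Fact p.Prime]

theorem exists_fixed_ne_one (hcard : Nat.card H = p ^ 2) {a : MulAut H} (hao : orderOf a = p) :
    ∃ x : H, x ≠ 1 ∧ a x = x := by
  have hP : IsPGroup p (Subgroup.zpowers a) := by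
    apply IsPGroup.of_card (n := 1)
    rw [Nat.card_zpowers, hao, pow_one]
  have hdvd : p ∣ Nat.card H := by rw [hcard]; exact dvd_pow_self p two_ne_zero
  have h1 : (1 : H) ∈ MulAction.fixedPoints (Subgroup.zpowers a) H := by
    intro g
    show (g : MulAut H) • (1 : H) = 1
    rw [MulAut.smul_def, map_one]
  obtain ⟨x, hx, hx1⟩ := hP.exists_fixed_point_of_prime_dvd_card_of_fixed_point H hdvd h1
  refine ⟨x, fun h => hx1 h.symm, ?_⟩
  have := hx ⟨a, Subgroup.mem_zpowers a⟩
  exact this

theorem card_fixSub (hcard : Nat.card H = p ^ 2) {a : MulAut H} (hao : orderOf a = p) :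
    Nat.card (fixSub a) = p := by
  obtain ⟨x, hx1, hax⟩ := exists_fixed_ne_one hcard hao
  have hdvd : Nat.card (fixSub a) ∣ p ^ 2 := by rw [← hcard]; exact Subgroup.card_subgroup_dvd_card _
  obtain ⟨k, hk, hkk⟩ := (Nat.dvd_prime_pow hp.out).1 hdvd
  interval_cases k
  · exfalso
    rw [pow_zero] at hkk
    have hbot := Subgroup.eq_bot_of_card_eq _ hkk
    have hx : x ∈ fixSub a := hax
    rw [hbot, Subgroup.mem_bot] at hx
    exact hx1 hx
  · rw [hkk, pow_one]
  · exfalso
    rw [← hcard] at hkk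
    have htop := (Subgroup.card_eq_iff_eq_top _).1 hkk
    have ha1 : a = 1 := by
      ext h
      have hh : h ∈ fixSub a := by rw [htop]; exact Subgroup.mem_top h
      exact hh
    rw [ha1, orderOf_one] at hao
    exact hp.out.one_lt.ne hao

theorem autComm_mem_fixSub (hcard : Nat.card H = p ^ 2) (hexp : ∀ x : H, x ^ p = 1) {a : MulAut H}
    (hao : orderOf a = p) (h : H) : autComm a h ∈ fixSub a := by
  have hC := card_fixSub hcard hao
  have hD : Nat.card (autComm a).range = p := by
    have h1 := Subgroup.card_mul_index (autComm a).ker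
    rw [Subgroup.index_ker, autComm_ker, hC, hcard, pow_two] at h1
    exact Nat.eq_of_mul_eq_mul_left hp.out.pos h1
  by_cases hz1 : autComm a h = 1
  · rw [hz1]; exact Subgroup.one_mem _
  rw [mem_fixSub]
  have hap : a ^ (p ^ 1) = 1 := by rw [pow_one, ← hao]; exact pow_orderOf_eq_one a
  apply aut_eq_self_of_mem_zpowers hap (hexp _)
  -- `a` maps the range of `autComm a` into itself, and the range is cyclic of order `p`
  have hmem : a (autComm a h) ∈ (autComm a).range := by
    refine ⟨a h, ?_⟩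
    rw [autComm_apply, autComm_apply, map_mul, map_inv]
  have hne : (⟨autComm a h, ⟨h, rfl⟩⟩ : (autComm a).range) ≠ 1 := by
    intro h0
    exact hz1 (congrArg Subtype.val h0)
  have htop := zpowers_eq_top_of_prime_card hD hne
  have h2 : (⟨a (autComm a h), hmem⟩ : (autComm a).range) ∈
      Subgroup.zpowers (⟨autComm a h, ⟨h, rfl⟩⟩ : (autComm a).range) := by
    rw [htop]; exact Subgroup.mem_top _
  obtain ⟨k, hk⟩ := Subgroup.mem_zpowers_iff.1 h2
  rw [Subgroup.mem_zpowers_iff]
  refine ⟨k, ?_⟩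
  have := congrArg Subtype.val hk
  rw [Subgroup.coe_zpow] at this
  exact this

/-- Two elements `x ≠ 1`, `y ∉ ⟨x⟩` generate a group of order `p²` and exponent `p`. -/
theorem zpowers_sup_eq_top (hcard : Nat.card H = p ^ 2) (hexp : ∀ x : H, x ^ p = 1) {x y : H}
    (hx1 : x ≠ 1) (hy : y ∉ Subgroup.zpowers x) : Subgroup.zpowers x ⊔ Subgroup.zpowers y = ⊤ := by
  have hx : Nat.card (Subgroup.zpowers x) = p := by
    rw [Nat.card_zpowers]; exact orderOf_eq_prime (hexp x) hx1
  have hdvd : Nat.card (Subgroup.zpowers x ⊔ Subgroup.zpowers y : Subgroup H) ∣ p ^ 2 := by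
    rw [← hcard]; exact Subgroup.card_subgroup_dvd_card _
  obtain ⟨k, hk, hkk⟩ := (Nat.dvd_prime_pow hp.out).1 hdvd
  have hle : Subgroup.zpowers x ≤ Subgroup.zpowers x ⊔ Subgroup.zpowers y := le_sup_left
  have hylt : y ∈ Subgroup.zpowers x ⊔ Subgroup.zpowers y :=
    (le_sup_right : Subgroup.zpowers y ≤ _) (Subgroup.mem_zpowers y)
  have hk2 : k = 2 := by
    by_contra hne
    have hk1 : k ≤ 1 := by omega
    have hcle : Nat.card (Subgroup.zpowers x ⊔ Subgroup.zpowers y : Subgroup H) ≤
        Nat.card (Subgroup.zpowers x) := by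
      rw [hkk, hx]
      calc p ^ k ≤ p ^ 1 := Nat.pow_le_pow_right hp.out.pos hk1
        _ = p := pow_one p
    have heq := Subgroup.eq_of_le_of_card_ge hle hcle
    rw [← heq] at hylt
    exact hy hylt
  rw [hk2, ← hcard] at hkk
  exact (Subgroup.card_eq_iff_eq_top _).1 hkk

omit [Finite H] in
theorem coord_unique (hexp : ∀ x : H, x ^ p = 1) {x y : H}
    (hx1 : x ≠ 1) (hy : y ∉ Subgroup.zpowers x) {i j : ℕ} (h : x ^ i * y ^ j = 1) : p ∣ i ∧ p ∣ j := by
  have hy1 : y ≠ 1 := fun h1 => hy (h1 ▸ Subgroup.one_mem _)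
  have hox : orderOf x = p := orderOf_eq_prime (hexp x) hx1
  have hoy : orderOf y = p := orderOf_eq_prime (hexp y) hy1
  have hyj : y ^ j ∈ Subgroup.zpowers x := by
    have : y ^ j = (x ^ i)⁻¹ := eq_inv_of_mul_eq_one_right h
    rw [this]
    exact Subgroup.inv_mem _ (Subgroup.pow_mem _ (Subgroup.mem_zpowers x) i)
  have hj : p ∣ j := by
    by_contra hnd
    have hcop : j.Coprime (orderOf y) := by
      rw [hoy]
      exact (Nat.Coprime.symm ((Nat.Prime.coprime_iff_not_dvd hp.out).2 hnd))
    obtain ⟨m, hm⟩ := exists_pow_eq_self_of_coprime hcop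
    apply hy
    rw [← hm]
    exact Subgroup.pow_mem _ hyj m
  refine ⟨?_, hj⟩
  have hyj1 : y ^ j = 1 := by
    rw [← hoy] at hj
    exact orderOf_dvd_iff_pow_eq_one.1 hj
  rw [hyj1, mul_one] at h
  rw [← hox]
  exact orderOf_dvd_of_pow_eq_one h

omit [Finite H] in
theorem pow_val_add {x : H} (hx : x ^ p = 1) (c d : ZMod p) :
    x ^ (c + d).val = x ^ c.val * x ^ d.val := by
  rw [ZMod.val_add, ← pow_eq_pow_mod _ hx, pow_add]

end AutFinite

section Coord

variable {H : Type*} [CommGroup H] {p : ℕ} [hp : Fact p.Prime]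

/-- The coordinate homomorphism `(i, j) ↦ x ^ i * y ^ j`. -/
def coordHom (hexp : ∀ h : H, h ^ p = 1) (x y : H) : Multiplicative (Fin 2 → ZMod p) →* H where
  toFun v := x ^ (Multiplicative.toAdd v 0).val * y ^ (Multiplicative.toAdd v 1).val
  map_one' := by simp
  map_mul' v w := by
    simp only [toAdd_mul, Pi.add_apply]
    rw [pow_val_add (hexp x), pow_val_add (hexp y)]
    exact mul_mul_mul_comm _ _ _ _

theorem coordHom_apply (hexp : ∀ h : H, h ^ p = 1) (x y : H) (v : Fin 2 → ZMod p) :
    coordHom hexp x y (Multiplicative.ofAdd v) = x ^ (v 0).val * y ^ (v 1).val := rfl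

theorem coordHom_injective (hexp : ∀ h : H, h ^ p = 1) {x y : H} (hx1 : x ≠ 1)
    (hy : y ∉ Subgroup.zpowers x) : Function.Injective (coordHom hexp x y) := by
  rw [injective_iff_map_eq_one]
  intro v hv
  obtain ⟨h0, h1⟩ := coord_unique hexp hx1 hy hv
  have e0 : Multiplicative.toAdd v 0 = 0 := by
    rw [← ZMod.val_eq_zero]
    exact Nat.eq_zero_of_dvd_of_lt h0 (ZMod.val_lt _)
  have e1 : Multiplicative.toAdd v 1 = 0 := by
    rw [← ZMod.val_eq_zero]
    exact Nat.eq_zero_of_dvd_of_lt h1 (ZMod.val_lt _)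
  have : Multiplicative.toAdd v = 0 := by
    ext i
    fin_cases i
    · exact e0
    · exact e1
  exact this

theorem coordHom_bijective [Finite H] (hcard : Nat.card H = p ^ 2) (hexp : ∀ h : H, h ^ p = 1) {x y : H}
    (hx1 : x ≠ 1) (hy : y ∉ Subgroup.zpowers x) : Function.Bijective (coordHom hexp x y) := by
  apply (coordHom_injective hexp hx1 hy).bijective_of_nat_card_le
  have h1 : Nat.card (Multiplicative (Fin 2 → ZMod p)) = p ^ 2 := by
    show Nat.card (Fin 2 → ZMod p) = p ^ 2
    rw [Nat.card_pi]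
    simp
  rw [h1, hcard]

/-- The endomorphism of `H` given by a matrix, in the coordinates `e`. -/
def slAct (e : Multiplicative (Fin 2 → ZMod p) ≃* H) (M : Matrix (Fin 2) (Fin 2) (ZMod p)) : H →* H where
  toFun h := e (Multiplicative.ofAdd (M *ᵥ Multiplicative.toAdd (e.symm h)))
  map_one' := by simp
  map_mul' h k := by
    rw [map_mul, toAdd_mul, Matrix.mulVec_add, ofAdd_add, map_mul]

theorem slAct_apply (e : Multiplicative (Fin 2 → ZMod p) ≃* H) (M : Matrix (Fin 2) (Fin 2) (ZMod p))
    (v : Fin 2 → ZMod p) : slAct e M (e (Multiplicative.ofAdd v)) = e (Multiplicative.ofAdd (M *ᵥ v)) := by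
  show e (Multiplicative.ofAdd (M *ᵥ Multiplicative.toAdd (e.symm (e (Multiplicative.ofAdd v))))) = _
  rw [MulEquiv.symm_apply_apply, toAdd_ofAdd]

theorem slAct_mul (e : Multiplicative (Fin 2 → ZMod p) ≃* H) (M N : Matrix (Fin 2) (Fin 2) (ZMod p))
    (h : H) : slAct e (M * N) h = slAct e M (slAct e N h) := by
  obtain ⟨v, rfl⟩ := e.surjective h
  obtain ⟨w, rfl⟩ := Multiplicative.ofAdd.surjective v
  rw [slAct_apply, slAct_apply, slAct_apply, Matrix.mulVec_mulVec]

theorem slAct_one (e : Multiplicative (Fin 2 → ZMod p) ≃* H) (h : H) :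
    slAct e (1 : Matrix (Fin 2) (Fin 2) (ZMod p)) h = h := by
  obtain ⟨v, rfl⟩ := e.surjective h
  obtain ⟨w, rfl⟩ := Multiplicative.ofAdd.surjective v
  rw [slAct_apply, Matrix.one_mulVec]

/-- The action of `SL₂(ZMod p)` on `H` in the coordinates `e`. -/
def slHom (e : Multiplicative (Fin 2 → ZMod p) ≃* H) :
    Matrix.SpecialLinearGroup (Fin 2) (ZMod p) →* MulAut H where
  toFun M :=
    { toFun := slAct e (M : Matrix (Fin 2) (Fin 2) (ZMod p))
      invFun := slAct e ((M⁻¹ : Matrix.SpecialLinearGroup (Fin 2) (ZMod p)) : Matrix (Fin 2) (Fin 2) (ZMod p))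
      left_inv := fun h => by
        rw [← slAct_mul, ← Matrix.SpecialLinearGroup.coe_mul, inv_mul_cancel,
          Matrix.SpecialLinearGroup.coe_one, slAct_one]
      right_inv := fun h => by
        rw [← slAct_mul, ← Matrix.SpecialLinearGroup.coe_mul, mul_inv_cancel,
          Matrix.SpecialLinearGroup.coe_one, slAct_one]
      map_mul' := (slAct e (M : Matrix (Fin 2) (Fin 2) (ZMod p))).map_mul }
  map_one' := by
    ext h
    show slAct e ((1 : Matrix.SpecialLinearGroup (Fin 2) (ZMod p)) : Matrix (Fin 2) (Fin 2) (ZMod p)) h = h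
    rw [Matrix.SpecialLinearGroup.coe_one, slAct_one]
  map_mul' M N := by
    ext h
    show slAct e ((M * N : Matrix.SpecialLinearGroup (Fin 2) (ZMod p)) : Matrix (Fin 2) (Fin 2) (ZMod p)) h =
      slAct e (M : Matrix (Fin 2) (Fin 2) (ZMod p)) (slAct e (N : Matrix (Fin 2) (Fin 2) (ZMod p)) h)
    rw [Matrix.SpecialLinearGroup.coe_mul, slAct_mul]

theorem slHom_apply (e : Multiplicative (Fin 2 → ZMod p) ≃* H) (M : Matrix.SpecialLinearGroup (Fin 2) (ZMod p))
    (v : Fin 2 → ZMod p) :
    slHom e M (e (Multiplicative.ofAdd v)) =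
      e (Multiplicative.ofAdd ((M : Matrix (Fin 2) (Fin 2) (ZMod p)) *ᵥ v)) :=
  slAct_apply e _ v

theorem slHom_injective (e : Multiplicative (Fin 2 → ZMod p) ≃* H) : Function.Injective (slHom e) := by
  rw [injective_iff_map_eq_one]
  intro M hM
  apply Matrix.SpecialLinearGroup.ext
  intro i j
  have h1 := slHom_apply e M (Pi.single j 1)
  rw [hM, MulAut.one_apply] at h1
  have h2 := Multiplicative.ofAdd.injective (e.injective h1)
  have h3 := congrFun h2 i
  rw [Matrix.mulVec_single_one] at h3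
  have h4 : (M : Matrix (Fin 2) (Fin 2) (ZMod p)) i j = (Pi.single j 1 : Fin 2 → ZMod p) i := h3.symm
  rw [Matrix.SpecialLinearGroup.coe_one, Matrix.one_apply, h4, Pi.single_apply]

end Coord

section Main

variable {H : Type*} [CommGroup H] [Finite H] {p : ℕ} [hp : Fact p.Prime]

theorem fixSub_eq_zpowers (hcard : Nat.card H = p ^ 2) (hexp : ∀ x : H, x ^ p = 1) {a : MulAut H}
    (hao : orderOf a = p) {x : H} (hx1 : x ≠ 1) (hax : a x = x) : fixSub a = Subgroup.zpowers x := by
  symm
  apply Subgroup.eq_of_le_of_card_ge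
  · rw [Subgroup.zpowers_le]; exact hax
  · rw [card_fixSub hcard hao, Nat.card_zpowers, orderOf_eq_prime (hexp x) hx1]

omit [Finite H] in
theorem slUpper_mulVec (v : Fin 2 → ZMod p) :
    (slUpper (1 : ZMod p) : Matrix (Fin 2) (Fin 2) (ZMod p)) *ᵥ v = ![v 0 + v 1, v 1] := by
  rw [slUpper_coe]
  ext i
  fin_cases i <;> simp [Matrix.mulVec, dotProduct, Fin.sum_univ_two]

omit [Finite H] in
theorem slLower_mulVec (v : Fin 2 → ZMod p) :
    (slLower (1 : ZMod p) : Matrix (Fin 2) (Fin 2) (ZMod p)) *ᵥ v = ![v 0, v 0 + v 1] := by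
  rw [slLower_coe]
  ext i
  fin_cases i <;> simp [Matrix.mulVec, dotProduct, Fin.sum_univ_two]

/-- **`SL₂(p)` inside a group of automorphisms of `C_p × C_p`.** If `G ≤ Aut(H)`, `H` elementary abelian of
order `p²`, contains two elements of order `p` generating different subgroups, then `SL₂(ZMod p)` embeds in
`Aut(H)` with image inside `G`. -/
theorem exists_sl2_hom (hcard : Nat.card H = p ^ 2) (hexp : ∀ x : H, x ^ p = 1)
    (G : Subgroup (MulAut H)) {a b : MulAut H} (ha : a ∈ G) (hb : b ∈ G)
    (hao : orderOf a = p) (hbo : orderOf b = p) (hab : b ∉ Subgroup.zpowers a) :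
    ∃ ρ : Matrix.SpecialLinearGroup (Fin 2) (ZMod p) →* MulAut H,
      Function.Injective ρ ∧ ∀ M, ρ M ∈ G := by
  have hδa := autComm_mem_fixSub hcard hexp hao
  have hδb := autComm_mem_fixSub hcard hexp hbo
  obtain ⟨y, hy1, hby⟩ := exists_fixed_ne_one hcard hbo
  have hCb : fixSub b = Subgroup.zpowers y := fixSub_eq_zpowers hcard hexp hbo hy1 hby
  have hya : y ∉ fixSub a := by
    intro hya
    have hCa : fixSub a = Subgroup.zpowers y := fixSub_eq_zpowers hcard hexp hao hy1 hya
    have hne : fixSub a ≠ ⊤ := by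
      intro htop
      have h1 := card_fixSub hcard hao
      rw [htop, Subgroup.card_top, hcard] at h1
      have hp1 := hp.out.one_lt
      nlinarith
    obtain ⟨w, hw⟩ : ∃ w, w ∉ fixSub a := by
      by_contra hall
      push Not at hall
      exact hne (eq_top_iff.2 (fun w _ => hall w))
    have hxa : autComm a w ∈ fixSub a := hδa w
    have hx1 : autComm a w ≠ 1 := by
      intro h1
      apply hw
      rw [← autComm_ker, MonoidHom.mem_ker]
      exact h1
    have hCa' : fixSub a = Subgroup.zpowers (autComm a w) := fixSub_eq_zpowers hcard hexp hao hx1 hxa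
    have haw : a w = w * autComm a w := by rw [autComm_apply, mul_inv_cancel_left]
    have hbx : b (autComm a w) = autComm a w := by
      have : autComm a w ∈ fixSub b := by rw [hCb, ← hCa]; exact hxa
      exact this
    have hbw' : autComm b w ∈ Subgroup.zpowers (autComm a w) := by
      rw [← hCa', hCa, ← hCb]; exact hδb w
    obtain ⟨j, hj⟩ := (Submonoid.mem_powers_iff _ _).1 (mem_powers_iff_mem_zpowers.2 hbw')
    have hbw : b w = w * autComm a w ^ j := by
      rw [hj, autComm_apply, mul_inv_cancel_left]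
    have hgen : Subgroup.zpowers (autComm a w) ⊔ Subgroup.zpowers w = ⊤ :=
      zpowers_sup_eq_top hcard hexp hx1 (by rw [← hCa']; exact hw)
    have hbeq : b = a ^ j := by
      apply aut_ext_of_gen hgen
      · rw [hbx, aut_pow_apply_fixed hxa]
      · rw [hbw, aut_pow_apply_mul haw hxa]
    apply hab
    rw [hbeq]
    exact Subgroup.pow_mem _ (Subgroup.mem_zpowers a) j
  -- the main case: the fixed subgroups of `a` and `b` are different
  obtain ⟨x, hx⟩ : ∃ x, x = autComm a y := ⟨_, rfl⟩
  have hxa : a x = x := by rw [hx]; exact hδa y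
  have hx1 : x ≠ 1 := by
    intro h1
    apply hya
    rw [← autComm_ker, MonoidHom.mem_ker, ← hx]
    exact h1
  have hCa : fixSub a = Subgroup.zpowers x := fixSub_eq_zpowers hcard hexp hao hx1 hxa
  have hay : a y = y * x := by rw [hx, autComm_apply, mul_inv_cancel_left]
  have hyx : y ∉ Subgroup.zpowers x := by rw [← hCa]; exact hya
  have hxb : x ∉ fixSub b := by
    intro hxb
    have hCb' : fixSub b = Subgroup.zpowers x := fixSub_eq_zpowers hcard hexp hbo hx1 hxb
    apply hya
    rw [hCa, ← hCb']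
    exact hby
  have hδx : autComm b x ∈ Subgroup.zpowers y := by rw [← hCb]; exact hδb x
  obtain ⟨k, hk⟩ := (Submonoid.mem_powers_iff _ _).1 (mem_powers_iff_mem_zpowers.2 hδx)
  have hbx : b x = x * y ^ k := by rw [hk, autComm_apply, mul_inv_cancel_left]
  have hoy : orderOf y = p := orderOf_eq_prime (hexp y) hy1
  have hkp : ¬ p ∣ k := by
    intro hdvd
    apply hxb
    rw [← autComm_ker, MonoidHom.mem_ker, ← hk]
    rw [← hoy] at hdvd
    exact orderOf_dvd_iff_pow_eq_one.1 hdvd
  have hcop : k.Coprime (orderOf y) := by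
    rw [hoy]; exact (Nat.Coprime.symm ((Nat.Prime.coprime_iff_not_dvd hp.out).2 hkp))
  obtain ⟨n, hn⟩ := exists_pow_eq_self_of_coprime hcop
  have hb'y : (b ^ n) y = y := aut_pow_apply_fixed hby n
  have hbyk : b (y ^ k) = y ^ k := by rw [map_pow, hby]
  have hb'x : (b ^ n) x = x * y := by rw [aut_pow_apply_mul hbx hbyk, hn]
  -- coordinates
  let e : Multiplicative (Fin 2 → ZMod p) ≃* H :=
    MulEquiv.ofBijective (coordHom hexp x y) (coordHom_bijective hcard hexp hx1 hyx)
  have he : ∀ v : Fin 2 → ZMod p, e (Multiplicative.ofAdd v) = x ^ (v 0).val * y ^ (v 1).val :=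
    fun v => rfl
  refine ⟨slHom e, slHom_injective e, ?_⟩
  have hU : slHom e (slUpper 1) = a := by
    ext h
    obtain ⟨v, rfl⟩ := e.surjective h
    obtain ⟨w, rfl⟩ := Multiplicative.ofAdd.surjective v
    rw [slHom_apply, slUpper_mulVec, he, he, map_mul, map_pow, map_pow, hxa, hay]
    simp only [Matrix.cons_val_zero, Matrix.cons_val_one]
    rw [pow_val_add (hexp x), mul_pow, mul_assoc, mul_comm (x ^ (w 1).val)]
  have hL : slHom e (slLower 1) = b ^ n := by
    ext h
    obtain ⟨v, rfl⟩ := e.surjective h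
    obtain ⟨w, rfl⟩ := Multiplicative.ofAdd.surjective v
    rw [slHom_apply, slLower_mulVec, he, he, map_mul, map_pow, map_pow, hb'x, hb'y]
    simp only [Matrix.cons_val_zero, Matrix.cons_val_one]
    rw [pow_val_add (hexp y), mul_pow, mul_assoc]
  have hcomap : (⊤ : Subgroup (Matrix.SpecialLinearGroup (Fin 2) (ZMod p))) ≤ G.comap (slHom e) := by
    rw [← sl2_closure_eq_top p, Subgroup.closure_le]
    rintro M (rfl | rfl)
    · show slHom e (slUpper 1) ∈ G
      rw [hU]; exact ha
    · show slHom e (slLower 1) ∈ G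
      rw [hL]; exact G.pow_mem hb n
  intro M
  exact hcomap (Subgroup.mem_top M)

end Main

section Wrap

/-- `exists_sl2_hom` for a group given with a proof of commutativity. -/
theorem exists_sl2_hom' {H : Type*} [Group H] [Finite H] {p : ℕ} [hp : Fact p.Prime]
    (hcomm : ∀ x y : H, x * y = y * x) (hcard : Nat.card H = p ^ 2) (hexp : ∀ x : H, x ^ p = 1)
    (G : Subgroup (MulAut H)) {a b : MulAut H} (ha : a ∈ G) (hb : b ∈ G)
    (hao : orderOf a = p) (hbo : orderOf b = p) (hab : b ∉ Subgroup.zpowers a) :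
    ∃ ρ : Matrix.SpecialLinearGroup (Fin 2) (ZMod p) →* MulAut H,
      Function.Injective ρ ∧ ∀ M, ρ M ∈ G := by
  letI : CommGroup H := { ‹Group H› with mul_comm := hcomm }
  exact exists_sl2_hom hcard hexp G ha hb hao hbo hab

/-- A finite group of order divisible by `p` without nontrivial normal `p`-subgroups has two elements of
order `p` generating different subgroups. -/
theorem exists_two_orderOf_eq_prime {G : Type*} [Group G] [Finite G] {p : ℕ} [hp : Fact p.Prime]
    (hdvd : p ∣ Nat.card G) (hcore : ∀ N : Subgroup G, N.Normal → IsPGroup p N → N = ⊥) :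
    ∃ a b : G, orderOf a = p ∧ orderOf b = p ∧ b ∉ Subgroup.zpowers a := by
  obtain ⟨a, ha⟩ := exists_prime_orderOf_dvd_card' p hdvd
  by_contra hne
  push Not at hne
  have hall : ∀ b : G, orderOf b = p → b ∈ Subgroup.zpowers a := fun b hb => hne a b ha hb
  have hN : (Subgroup.zpowers a).Normal := by
    constructor
    intro n hn g
    obtain ⟨k, rfl⟩ := Subgroup.mem_zpowers_iff.1 hn
    have h1 : orderOf (g * a * g⁻¹) = p := by
      have hs : SemiconjBy g a (g * a * g⁻¹) := by
        show g * a = g * a * g⁻¹ * g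
        group
      rw [← ha]
      exact (hs.orderOf_eq g).symm
    rw [← conj_zpow]
    exact Subgroup.zpow_mem _ (hall _ h1) k
  have hP : IsPGroup p (Subgroup.zpowers a) := by
    apply IsPGroup.of_card (n := 1)
    rw [Nat.card_zpowers, ha, pow_one]
  have hbot := hcore _ hN hP
  have ha1 : a = 1 := by
    have : a ∈ Subgroup.zpowers a := Subgroup.mem_zpowers a
    rw [hbot, Subgroup.mem_bot] at this
    exact this
  rw [ha1, orderOf_one] at ha
  exact hp.out.one_lt.ne ha

/-- The automorphism group of a cyclic group is commutative. -/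
theorem mulAut_comm_of_isCyclic {H : Type*} [Group H] [IsCyclic H] (α β : MulAut H) : α * β = β * α := by
  apply (IsCyclic.mulAutMulEquiv H).injective
  rw [map_mul, map_mul, mul_comm]

end Wrap

end Cfsg.Agent.H86
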