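import Cfsg.Agent.H86.FusExt
import Cfsg.Agent.H86.SuperSol
import Cfsg.Agent.H86.CharChain

set_option autoImplicit false
set_option maxHeartbeats 400000

/-!
An essential subgroup has no chain of `Aut_F`-invariant subgroups with cyclic steps; `F`-automorphisms
acting trivially on the factors of an invariant chain are inner.
-/

open Cfsg Cfsg.FusionSystem

namespace Cfsg.Agent.H86

variable {Ω : Type*} [Group Ω] {S : Subgroup Ω}

/-- For an essential subgroup `P`, `Out_F(P)` is not abelian. -/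
theorem essential_exists_comm_notMem_inn [Finite S] {p : ℕ} [Fact p.Prime] (hS : IsPGroup p S)
    {F : FusionSystem S} {P : Subgroup Ω} (hP : F.IsEssential p P) :
    ¬ ∀ a ∈ F.autGroup P, ∀ b ∈ F.autGroup P, a * b * a⁻¹ * b⁻¹ ∈ Inn P := by
  intro hcomm
  have hrad := radical_of_essential hS hP
  obtain ⟨hcen, hfn, hnorm, E, hE⟩ := hP
  have hPS : P ≤ S := hcen.1
  haveI : Finite P := finite_of_le hPS
  have hInn : Inn P ≤ F.autGroup P := inn_le_autGroup F hPS
  have hcore : pCore p (F.autGroup P) = (Inn P).subgroupOf (F.autGroup P) := by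
    apply Subgroup.map_injective (Subgroup.subtype_injective (F.autGroup P))
    rw [hrad.2, Subgroup.map_subgroupOf_eq_of_le hInn]
  let R : Sylow p (F.autGroup P) := default
  have hNp : IsPGroup p ((Inn P).subgroupOf (F.autGroup P)) := by
    rw [← hcore]
    exact R.isPGroup'.to_le (pCore_le_sylow R)
  have hM : ((R : Subgroup (F.autGroup P)) ⊔ (Inn P).subgroupOf (F.autGroup P)).Normal := by
    constructor
    intro m hm g
    have h1 : g * m * g⁻¹ * m⁻¹ ∈ (Inn P).subgroupOf (F.autGroup P) := by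
      rw [Subgroup.mem_subgroupOf]
      have := hcomm g g.2 m m.2
      simpa using this
    have h2 : g * m * g⁻¹ = (g * m * g⁻¹ * m⁻¹) * m := by group
    rw [h2]
    exact Subgroup.mul_mem _ (Subgroup.mem_sup_right h1) hm
  have hMp : IsPGroup p ((R : Subgroup (F.autGroup P)) ⊔ (Inn P).subgroupOf (F.autGroup P) :
      Subgroup (F.autGroup P)) := IsPGroup.to_sup_of_normal_right R.isPGroup' hNp
  have hle := le_pCore hM hMp
  have hRN : (R : Subgroup (F.autGroup P)) = (Inn P).subgroupOf (F.autGroup P) := by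
    apply le_antisymm
    · rw [← hcore]
      exact le_sup_left.trans hle
    · rw [← hcore]
      exact pCore_le_sylow R
  have h1 : p ∣ ((Inn P).subgroupOf (F.autGroup P)).index := by
    rw [Subgroup.index_eq_card]
    exact hE.1
  rw [← hRN] at h1
  exact R.not_dvd_index h1

/-- An `F`-automorphism of an essential subgroup acting trivially on the factors of an
`Aut_F`-invariant chain is inner. -/
theorem essential_stab_mem_inn [Finite S] {p : ℕ} [Fact p.Prime] (hS : IsPGroup p S)
    {F : FusionSystem S} {P : Subgroup Ω} (hP : F.IsEssential p P) (m : ℕ) (C : ℕ → Subgroup P)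
    (h0 : C 0 = ⊥) (hm : C m = ⊤)
    (hinv : ∀ a ∈ F.autGroup P, ∀ i, ∀ y ∈ C i, a y ∈ C i)
    {c : MulAut P} (hc : c ∈ F.autGroup P)
    (hstab : ∀ i < m, ∀ y ∈ C (i + 1), y⁻¹ * c y ∈ C i) : c ∈ Inn P := by
  have hp : p.Prime := Fact.out
  have hrad := radical_of_essential hS hP
  have hPS : P ≤ S := hP.1.1
  haveI : Finite P := finite_of_le hPS
  have hPp : IsPGroup p P := hS.to_le hPS
  let U : Subgroup (F.autGroup P) :=
    { carrier := {a | ∀ i < m, ∀ y ∈ C (i + 1), y⁻¹ * (a : MulAut P) y ∈ C i}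
      one_mem' := by
        intro i _ y _
        simp
      mul_mem' := by
        intro a b ha hb i hi y hy
        have h1 := hb i hi y hy
        have h2 := ha i hi ((b : MulAut P) y) (hinv b b.2 (i + 1) y hy)
        have h3 : y⁻¹ * ((a * b : F.autGroup P) : MulAut P) y
            = (y⁻¹ * (b : MulAut P) y) * (((b : MulAut P) y)⁻¹ * (a : MulAut P) ((b : MulAut P) y)) := by
          rw [Subgroup.coe_mul, MulAut.mul_apply]
          group
        rw [h3]
        exact Subgroup.mul_mem _ h1 h2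
      inv_mem' := by
        intro a ha i hi y hy
        have hw := hinv (a⁻¹ : F.autGroup P) (a⁻¹ : F.autGroup P).2 (i + 1) y hy
        have h1 := ha i hi _ hw
        have h2 : (a : MulAut P) (((a⁻¹ : F.autGroup P) : MulAut P) y) = y := by
          rw [Subgroup.coe_inv]
          exact MulAut.apply_inv_self _ (a : MulAut P) y
        rw [h2] at h1
        have h3 : y⁻¹ * ((a⁻¹ : F.autGroup P) : MulAut P) y
            = ((((a⁻¹ : F.autGroup P) : MulAut P) y)⁻¹ * y)⁻¹ := by group
        rw [h3]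
        exact Subgroup.inv_mem _ h1 }
  have hUmem : ∀ a : F.autGroup P, a ∈ U ↔ ∀ i < m, ∀ y ∈ C (i + 1), y⁻¹ * (a : MulAut P) y ∈ C i :=
    fun a => Iff.rfl
  have hUn : U.Normal := by
    constructor
    intro a ha g
    rw [hUmem]
    intro i hi y hy
    have hw := hinv (g⁻¹ : F.autGroup P) (g⁻¹ : F.autGroup P).2 (i + 1) y hy
    have h1 := (hUmem a).1 ha i hi _ hw
    have h2 := hinv g g.2 i _ h1
    have h3 : y⁻¹ * ((g * a * g⁻¹ : F.autGroup P) : MulAut P) y
        = (g : MulAut P) ((((g⁻¹ : F.autGroup P) : MulAut P) y)⁻¹ *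
          (a : MulAut P) (((g⁻¹ : F.autGroup P) : MulAut P) y)) := by
      rw [map_mul, map_inv, Subgroup.coe_mul, Subgroup.coe_mul, MulAut.mul_apply, MulAut.mul_apply,
        Subgroup.coe_inv, MulAut.apply_inv_self]
    rw [h3]
    exact h2
  have hUp : IsPGroup p U := by
    intro u
    obtain ⟨e, n', hn', hn⟩ := Nat.exists_eq_pow_mul_and_not_dvd
      (orderOf_pos ((u : F.autGroup P) : MulAut P)).ne' p hp.ne_one
    refine ⟨e, ?_⟩
    have hβ : (((u : F.autGroup P) : MulAut P) ^ p ^ e) ^ n' = 1 := by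
      rw [← pow_mul, ← hn, pow_orderOf_eq_one]
    have hst : ∀ i < m, ∀ y ∈ C (i + 1), y⁻¹ * (((u : F.autGroup P) : MulAut P) ^ p ^ e) y ∈ C i := by
      intro i hi y hy
      have := (hUmem ((u ^ p ^ e : U) : F.autGroup P)).1 (u ^ p ^ e).2 i hi y hy
      simpa using this
    have h1 := eq_one_of_stab hPp C m h0 hm (((u : F.autGroup P) : MulAut P) ^ p ^ e)
      ((Nat.Prime.coprime_iff_not_dvd hp).2 hn').symm hβ hst
    apply Subtype.ext
    apply Subtype.ext
    simpa using h1
  have hle := le_pCore hUn hUp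
  have hcU : (⟨c, hc⟩ : F.autGroup P) ∈ U := (hUmem _).2 hstab
  have h1 : c ∈ (pCore p (F.autGroup P)).map (F.autGroup P).subtype :=
    ⟨⟨c, hc⟩, hle hcU, rfl⟩
  rw [hrad.2] at h1
  exact h1

/-- An essential subgroup has no chain of `Aut_F`-invariant subgroups with cyclic steps. -/
theorem essential_no_chain [Finite S] {p : ℕ} [Fact p.Prime] (hS : IsPGroup p S)
    {F : FusionSystem S} {P : Subgroup Ω} (hP : F.IsEssential p P) (m : ℕ) (C : ℕ → Subgroup P)
    (h0 : C 0 = ⊥) (hm : C m = ⊤)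
    (hinv : ∀ a ∈ F.autGroup P, ∀ i, ∀ y ∈ C i, a y ∈ C i)
    (hstep : ∀ i < m, ∃ x : P, C (i + 1) = C i ⊔ Subgroup.zpowers x) : False := by
  have hPS : P ≤ S := hP.1.1
  haveI : Finite P := finite_of_le hPS
  have hInn : Inn P ≤ F.autGroup P := inn_le_autGroup F hPS
  have hnorm : ∀ i, (C i).Normal := by
    intro i
    constructor
    intro n hn g
    have := hinv (MulAut.conj g) (hInn ⟨g, rfl⟩) i n hn
    simpa [MulAut.conj_apply] using this
  apply essential_exists_comm_notMem_inn hS hP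
  intro a ha b hb
  have hai : a⁻¹ ∈ F.autGroup P := Subgroup.inv_mem _ ha
  have hbi : b⁻¹ ∈ F.autGroup P := Subgroup.inv_mem _ hb
  apply essential_stab_mem_inn hS hP m C h0 hm hinv
    (Subgroup.mul_mem _ (Subgroup.mul_mem _ (Subgroup.mul_mem _ ha hb) hai) hbi)
  intro i hi y hy
  haveI := hnorm i
  obtain ⟨x, hx⟩ := hstep i hi
  rw [hx] at hy
  have hM : ∀ g ∈ F.autGroup P, ∀ y ∈ C i ⊔ Subgroup.zpowers x, g y ∈ C i ⊔ Subgroup.zpowers x := by
    intro g hg y hy
    rw [← hx] at hy ⊢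
    exact hinv g hg (i + 1) y hy
  obtain ⟨ka, hka⟩ := exists_pow_rep (C i) x a (hinv a ha i) (hM a ha)
  obtain ⟨kb, hkb⟩ := exists_pow_rep (C i) x b (hinv b hb i) (hM b hb)
  obtain ⟨ka', hka'⟩ := exists_pow_rep (C i) x a⁻¹ (hinv _ hai i) (hM _ hai)
  obtain ⟨kb', hkb'⟩ := exists_pow_rep (C i) x b⁻¹ (hinv _ hbi i) (hM _ hbi)
  have e1 : QuotientGroup.mk' (C i) ((a * b * a⁻¹ * b⁻¹) y)
      = (QuotientGroup.mk' (C i) y) ^ (kb' * (ka' * (kb * ka))) := by
    rw [MulAut.mul_apply, MulAut.mul_apply, MulAut.mul_apply,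
      hka _ (hM b hb _ (hM _ hai _ (hM _ hbi _ hy))), hkb _ (hM _ hai _ (hM _ hbi _ hy)),
      hka' _ (hM _ hbi _ hy), hkb' _ hy, ← pow_mul, ← pow_mul, ← pow_mul]
  have e2 : (QuotientGroup.mk' (C i) y) ^ (ka' * ka) = QuotientGroup.mk' (C i) y := by
    have h1 := hka _ (hM _ hai _ hy)
    rw [MulAut.apply_inv_self, hka' _ hy, ← pow_mul] at h1
    exact h1.symm
  have e3 : (QuotientGroup.mk' (C i) y) ^ (kb' * kb) = QuotientGroup.mk' (C i) y := by
    have h1 := hkb _ (hM _ hbi _ hy)
    rw [MulAut.apply_inv_self, hkb' _ hy, ← pow_mul] at h1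
    exact h1.symm
  have e4 : QuotientGroup.mk' (C i) ((a * b * a⁻¹ * b⁻¹) y) = QuotientGroup.mk' (C i) y := by
    rw [e1, show kb' * (ka' * (kb * ka)) = (kb' * kb) * (ka' * ka) by ring, pow_mul, e3, e2]
  rw [← mk'_eq_one_iff (N := C i), map_mul, map_inv, e4, inv_mul_cancel]

/-- An essential subgroup has no chain of characteristic subgroups with cyclic steps. -/
theorem essential_no_charChain [Finite S] {p : ℕ} [Fact p.Prime] (hS : IsPGroup p S)
    {F : FusionSystem S} {P : Subgroup Ω} (hP : F.IsEssential p P) :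
    ¬ CharChain (⊥ : Subgroup P) ⊤ := by
  rintro ⟨m, D, h0, hm, hchar, hstep⟩
  exact essential_no_chain hS hP m D h0 hm (fun a _ i y hy => hchar i a y hy)
    (fun i hi => (hstep i hi).2)

end Cfsg.Agent.H86
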