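import Mathlib
import Cfsg.Agent.H45.D4Defs

set_option autoImplicit false

/-!
# S1082, piece P-HOM (helper86 for helper45): `rho` is multiplicative on isometries
-/

namespace Cfsg.Agent.H86.D4

open Matrix Cfsg.Agent.H49 Cfsg.Agent.H45.D4

variable {F : Type*} [Field F]

/-! ### integer table facts -/

theorem tab_one : ∀ row col : Idx,
    c0 col * cc row + Matrix.trace ((Xtab col)ᵀ * Mtab row) = if row = col then 1 else 0 := by
  decide +kernel

theorem tab_symm : ∀ (row : Idx) (a b : I8),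
    Mtab row a b + Mtab row b a = cc row * Bmat ℤ a b := by
  decide +kernel

theorem tab_diag : ∀ (row : Idx) (a : I8), Mtab row a a = 0 := by
  decide +kernel

theorem tab_B : ∀ col : Idx, 2 * c0 col + Matrix.trace ((Xtab col)ᵀ * Bmat ℤ) = 0 := by
  decide +kernel

/-! ### casting -/

theorem trace_cast (A B : Matrix I8 I8 ℤ) :
    Matrix.trace ((A.map (Int.cast : ℤ → F))ᵀ * B.map (Int.cast : ℤ → F))
      = ((Matrix.trace (Aᵀ * B) : ℤ) : F) := by
  simp only [Matrix.trace, Matrix.diag_apply, Matrix.mul_apply, Matrix.transpose_apply,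
    Matrix.map_apply]
  push_cast
  rfl

theorem Bmat_cast : (Bmat ℤ).map (Int.cast : ℤ → F) = Bmat F := by
  ext a b
  rcases a with a | a <;> rcases b with b | b <;>
    simp [Bmat, Matrix.one_apply, apply_ite (Int.cast : ℤ → F)]

theorem Bmat_apply_cast (a b : I8) : ((Bmat ℤ a b : ℤ) : F) = Bmat F a b := by
  rw [← Bmat_cast]; rfl

/-- the dual functionals pair with the basis vectors as the identity matrix (cast to `F`). -/
theorem pair_cast (k col : Idx) :
    ((c0 col * cc k : ℤ) : F)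
      + Matrix.trace (((Xtab col).map (Int.cast : ℤ → F))ᵀ * (Mtab k).map (Int.cast : ℤ → F))
      = if k = col then 1 else 0 := by
  rw [trace_cast, ← Int.cast_add, tab_one k col]
  split_ifs <;> simp

theorem pairB_cast (col : Idx) :
    2 * ((c0 col : ℤ) : F)
      + Matrix.trace (((Xtab col).map (Int.cast : ℤ → F))ᵀ * Bmat F) = 0 := by
  rw [← Bmat_cast, trace_cast]
  have := congrArg (Int.cast : ℤ → F) (tab_B col)
  push_cast at this
  exact this

/-! ### quadratic forms of matrices -/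

theorem quad_of_alt (N : Matrix I8 I8 F) (c : F) (hd : ∀ a, N a a = 0)
    (hs : ∀ a b, N a b + N b a = c * Bmat F a b) (v : I8 → F) :
    v ⬝ᵥ N *ᵥ v = c * Cfsg.quadFormPlus 4 F v := by
  have hxx : ∀ i j : Fin 4, N (Sum.inl i) (Sum.inl j) + N (Sum.inl j) (Sum.inl i) = 0 := by
    intro i j
    simpa [Bmat] using hs (Sum.inl i) (Sum.inl j)
  have hyy : ∀ i j : Fin 4, N (Sum.inr i) (Sum.inr j) + N (Sum.inr j) (Sum.inr i) = 0 := by
    intro i j
    simpa [Bmat] using hs (Sum.inr i) (Sum.inr j)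
  have hxyd : ∀ i : Fin 4, N (Sum.inl i) (Sum.inr i) + N (Sum.inr i) (Sum.inl i) = c := by
    intro i
    simpa [Bmat] using hs (Sum.inl i) (Sum.inr i)
  have hxyn : ∀ i j : Fin 4, i ≠ j →
      N (Sum.inl i) (Sum.inr j) + N (Sum.inr j) (Sum.inl i) = 0 := by
    intro i j hij
    simpa [Bmat, Matrix.one_apply_ne hij] using hs (Sum.inl i) (Sum.inr j)
  simp only [dotProduct, Matrix.mulVec, Fintype.sum_sum_type, Fin.sum_univ_four,
    Cfsg.quadFormPlus]
  linear_combination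
    v (Sum.inl 0) * v (Sum.inl 0) * hd (Sum.inl 0) +
    v (Sum.inl 1) * v (Sum.inl 1) * hd (Sum.inl 1) +
    v (Sum.inl 2) * v (Sum.inl 2) * hd (Sum.inl 2) +
    v (Sum.inl 3) * v (Sum.inl 3) * hd (Sum.inl 3) +
    v (Sum.inr 0) * v (Sum.inr 0) * hd (Sum.inr 0) +
    v (Sum.inr 1) * v (Sum.inr 1) * hd (Sum.inr 1) +
    v (Sum.inr 2) * v (Sum.inr 2) * hd (Sum.inr 2) +
    v (Sum.inr 3) * v (Sum.inr 3) * hd (Sum.inr 3) +
    v (Sum.inl 0) * v (Sum.inl 1) * hxx 0 1 +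
    v (Sum.inl 0) * v (Sum.inl 2) * hxx 0 2 +
    v (Sum.inl 0) * v (Sum.inl 3) * hxx 0 3 +
    v (Sum.inl 0) * v (Sum.inr 0) * hxyd 0 +
    v (Sum.inl 0) * v (Sum.inr 1) * hxyn 0 1 (by decide) +
    v (Sum.inl 0) * v (Sum.inr 2) * hxyn 0 2 (by decide) +
    v (Sum.inl 0) * v (Sum.inr 3) * hxyn 0 3 (by decide) +
    v (Sum.inl 1) * v (Sum.inl 2) * hxx 1 2 +
    v (Sum.inl 1) * v (Sum.inl 3) * hxx 1 3 +
    v (Sum.inl 1) * v (Sum.inr 0) * hxyn 1 0 (by decide) +
    v (Sum.inl 1) * v (Sum.inr 1) * hxyd 1 +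
    v (Sum.inl 1) * v (Sum.inr 2) * hxyn 1 2 (by decide) +
    v (Sum.inl 1) * v (Sum.inr 3) * hxyn 1 3 (by decide) +
    v (Sum.inl 2) * v (Sum.inl 3) * hxx 2 3 +
    v (Sum.inl 2) * v (Sum.inr 0) * hxyn 2 0 (by decide) +
    v (Sum.inl 2) * v (Sum.inr 1) * hxyn 2 1 (by decide) +
    v (Sum.inl 2) * v (Sum.inr 2) * hxyd 2 +
    v (Sum.inl 2) * v (Sum.inr 3) * hxyn 2 3 (by decide) +
    v (Sum.inl 3) * v (Sum.inr 0) * hxyn 3 0 (by decide) +
    v (Sum.inl 3) * v (Sum.inr 1) * hxyn 3 1 (by decide) +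
    v (Sum.inl 3) * v (Sum.inr 2) * hxyn 3 2 (by decide) +
    v (Sum.inl 3) * v (Sum.inr 3) * hxyd 3 +
    v (Sum.inr 0) * v (Sum.inr 1) * hyy 0 1 +
    v (Sum.inr 0) * v (Sum.inr 2) * hyy 0 2 +
    v (Sum.inr 0) * v (Sum.inr 3) * hyy 0 3 +
    v (Sum.inr 1) * v (Sum.inr 2) * hyy 1 2 +
    v (Sum.inr 1) * v (Sum.inr 3) * hyy 1 3 +
    v (Sum.inr 2) * v (Sum.inr 3) * hyy 2 3

theorem quad_Mtab (k : Idx) (v : I8 → F) :
    v ⬝ᵥ ((Mtab k).map (Int.cast : ℤ → F)) *ᵥ v = ((cc k : ℤ) : F) * Cfsg.quadFormPlus 4 F v := by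
  apply quad_of_alt
  · intro a
    simp [tab_diag k a]
  · intro a b
    have := congrArg (Int.cast : ℤ → F) (tab_symm k a b)
    push_cast at this
    rw [Bmat_apply_cast] at this
    simpa using this

/-! ### linear functionals on matrices -/

/-- `A ↦ vᵀ A v`. -/
def qfL (v : I8 → F) : Matrix I8 I8 F →ₗ[F] F where
  toFun A := v ⬝ᵥ A *ᵥ v
  map_add' A B := by simp [Matrix.add_mulVec, dotProduct_add]
  map_smul' c A := by simp [Matrix.smul_mulVec, dotProduct_smul]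

theorem qfL_apply (v : I8 → F) (A : Matrix I8 I8 F) : qfL v A = v ⬝ᵥ A *ᵥ v := rfl

/-- `A ↦ tr(Xᵀ A)`. -/
def trL (X : Matrix I8 I8 F) : Matrix I8 I8 F →ₗ[F] F where
  toFun A := Matrix.trace (Xᵀ * A)
  map_add' A B := by simp [Matrix.mul_add, Matrix.trace_add]
  map_smul' c A := by simp [Matrix.mul_smul, Matrix.trace_smul]

theorem trL_apply (X A : Matrix I8 I8 F) : trL X A = Matrix.trace (Xᵀ * A) := rfl

theorem qf_conj (g M : Matrix I8 I8 F) (v : I8 → F) :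
    v ⬝ᵥ (gᵀ * M * g) *ᵥ v = (g *ᵥ v) ⬝ᵥ M *ᵥ (g *ᵥ v) := by
  rw [← Matrix.mulVec_mulVec, ← Matrix.mulVec_mulVec, Matrix.dotProduct_mulVec,
    Matrix.vecMul_transpose]

theorem bil_conj (g M : Matrix I8 I8 F) (v w : I8 → F) :
    v ⬝ᵥ (gᵀ * M * g) *ᵥ w = (g *ᵥ v) ⬝ᵥ M *ᵥ (g *ᵥ w) := by
  rw [← Matrix.mulVec_mulVec, ← Matrix.mulVec_mulVec, Matrix.dotProduct_mulVec,
    Matrix.vecMul_transpose]

theorem polar_Bmat (v w : I8 → F) :
    v ⬝ᵥ Bmat F *ᵥ w = Cfsg.quadFormPlus 4 F (v + w) - Cfsg.quadFormPlus 4 F v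
      - Cfsg.quadFormPlus 4 F w := by
  simp only [dotProduct, Matrix.mulVec, Fintype.sum_sum_type, Fin.sum_univ_four,
    Cfsg.quadFormPlus, Bmat, Matrix.fromBlocks_apply₁₁, Matrix.fromBlocks_apply₁₂,
    Matrix.fromBlocks_apply₂₁, Matrix.fromBlocks_apply₂₂, Pi.add_apply, Matrix.zero_apply]
  simp [Matrix.one_apply]
  ring

theorem single_bil (A : Matrix I8 I8 F) (a b : I8) :
    (Pi.single a 1 : I8 → F) ⬝ᵥ A *ᵥ (Pi.single b 1) = A a b := by
  simp

theorem Bmat_conj (h : Matrix I8 I8 F)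
    (hh : ∀ v : I8 → F, Cfsg.quadFormPlus 4 F (h *ᵥ v) = Cfsg.quadFormPlus 4 F v) :
    hᵀ * Bmat F * h = Bmat F := by
  ext a b
  rw [← single_bil (hᵀ * Bmat F * h) a b, ← single_bil (Bmat F) a b, bil_conj, polar_Bmat,
    polar_Bmat, ← Matrix.mulVec_add, hh, hh, hh]

/-! ### the two theorems -/

theorem rho_one : rho F (1 : Matrix I8 I8 F) = 1 := by
  ext row col
  simp only [rho, Matrix.of_apply, Matrix.transpose_one, Matrix.mul_one]
  rw [pair_cast row col, Matrix.one_apply]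

theorem rho_apply (g : Matrix I8 I8 F) (row col : Idx) :
    rho F g row col = ((c0 col * cc row : ℤ) : F)
      + Matrix.trace (((Xtab col).map (Int.cast : ℤ → F))ᵀ
          * (gᵀ * (Mtab row).map (Int.cast : ℤ → F) * g)) := by
  simp only [rho, Matrix.of_apply, Matrix.mul_assoc]

theorem rho_mul (hK : KerPair F) (g h : Matrix I8 I8 F)
    (hg : ∀ v : I8 → F, Cfsg.quadFormPlus 4 F (g *ᵥ v) = Cfsg.quadFormPlus 4 F v)
    (hh : ∀ v : I8 → F, Cfsg.quadFormPlus 4 F (h *ᵥ v) = Cfsg.quadFormPlus 4 F v) :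
    rho F (g * h) = rho F g * rho F h := by
  ext row col
  obtain ⟨Mh, hMh⟩ : ∃ Mh : Idx → Matrix I8 I8 F,
      Mh = fun k => (Mtab k).map (Int.cast : ℤ → F) := ⟨_, rfl⟩
  obtain ⟨Xh, hXh⟩ : ∃ Xh : Idx → Matrix I8 I8 F,
      Xh = fun k => (Xtab k).map (Int.cast : ℤ → F) := ⟨_, rfl⟩
  have hMk : ∀ k, (Mtab k).map (Int.cast : ℤ → F) = Mh k := fun k => by rw [hMh]
  have hXk : ∀ k, (Xtab k).map (Int.cast : ℤ → F) = Xh k := fun k => by rw [hXh]
  -- basic facts in the new notation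
  have hrho : ∀ (x : Matrix I8 I8 F) (r c : Idx),
      rho F x r c = ((c0 c * cc r : ℤ) : F) + trL (Xh c) (xᵀ * Mh r * x) := by
    intro x r c
    rw [rho_apply, hMk, hXk]; rfl
  have hpair : ∀ k c : Idx,
      ((c0 c * cc k : ℤ) : F) + trL (Xh c) (Mh k) = if k = c then 1 else 0 := by
    intro k c
    have := pair_cast (F := F) k c
    rw [hMk, hXk] at this
    exact this
  have hpairB : ∀ c : Idx, 2 * ((c0 c : ℤ) : F) + trL (Xh c) (Bmat F) = 0 := by
    intro c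
    have := pairB_cast (F := F) c
    rw [hXk] at this
    exact this
  have hquad : ∀ (k : Idx) (v : I8 → F),
      qfL v (Mh k) = ((cc k : ℤ) : F) * Cfsg.quadFormPlus 4 F v := by
    intro k v
    have := quad_Mtab (F := F) k v
    rw [hMk] at this
    exact this
  -- the functional `M' = gᵀ M_row g`
  obtain ⟨M', hM'⟩ : ∃ M' : Matrix I8 I8 F, M' = gᵀ * Mh row * g := ⟨_, rfl⟩
  obtain ⟨R, hR⟩ : ∃ R : Matrix I8 I8 F, R = M' - ∑ k, rho F g row k • Mh k := ⟨_, rfl⟩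
  obtain ⟨σ2, hσ2⟩ : ∃ σ2 : F, σ2 = ∑ k, rho F g row k * ((cc k : ℤ) : F) := ⟨_, rfl⟩
  obtain ⟨c, hc⟩ : ∃ c : F, c = ((cc row : ℤ) : F) - σ2 := ⟨_, rfl⟩
  have h1 : ∀ v : I8 → F, v ⬝ᵥ R *ᵥ v = c * Cfsg.quadFormPlus 4 F v := by
    intro v
    rw [← qfL_apply, hR, map_sub, map_sum]
    have e1 : qfL v M' = ((cc row : ℤ) : F) * Cfsg.quadFormPlus 4 F v := by
      rw [hM', qfL_apply, qf_conj, ← qfL_apply, hquad, hg]
    have e2 : ∑ k, qfL v (rho F g row k • Mh k) = σ2 * Cfsg.quadFormPlus 4 F v := by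
      rw [hσ2, Finset.sum_mul]
      refine Finset.sum_congr rfl fun k _ => ?_
      rw [map_smul, hquad, smul_eq_mul, mul_assoc]
    rw [e1, e2, hc]
    ring
  have h2 : ∀ col : Idx, ((c0 col : ℤ) : F) * c
      + Matrix.trace (((Xtab col).map (Int.cast : ℤ → F))ᵀ * R) = 0 := by
    intro col
    rw [hXk, ← trL_apply, hR, map_sub, map_sum]
    have e1 : trL (Xh col) M' = rho F g row col - ((c0 col * cc row : ℤ) : F) := by
      rw [hrho g row col, hM']; ring
    have e2 : ∑ k, trL (Xh col) (rho F g row k • Mh k)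
        = rho F g row col - ((c0 col : ℤ) : F) * σ2 := by
      have : ∀ k, trL (Xh col) (rho F g row k • Mh k)
          = rho F g row k * (if k = col then 1 else 0)
            - ((c0 col : ℤ) : F) * (rho F g row k * ((cc k : ℤ) : F)) := by
        intro k
        rw [map_smul, smul_eq_mul, ← hpair k col]
        push_cast
        ring
      rw [Finset.sum_congr rfl fun k _ => this k, Finset.sum_sub_distrib, ← Finset.mul_sum,
        ← hσ2]
      simp
    rw [e1, e2, hc]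
    push_cast
    ring
  obtain ⟨μ, hμ, hcμ⟩ := hK c R h1 h2
  have hM'eq : M' = ∑ k, rho F g row k • Mh k + μ • Bmat F := by
    rw [← hμ, hR]; abel
  have hB := Bmat_conj h hh
  -- the product
  have e3 : rho F (g * h) row col
      = ((c0 col * cc row : ℤ) : F) + trL (Xh col) (hᵀ * M' * h) := by
    rw [hrho, hM']
    congr 2
    simp only [Matrix.transpose_mul, Matrix.mul_assoc]
  have e4 : hᵀ * M' * h = ∑ k, rho F g row k • (hᵀ * Mh k * h) + μ • Bmat F := by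
    rw [hM'eq, Matrix.mul_add, Matrix.add_mul, Matrix.mul_sum, Matrix.sum_mul,
      Matrix.mul_smul, Matrix.smul_mul, hB]
    congr 1
    refine Finset.sum_congr rfl fun k _ => ?_
    rw [Matrix.mul_smul, Matrix.smul_mul]
  have e5 : ∑ k, trL (Xh col) (rho F g row k • (hᵀ * Mh k * h))
      = (∑ k, rho F g row k * rho F h k col) - ((c0 col : ℤ) : F) * σ2 := by
    have : ∀ k, trL (Xh col) (rho F g row k • (hᵀ * Mh k * h))
        = rho F g row k * rho F h k col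
          - ((c0 col : ℤ) : F) * (rho F g row k * ((cc k : ℤ) : F)) := by
      intro k
      rw [map_smul, smul_eq_mul, hrho h k col]
      push_cast
      ring
    rw [Finset.sum_congr rfl fun k _ => this k, Finset.sum_sub_distrib, ← Finset.mul_sum,
      ← hσ2]
  rw [e3, e4, map_add, map_sum, e5, map_smul, smul_eq_mul, Matrix.mul_apply]
  have hpB := hpairB col
  push_cast
  linear_combination (-((c0 col : ℤ) : F)) * hc + ((c0 col : ℤ) : F) * hcμ + μ * hpB

end Cfsg.Agent.H86.D4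

/-! ### verbatim check of the posted statements -/
section Check
open Matrix Cfsg.Agent.H49 Cfsg.Agent.H45.D4
variable {F : Type*} [Field F]

example : rho F (1 : Matrix I8 I8 F) = 1 := Cfsg.Agent.H86.D4.rho_one

example (hK : KerPair F) (g h : Matrix I8 I8 F)
    (hg : ∀ v : I8 → F, Cfsg.quadFormPlus 4 F (g *ᵥ v) = Cfsg.quadFormPlus 4 F v)
    (hh : ∀ v : I8 → F, Cfsg.quadFormPlus 4 F (h *ᵥ v) = Cfsg.quadFormPlus 4 F v) :
    rho F (g * h) = rho F g * rho F h := Cfsg.Agent.H86.D4.rho_mul hK g h hg hh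

end Check

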