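import Mathlib

set_option autoImplicit false
set_option maxHeartbeats 400000

/-!
Element orders and involutions of the alternating group of degree six.
-/

namespace Cfsg.Agent.H86

open Equiv Equiv.Perm

set_option maxRecDepth 100000 in
/-- Every even permutation of six points has order `1, 2, 3, 4` or `5`. -/
theorem altSix_pow : ∀ g : Equiv.Perm (Fin 6), Equiv.Perm.sign g = 1 → (g ^ 4 = 1 ∨ g ^ 3 = 1 ∨ g ^ 5 = 1) := by
  decide +kernel

theorem altSix_orderOf (g : alternatingGroup (Fin 6)) :
    orderOf g = 1 ∨ orderOf g = 2 ∨ orderOf g = 3 ∨ orderOf g = 4 ∨ orderOf g = 5 := by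
  have h := altSix_pow (g : Perm (Fin 6)) (mem_alternatingGroup.1 g.2)
  rw [← Subgroup.orderOf_coe]
  rcases h with h | h | h
  · have h1 : orderOf (g : Perm (Fin 6)) ∣ 2 ^ 2 := orderOf_dvd_of_pow_eq_one h
    obtain ⟨j, hj, hj'⟩ := (Nat.dvd_prime_pow Nat.prime_two).1 h1
    interval_cases j
    · left; simpa using hj'
    · right; left; simpa using hj'
    · right; right; right; left; simpa using hj'
  · have h1 : orderOf (g : Perm (Fin 6)) ∣ 3 := orderOf_dvd_of_pow_eq_one h
    rcases (Nat.dvd_prime Nat.prime_three).1 h1 with h2 | h2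
    · left; exact h2
    · right; right; left; exact h2
  · have h1 : orderOf (g : Perm (Fin 6)) ∣ 5 := orderOf_dvd_of_pow_eq_one h
    rcases (Nat.dvd_prime Nat.prime_five).1 h1 with h2 | h2
    · left; exact h2
    · right; right; right; right; exact h2

/-- The involutions of `A₆` are the products of two disjoint transpositions. -/
theorem altSix_cycleType_of_orderOf_two (g : alternatingGroup (Fin 6)) (h : orderOf g = 2) :
    (g : Perm (Fin 6)).cycleType = {2, 2} := by
  have h' : orderOf (g : Perm (Fin 6)) = 2 := by rw [Subgroup.orderOf_coe]; exact h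
  obtain ⟨n, hn⟩ := cycleType_prime_order (σ := (g : Perm (Fin 6))) (by rw [h']; exact Nat.prime_two)
  rw [h'] at hn
  have hsum : (g : Perm (Fin 6)).cycleType.sum ≤ 6 := by
    rw [sum_cycleType]
    exact (Finset.card_le_univ _).trans (by simp)
  have hsign : sign (g : Perm (Fin 6)) = 1 := mem_alternatingGroup.1 g.2
  rw [sign_of_cycleType, hn] at hsign
  rw [hn] at hsum
  simp only [Multiset.sum_replicate, Multiset.card_replicate, smul_eq_mul] at hsum hsign
  have hn2 : n ≤ 2 := by omega
  rw [hn]
  interval_cases n
  · exact absurd hsign (by decide)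
  · rfl
  · exact absurd hsign (by decide)

theorem altSix_orderOf_of_cycleType (g : alternatingGroup (Fin 6))
    (h : (g : Perm (Fin 6)).cycleType = {2, 2}) : orderOf g = 2 := by
  rw [← Subgroup.orderOf_coe, ← lcm_cycleType, h]
  decide

/-- Any two involutions of `A₆` are conjugate in `A₆`. -/
theorem altSix_isConj_of_orderOf_two {a b : alternatingGroup (Fin 6)} (ha : orderOf a = 2)
    (hb : orderOf b = 2) : IsConj a b := by
  have hca := altSix_cycleType_of_orderOf_two a ha
  have hcb := altSix_cycleType_of_orderOf_two b hb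
  apply alternatingGroup.isConj_of
  · rw [isConj_iff_cycleType_eq, hca, hcb]
  · rw [← sum_cycleType, hca]
    decide

/-- The involutions generate `A₆`. -/
theorem altSix_closure_involutions :
    Subgroup.closure {g : alternatingGroup (Fin 6) | orderOf g = 2} = ⊤ := by
  have h := alternatingGroup.closure_cycleType_eq_two_two_eq_top (α := Fin 6) (by simp)
  rw [eq_top_iff, ← h]
  apply Subgroup.closure_mono
  intro g hg
  exact altSix_orderOf_of_cycleType g hg

theorem altSix_exists_involution : ∃ g : alternatingGroup (Fin 6), orderOf g = 2 := by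
  have hmem : (swap (0 : Fin 6) 1 * swap 2 3) ∈ alternatingGroup (Fin 6) := by
    rw [mem_alternatingGroup]; decide
  refine ⟨⟨_, hmem⟩, ?_⟩
  haveI : Fact (Nat.Prime 2) := ⟨Nat.prime_two⟩
  apply orderOf_eq_prime
  · apply Subtype.ext
    show (swap (0 : Fin 6) 1 * swap 2 3) ^ 2 = 1
    decide
  · intro h
    have h1 := congrArg Subtype.val h
    have h2 : swap (0 : Fin 6) 1 * swap 2 3 = 1 := h1
    exact absurd h2 (by decide)

end Cfsg.Agent.H86
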