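import Mathlib
import Cfsg.Prelude.Def_FusionSystem
import Cfsg.Agent.H86.FusSat
import Cfsg.Agent.H86.FusAlperin
import Cfsg.Agent.H87.Centralizer

set_option autoImplicit false
set_option maxHeartbeats 400000

/-!
Generic lemmas for the study of the centralizer of a normal subsystem: Sylow-type lemmas on finite
groups, iteration of a map stabilizing a chain, and two constructions of subsystems.
-/

namespace Cfsg.Agent.H86

open Cfsg Cfsg.FusionSystem
open scoped Pointwise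

/-- A normal `p`-subgroup lies in every Sylow `p`-subgroup. -/
lemma le_sylow_of_normal_isPGroup {G : Type*} [Group G] [Finite G] {p : ℕ} [Fact p.Prime]
    (R : Sylow p G) (K : Subgroup G) (hKn : K.Normal) (hK : IsPGroup p K) : K ≤ (R : Subgroup G) := by
  obtain ⟨Q, hQ⟩ := hK.exists_le_sylow
  obtain ⟨g, hg⟩ := MulAction.exists_smul_eq G Q R
  intro x hx
  have h1 : g⁻¹ * x * g ∈ K := by
    have := hKn.conj_mem x hx g⁻¹
    simpa using this
  have h2 : MulAut.conj g • (g⁻¹ * x * g) ∈ MulAut.conj g • (Q : Subgroup G) :=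
    Subgroup.smul_mem_pointwise_smul _ _ _ (hQ h1)
  rw [← Sylow.coe_subgroup_smul, hg, MulAut.smul_def, MulAut.conj_apply] at h2
  simpa [mul_assoc] using h2

/-- A subgroup containing a Sylow `p`-subgroup and a `p`-power power of every element is everything. -/
lemma eq_top_of_sylow_le_of_pow {G : Type*} [Group G] [Finite G] {p : ℕ} [Fact p.Prime]
    (D : Subgroup G) (R : Sylow p G) (hR : (R : Subgroup G) ≤ D)
    (hpow : ∀ α : G, ∃ b : ℕ, α ^ (p ^ b) ∈ D) : D = ⊤ := by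
  have hp : p.Prime := Fact.out
  -- elements of order prime to `p` lie in `D`
  have hcop : ∀ x : G, (orderOf x).Coprime p → x ∈ D := by
    intro x hx
    obtain ⟨b, hb⟩ := hpow x
    have h1 : (p ^ b).Coprime (orderOf x) := (Nat.Coprime.pow_right b hx).symm
    obtain ⟨m, hm⟩ := exists_pow_eq_self_of_coprime h1
    rw [← hm]
    exact D.pow_mem hb m
  -- hence in the normal core
  have hcore : ∀ x : G, (orderOf x).Coprime p → x ∈ D.normalCore := by
    intro x hx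
    rw [Subgroup.normalCore]
    intro g
    apply hcop
    have : orderOf (g * x * g⁻¹) = orderOf x := by
      have := orderOf_injective (MulAut.conj g).toMonoidHom (MulAut.conj g).injective x
      simpa [MulAut.conj_apply] using this
    rw [this]
    exact hx
  -- the quotient by the normal core is a `p`-group
  have hquot : IsPGroup p (G ⧸ D.normalCore) := by
    intro y
    obtain ⟨x, rfl⟩ := QuotientGroup.mk_surjective y
    have ho : orderOf x ≠ 0 := (orderOf_pos x).ne'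
    obtain ⟨e, m, hm, hem⟩ := Nat.exists_eq_pow_mul_and_not_dvd ho p hp.ne_one
    refine ⟨e, ?_⟩
    rw [← QuotientGroup.mk_pow, QuotientGroup.eq_one_iff]
    apply hcore
    have h1 : (x ^ p ^ e) ^ m = 1 := by
      rw [← pow_mul, ← hem, pow_orderOf_eq_one]
    have h2 : orderOf (x ^ p ^ e) ∣ m := orderOf_dvd_of_pow_eq_one h1
    exact Nat.Coprime.coprime_dvd_left h2 ((Nat.Prime.coprime_iff_not_dvd hp).2 hm).symm
  obtain ⟨n, hn⟩ := IsPGroup.iff_card.1 hquot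
  have hidx : D.normalCore.index = p ^ n := by
    rw [Subgroup.index_eq_card]
    exact hn
  have h1 : D.index ∣ p ^ n := by
    rw [← hidx]
    exact Subgroup.index_dvd_of_le (Subgroup.normalCore_le D)
  have h2 : D.index ∣ (R : Subgroup G).index := Subgroup.index_dvd_of_le hR
  have h3 : ¬ p ∣ (R : Subgroup G).index := R.not_dvd_index
  obtain ⟨k, hk, hkeq⟩ := (Nat.dvd_prime_pow hp).1 h1
  have hk0 : k = 0 := by
    by_contra hne
    apply h3
    refine dvd_trans ?_ h2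
    rw [hkeq]
    exact dvd_pow_self p hne
  rw [hk0, pow_zero] at hkeq
  exact Subgroup.index_eq_one.1 hkeq

/-- Iterating a map which stabilizes a chain `Z ≤ B ≤ C` with trivial action on the factors. -/
lemma iterate_chain {Ω : Type*} [Group Ω] (C B Z : Subgroup Ω) (g : Ω → Ω)
    (hmul : ∀ x ∈ C, ∀ y ∈ C, g (x * y) = g x * g y) (hC : ∀ x ∈ C, g x ∈ C)
    (hZC : Z ≤ C) (hBC : B ≤ C) (hZcomm : ∀ z ∈ Z, ∀ x ∈ C, z * x = x * z) (hZ : ∀ z ∈ Z, g z ∈ Z)
    (hB : ∀ b ∈ B, b⁻¹ * g b ∈ Z) (hCB : ∀ s ∈ C, s⁻¹ * g s ∈ B) :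
    ∀ (k : ℕ) (s : Ω), s ∈ C → ∃ z ∈ Z, g^[k] s = s * (s⁻¹ * g s) ^ k * z := by
  have hone : g 1 = 1 := by
    have := hmul 1 C.one_mem 1 C.one_mem
    rw [mul_one] at this
    exact (mul_eq_left.1 this.symm)
  have hpow : ∀ (k : ℕ) (x : Ω), x ∈ C → g (x ^ k) = g x ^ k := by
    intro k
    induction k with
    | zero => intro x _; simp [hone]
    | succ k ih =>
      intro x hx
      rw [pow_succ, hmul _ (C.pow_mem hx k) _ hx, ih x hx, pow_succ]
  intro k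
  induction k with
  | zero => intro s _; exact ⟨1, Z.one_mem, by simp⟩
  | succ k ih =>
    intro s hs
    obtain ⟨z, hz, hk⟩ := ih s hs
    set u := s⁻¹ * g s with hu
    have huB : u ∈ B := hCB s hs
    have huC : u ∈ C := hBC huB
    have hzu : u⁻¹ * g u ∈ Z := hB u huB
    set w := u⁻¹ * g u with hw
    have hgu : g u = u * w := by rw [hw]; group
    have hcomm : Commute u w := (hZcomm w hzu u huC).symm
    rw [Function.iterate_succ_apply', hk, hmul _ (C.mul_mem hs (C.pow_mem huC k)) _ (hZC hz),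
      hmul _ hs _ (C.pow_mem huC k), hpow k u huC, hgu, hcomm.mul_pow]
    refine ⟨w ^ k * g z, Z.mul_mem (Z.pow_mem hzu k) (hZ z hz), ?_⟩
    have hgs : g s = s * u := by rw [hu]; group
    rw [hgs, pow_succ]
    have hc2 : Commute u (u ^ k) := (Commute.refl u).pow_right k
    calc s * u * (u ^ k * w ^ k) * g z = s * (u * u ^ k) * (w ^ k * g z) := by group
      _ = s * (u ^ k * u) * (w ^ k * g z) := by rw [hc2.eq]

variable {Ω : Type*} [Group Ω] {S T : Subgroup Ω}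

/-- The subsystem of the maps preserving a function `z` that is constant on `S`-conjugacy classes. -/
def invSys (C : FusionSystem S) (z : Ω → Ω) (hz : ∀ g ∈ S, ∀ x ∈ S, z (g * x * g⁻¹) = z x) :
    FusionSystem S where
  Hom P := {φ | φ ∈ C.Hom P ∧ ∀ x : P, z (φ x) = z x}
  le_of_mem h := C.le_of_mem h.1
  injective_of_mem h := C.injective_of_mem h.1
  conj_mem := by
    intro P g hP hg
    exact ⟨C.conj_mem hP hg, fun x => hz g hg x (hP x.2)⟩
  comp_mem := by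
    rintro P Q φ ψ ⟨hφ, hφz⟩ ⟨hψ, hψz⟩ h
    refine ⟨C.comp_mem hφ hψ h, fun x => ?_⟩
    show z (ψ ⟨φ x, h x⟩) = z x
    rw [hψz ⟨φ x, h x⟩, hφz]
  inv_mem := by
    rintro P φ ⟨hφ, hφz⟩
    obtain ⟨ψ, hψ, hψx⟩ := C.inv_mem hφ
    refine ⟨ψ, ⟨hψ, ?_⟩, hψx⟩
    rintro ⟨_, x, rfl⟩
    rw [hψx]
    exact (hφz x).symm

lemma mor_invSys_iff {C : FusionSystem S} {z : Ω → Ω} {hz : ∀ g ∈ S, ∀ x ∈ S, z (g * x * g⁻¹) = z x}
    {P : Subgroup Ω} {f : Ω → Ω} :
    Mor (invSys C z hz) P f ↔ Mor C P f ∧ ∀ x ∈ P, z (f x) = z x := by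
  constructor
  · rintro ⟨φ, ⟨hφ, hφz⟩, hφf⟩
    exact ⟨⟨φ, hφ, hφf⟩, fun x hx => by rw [← hφf ⟨x, hx⟩]; exact hφz ⟨x, hx⟩⟩
  · rintro ⟨⟨φ, hφ, hφf⟩, h⟩
    exact ⟨φ, ⟨hφ, fun x => by rw [hφf]; exact h x x.2⟩, hφf⟩

/-- The intersection of a system over `T` with a system over a larger subgroup. -/
def interSys {S' : Subgroup Ω} (E : FusionSystem T) (C : FusionSystem S') (hT : T ≤ S') : FusionSystem T where
  Hom P := {φ | φ ∈ E.Hom P ∧ φ ∈ C.Hom P}
  le_of_mem h := E.le_of_mem h.1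
  injective_of_mem h := E.injective_of_mem h.1
  conj_mem := fun hP hg => ⟨E.conj_mem hP hg, C.conj_mem (hP.trans hT) (hT hg)⟩
  comp_mem := fun h1 h2 h => ⟨E.comp_mem h1.1 h2.1 h, C.comp_mem h1.2 h2.2 h⟩
  inv_mem := by
    rintro P φ ⟨h1, h2⟩
    obtain ⟨ψ, hψ, hψx⟩ := E.inv_mem h1
    obtain ⟨ψ', hψ', hψ'x⟩ := C.inv_mem h2
    have : ψ = ψ' := by
      ext ⟨_, x, rfl⟩
      rw [hψx, hψ'x]
    exact ⟨ψ, ⟨hψ, this ▸ hψ'⟩, hψx⟩

lemma mor_interSys_iff {S' : Subgroup Ω} {E : FusionSystem T} {C : FusionSystem S'} {hT : T ≤ S'}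
    {P : Subgroup Ω} {f : Ω → Ω} :
    Mor (interSys E C hT) P f ↔ Mor E P f ∧ Mor C P f := by
  constructor
  · rintro ⟨φ, ⟨h1, h2⟩, hφf⟩
    exact ⟨⟨φ, h1, hφf⟩, ⟨φ, h2, hφf⟩⟩
  · rintro ⟨⟨φ, h1, hφf⟩, ⟨φ', h2, hφ'f⟩⟩
    have : φ = φ' := by
      ext x
      rw [hφf, hφ'f]
    exact ⟨φ, ⟨h1, this ▸ h2⟩, hφf⟩

/-- The maps of the centralizer system, in total-function form. -/
lemma mor_centralizerSystem_iff {F : FusionSystem S} {Q : Subgroup Ω} (hQ : Q ≤ S) {P : Subgroup Ω}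
    {f : Ω → Ω} :
    Mor (Cfsg.Agent.H87.centralizerSystem F Q hQ) P f ↔ P ≤ centralizerIn S Q ∧
      (∀ x ∈ P, f x ∈ centralizerIn S Q) ∧
      ∃ f', Mor F (P ⊔ Q) f' ∧ (∀ x ∈ P, f' x = f x) ∧ ∀ x ∈ Q, f' x = x := by
  constructor
  · rintro ⟨φ, ⟨hφF, hPN, hφN, ψ, hψ, hψφ, hψQ⟩, hφf⟩
    refine ⟨hPN, fun x hx => ?_, extFun (P ⊔ Q) ψ, mor_extFun hψ, fun x hx => ?_, fun x hx => ?_⟩
    · rw [← hφf ⟨x, hx⟩]
      exact hφN ⟨x, hx⟩
    · rw [extFun_of_mem _ ψ (Subgroup.mem_sup_left hx), ← hφf ⟨x, hx⟩, ← hψφ ⟨x, hx⟩]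
      rfl
    · rw [extFun_of_mem _ ψ (Subgroup.mem_sup_right hx)]
      exact hψQ ⟨x, hx⟩
  · rintro ⟨hPN, hfN, f', hf', hf'f, hf'Q⟩
    obtain ⟨φ₀, hφ₀, hφ₀f⟩ := hf'.restrict (le_sup_left : P ≤ P ⊔ Q)
    obtain ⟨ψ, hψ, hψf'⟩ := id hf'
    refine ⟨φ₀, ⟨hφ₀, hPN, fun x => ?_, ψ, hψ, fun x => ?_, fun x => ?_⟩,
      fun x => by rw [hφ₀f, hf'f x x.2]⟩
    · rw [hφ₀f, hf'f x x.2]
      exact hfN x x.2
    · rw [hψf', hφ₀f]
      rfl
    · rw [hψf']
      exact hf'Q x x.2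

end Cfsg.Agent.H86
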