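import Mathlib
import Cfsg.Prelude.Def_FusionSystem
import Cfsg.Agent.H86.NCBasic
import Cfsg.Agent.H86.FusExt
import Cfsg.Agent.H87.Invariant
import Cfsg.Agent.H87.CentricExt
import Cfsg.Agent.H87.Centric
import Cfsg.Agent.H89.PStableCR

set_option autoImplicit false
set_option maxHeartbeats 400000

/-!
Normal subsystems `E ⊴ F` over `T`: basic consequences of the definition in total-function form, and
"good" extensions of automorphisms of `E`-centric subgroups `R ≤ T` to `R C_S(R)` (those acting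
trivially on `C_S(R)` modulo `R`).
-/

namespace Cfsg.Agent.H86

open Cfsg Cfsg.FusionSystem Cfsg.Agent.H87

variable {Ω : Type*} [Group Ω] {S T : Subgroup Ω}

/-- The hypotheses "`E` is normal in `F`" in total-function form. -/
structure NormalData (p : ℕ) (F : FusionSystem S) (E : FusionSystem T) : Prop where
  satF : F.IsSaturated p
  satE : E.IsSaturated p
  sub : E.IsSubsystemOf F
  sc : F.StronglyClosed T
  si : StrongInv E F
  fr : Frat E F
  n1 : ∀ a : Ω → Ω, Mor E T a → ∃ b, Mor F (T ⊔ centralizerIn S T) b ∧ (∀ x ∈ T, b x = a x) ∧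
    ∀ c ∈ centralizerIn S T, c⁻¹ * b c ∈ T

theorem normalData_of_isNormalIn [Finite S] {p : ℕ} {F : FusionSystem S}
    {E : FusionSystem T} (h : E.IsNormalIn F p) : NormalData p F E := by
  obtain ⟨⟨hEs, hFs, hinv⟩, hn1⟩ := h
  have hTS : T ≤ S := hinv.2.1.1
  obtain ⟨hsub, hsc, hAI, hFr⟩ := (isInvariantIn_iff hTS).1 hinv
  haveI : Finite T := finite_of_le hTS
  refine ⟨hFs, hEs, hsub, hsc, strongInv_of_invariant hsub hAI hFr, hFr, fun a ha => ?_⟩
  have himg : imgS T a = T := imgS_eq_of_maps ha (fun x hx => ha.mem hx)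
  obtain ⟨β, hβ, h1, h2⟩ := hn1 (mkAut ha himg) (mkAut_mem ha himg)
  have hle : T ⊔ centralizerIn S T ≤ S := sup_le hTS inf_le_left
  refine ⟨autFun _ β, (mem_autGroup_iff hle β).1 hβ, fun x hx => ?_, fun c hc => ?_⟩
  · rw [autFun_of_mem β (Subgroup.mem_sup_left hx)]
    exact h1 ⟨x, hx⟩
  · rw [autFun_of_mem β (Subgroup.mem_sup_right hc)]
    exact (h2 ⟨c, Subgroup.mem_sup_right hc⟩ hc).1

namespace NormalData

variable {p : ℕ} {F : FusionSystem S} {E : FusionSystem T}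

lemma le (D : NormalData p F E) : T ≤ S := D.sc.1

lemma mapsT (D : NormalData p F E) {R : Subgroup Ω} {f : Ω → Ω} (hR : R ≤ T) (hf : Mor F R f) :
    ∀ x ∈ R, f x ∈ T :=
  (stronglyClosed_iff.1 D.sc).2 R f hR hf

lemma morF (D : NormalData p F E) {R : Subgroup Ω} {f : Ω → Ω} (hf : Mor E R f) : Mor F R f :=
  mor_of_subsystem D.sub hf

lemma isConjF (D : NormalData p F E) {P Q : Subgroup Ω} (h : E.IsConj P Q) : F.IsConj P Q := by
  obtain ⟨f, hf, himg⟩ := isConj_iff.1 h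
  exact isConj_iff.2 ⟨f, D.morF hf, himg⟩

/-- An `F`-conjugate of an `E`-centric subgroup contains its centralizer in `T`. -/
lemma centric_F_conj (D : NormalData p F E) {P Q : Subgroup Ω} (hP : E.IsCentric P)
    (hQ : F.IsConj P Q) : centralizerIn T Q ≤ Q := by
  obtain ⟨η, hη, rfl⟩ := isConj_iff.1 hQ
  obtain ⟨a, f₀, ha, haT, hf₀, hηa⟩ := D.fr P η hP.1 hη
  have hP' : centralizerIn T (imgS P f₀) ≤ imgS P f₀ := hP.2 _ (isConj_iff.2 ⟨f₀, hf₀, rfl⟩)
  intro c hc
  obtain ⟨hcT, hcC⟩ := mem_centralizerIn_iff.1 hc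
  rw [← haT] at hcT
  obtain ⟨c', hc'T, rfl⟩ := ha.mem_imgS.1 hcT
  have hc'C : c' ∈ centralizerIn T (imgS P f₀) := by
    rw [mem_centralizerIn_iff]
    refine ⟨hc'T, fun y hy => ?_⟩
    obtain ⟨x, hx, rfl⟩ := hf₀.mem_imgS.1 hy
    have hxT : f₀ x ∈ T := hf₀.mem hx
    apply ha.injOn (T.mul_mem hxT hc'T) (T.mul_mem hc'T hxT)
    rw [ha.map_mul hxT hc'T, ha.map_mul hc'T hxT]
    have := hcC (η x) (hη.mem_imgS_of_mem hx)
    rwa [hηa x hx] at this
  obtain ⟨x, hx, hxc⟩ := hf₀.mem_imgS.1 (hP' hc'C)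
  rw [← hxc, ← hηa x hx]
  exact hη.mem_imgS_of_mem hx

/-- `F`-conjugates of `E`-centric subgroups are `E`-centric. -/
lemma isCentric_of_F_conj (D : NormalData p F E) {P Q : Subgroup Ω} (hP : E.IsCentric P)
    (hQ : F.IsConj P Q) : E.IsCentric Q := by
  obtain ⟨η, hη, himg⟩ := isConj_iff.1 hQ
  have hQT : Q ≤ T := by
    rw [← himg]
    intro y hy
    obtain ⟨x, hx, rfl⟩ := hη.mem_imgS.1 hy
    exact D.mapsT hP.1 hη x hx
  exact ⟨hQT, fun Q' hQ' => D.centric_F_conj hP (isConj_trans hQ (D.isConjF hQ'))⟩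

/-- A subgroup of `T` which is fully normalized in `F` is fully normalized in `E`. -/
lemma fullyNormalized_E [Finite S] [Fact p.Prime] (D : NormalData p F E) (hS : IsPGroup p S)
    {P : Subgroup Ω} (hPT : P ≤ T) (hP : F.IsFullyNormalized P) : E.IsFullyNormalized P := by
  refine ⟨hPT, fun Q hQ => ?_⟩
  obtain ⟨hfc, hfa⟩ := saturated_fullyNormalized hS D.satF hP
  have hrec := saturated_receptive_of_fullyCentralized hS D.satF hfc
  obtain ⟨f, hf, hmaps, -⟩ := exists_normalizer_map hS hfa hrec (isConj_symm (D.isConjF hQ))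
  have hle : normalizerIn T Q ≤ normalizerIn S Q := inf_le_inf_right _ D.le
  have hmapsT : ∀ c ∈ normalizerIn T Q, f c ∈ normalizerIn T P := by
    intro c hc
    have h1 := hmaps c (hle hc)
    have h2 : f c ∈ T := D.mapsT (inf_le_left : normalizerIn T Q ≤ T) (hf.restrict hle) c hc
    exact ⟨h2, h1.2⟩
  haveI : Finite T := finite_of_le D.le
  haveI : Finite (normalizerIn T P) := finite_of_le (S := T) inf_le_left
  refine Nat.card_le_card_of_injective
    (fun c : normalizerIn T Q => (⟨f c, hmapsT c c.2⟩ : normalizerIn T P)) ?_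
  intro c d hcd
  exact Subtype.ext (hf.injOn (hle c.2) (hle d.2) (congrArg Subtype.val hcd))

end NormalData

/-! ### Automorphisms of `R C_S(R)` preserving `R` -/

/-- `f` is a map of the system on `R C_S(R)` sending `R` into `R`. -/
def QAut (F : FusionSystem S) (R : Subgroup Ω) (f : Ω → Ω) : Prop :=
  Mor F (R ⊔ centralizerIn S R) f ∧ ∀ x ∈ R, f x ∈ R

namespace QAut

variable [Finite S] {F : FusionSystem S} {R : Subgroup Ω} {f g : Ω → Ω}

lemma leS (h : QAut F R f) : R ≤ S := le_sup_left.trans h.1.le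

lemma supLe (h : QAut F R f) : R ⊔ centralizerIn S R ≤ S := h.1.le

lemma morR (h : QAut F R f) : Mor F R f := h.1.restrict le_sup_left

lemma morC (h : QAut F R f) : Mor F (centralizerIn S R) f := h.1.restrict le_sup_right

lemma imgR (h : QAut F R f) : imgS R f = R := by
  haveI := finite_of_le h.leS
  exact imgS_eq_of_maps h.morR h.2

lemma mapsC (h : QAut F R f) : ∀ c ∈ centralizerIn S R, f c ∈ centralizerIn S R := by
  intro c hc
  rw [mem_centralizerIn_iff]
  refine ⟨h.1.mem (Subgroup.mem_sup_right hc), fun y hy => ?_⟩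
  rw [← h.imgR] at hy
  obtain ⟨x, hx, rfl⟩ := h.morR.mem_imgS.1 hy
  rw [← h.1.map_mul (Subgroup.mem_sup_left hx) (Subgroup.mem_sup_right hc),
    ← h.1.map_mul (Subgroup.mem_sup_right hc) (Subgroup.mem_sup_left hx),
    (mem_centralizerIn_iff.1 hc).2 x hx]

lemma imgC (h : QAut F R f) : imgS (centralizerIn S R) f = centralizerIn S R := by
  haveI : Finite (centralizerIn S R) := finite_of_le (S := S) inf_le_left
  exact imgS_eq_of_maps h.morC h.mapsC

lemma imgQ (h : QAut F R f) : imgS (R ⊔ centralizerIn S R) f = R ⊔ centralizerIn S R := by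
  rw [h.1.imgS_sup, h.imgR, h.imgC]

lemma mapsQ (h : QAut F R f) : ∀ x ∈ R ⊔ centralizerIn S R, f x ∈ R ⊔ centralizerIn S R := by
  intro x hx
  have := h.1.mem_imgS_of_mem hx
  rwa [h.imgQ] at this

lemma inv (h : QAut F R f) : QAut F R (invOn (R ⊔ centralizerIn S R) f) := by
  have h1 : Mor F (R ⊔ centralizerIn S R) (invOn (R ⊔ centralizerIn S R) f) := by
    have := h.1.inv
    rwa [h.imgQ] at this
  refine ⟨h1, fun x hx => ?_⟩
  have hx' : x ∈ imgS R f := by rw [h.imgR]; exact hx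
  obtain ⟨y, hy, rfl⟩ := h.morR.mem_imgS.1 hx'
  rw [invOn_apply h.1.injOn (Subgroup.mem_sup_left hy)]
  exact hy

lemma apply_inv (h : QAut F R f) {x : Ω} (hx : x ∈ R ⊔ centralizerIn S R) :
    f (invOn (R ⊔ centralizerIn S R) f x) = x :=
  h.1.apply_invOn (by rw [h.imgQ]; exact hx)

lemma inv_apply (h : QAut F R f) {x : Ω} (hx : x ∈ R ⊔ centralizerIn S R) :
    invOn (R ⊔ centralizerIn S R) f (f x) = x :=
  invOn_apply h.1.injOn hx

lemma comp (h : QAut F R f) (h' : QAut F R g) : QAut F R (g ∘ f) :=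
  ⟨h.1.comp h'.1 h.mapsQ, fun x hx => h'.2 _ (h.2 x hx)⟩

lemma id (F : FusionSystem S) {R : Subgroup Ω} (hR : R ≤ S) : QAut F R (fun x => x) :=
  ⟨Mor.id F (sup_le hR inf_le_left), fun _ hx => hx⟩

lemma conj (F : FusionSystem S) {R : Subgroup Ω} (hR : R ≤ S) {t : Ω} (ht : t ∈ S)
    (htN : t ∈ Subgroup.normalizer (R : Set Ω)) : QAut F R (fun x => t * x * t⁻¹) :=
  ⟨Mor.conj F (sup_le hR inf_le_left) ht, fun _ hx => conj_mem_of_mem_normalizer htN hx⟩

lemma iterate (h : QAut F R f) : ∀ k : ℕ, QAut F R (f^[k]) := by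
  intro k
  induction k with
  | zero => exact QAut.id F h.leS
  | succ k ih =>
    rw [Function.iterate_succ]
    exact h.comp ih

end QAut

/-- Two maps of the system on `A ⊔ B` agreeing on `A` and on `B` agree. -/
lemma Mor.eq_on_sup {F : FusionSystem S} {A B : Subgroup Ω} {f g : Ω → Ω} (hf : Mor F (A ⊔ B) f)
    (hg : Mor F (A ⊔ B) g) (hA : ∀ x ∈ A, f x = g x) (hB : ∀ x ∈ B, f x = g x) :
    ∀ x ∈ A ⊔ B, f x = g x := by
  intro x hx
  have key : ∀ y ∈ Subgroup.closure ((A : Set Ω) ∪ B), y ∈ A ⊔ B ∧ f y = g y := by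
    intro y hy
    induction hy using Subgroup.closure_induction with
    | mem y hy =>
      rcases hy with h | h
      · exact ⟨Subgroup.mem_sup_left h, hA y h⟩
      · exact ⟨Subgroup.mem_sup_right h, hB y h⟩
    | one => exact ⟨Subgroup.one_mem _, by rw [hf.map_one, hg.map_one]⟩
    | mul y z _ _ ihy ihz =>
      exact ⟨Subgroup.mul_mem _ ihy.1 ihz.1, by rw [hf.map_mul ihy.1 ihz.1, hg.map_mul ihy.1 ihz.1, ihy.2, ihz.2]⟩
    | inv y _ ih =>
      exact ⟨Subgroup.inv_mem _ ih.1, by rw [hf.map_inv ih.1, hg.map_inv ih.1, ih.2]⟩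
  rw [Subgroup.sup_eq_closure] at hx
  exact (key x hx).2

/-- An element normalizing `A` and `B` normalizes `A ⊔ B`. -/
lemma conj_mem_sup {A B : Subgroup Ω} {s : Ω} (hA : ∀ x ∈ A, s * x * s⁻¹ ∈ A)
    (hB : ∀ x ∈ B, s * x * s⁻¹ ∈ B) : ∀ x ∈ A ⊔ B, s * x * s⁻¹ ∈ A ⊔ B := by
  intro x hx
  have h1 : (MulAut.conj s).toMonoidHom x ∈ (A ⊔ B).map (MulAut.conj s).toMonoidHom :=
    Subgroup.mem_map_of_mem _ hx
  rw [Subgroup.map_sup] at h1
  have h2 : A.map (MulAut.conj s).toMonoidHom ⊔ B.map (MulAut.conj s).toMonoidHom ≤ A ⊔ B := by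
    refine sup_le_sup ?_ ?_
    · rintro _ ⟨u, hu, rfl⟩
      exact hA u hu
    · rintro _ ⟨u, hu, rfl⟩
      exact hB u hu
  exact h2 h1

/-! ### Good extensions -/

/-- A good extension at `R`: an automorphism of `R C_S(R)` in `F` preserving `R` and moving every
element of `C_S(R)` by an element of `R`. -/
def Good (F : FusionSystem S) (R : Subgroup Ω) (g : Ω → Ω) : Prop :=
  QAut F R g ∧ ∀ c ∈ centralizerIn S R, c⁻¹ * g c ∈ R

namespace Good

variable [Finite S] {F : FusionSystem S} {R : Subgroup Ω} {f g : Ω → Ω}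

/-- The displacement of an element of `C_S(R)` is central in `R`. -/
lemma cent (h : Good F R g) {c : Ω} (hc : c ∈ centralizerIn S R) :
    c⁻¹ * g c ∈ Subgroup.centralizer (R : Set Ω) :=
  Subgroup.mul_mem _ (Subgroup.inv_mem _ hc.2) (h.1.mapsC c hc).2

lemma id (F : FusionSystem S) {R : Subgroup Ω} (hR : R ≤ S) : Good F R (fun x => x) :=
  ⟨QAut.id F hR, fun c _ => by simp [R.one_mem]⟩

lemma comp (h : Good F R f) (h' : Good F R g) : Good F R (g ∘ f) := by
  refine ⟨h.1.comp h'.1, fun c hc => ?_⟩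
  have h1 : c⁻¹ * f c ∈ R := h.2 c hc
  have hfc : f c ∈ centralizerIn S R := h.1.mapsC c hc
  have h2 : (f c)⁻¹ * g (f c) ∈ R := h'.2 _ hfc
  have : c⁻¹ * (g ∘ f) c = (c⁻¹ * f c) * ((f c)⁻¹ * g (f c)) := by
    show c⁻¹ * g (f c) = _
    group
  rw [this]
  exact R.mul_mem h1 h2

lemma inv (h : Good F R g) : Good F R (invOn (R ⊔ centralizerIn S R) g) := by
  refine ⟨h.1.inv, fun c hc => ?_⟩
  have hc' : invOn (R ⊔ centralizerIn S R) g c ∈ centralizerIn S R := by
    have hcI : c ∈ imgS (centralizerIn S R) g := by rw [h.1.imgC]; exact hc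
    obtain ⟨d, hd, rfl⟩ := h.1.morC.mem_imgS.1 hcI
    rw [h.1.inv_apply (Subgroup.mem_sup_right hd)]
    exact hd
  have h1 := h.2 _ hc'
  rw [h.1.apply_inv (Subgroup.mem_sup_right hc)] at h1
  have : c⁻¹ * invOn (R ⊔ centralizerIn S R) g c = ((invOn (R ⊔ centralizerIn S R) g c)⁻¹ * c)⁻¹ := by
    group
  rw [this]
  exact R.inv_mem h1

/-- Conjugating a good extension by an automorphism of `R C_S(R)` preserving `R`. -/
lemma conjBy (h : Good F R g) (hf : QAut F R f) :
    Good F R (f ∘ (g ∘ invOn (R ⊔ centralizerIn S R) f)) := by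
  refine ⟨hf.inv.comp (h.1.comp hf), fun c hc => ?_⟩
  have hc' : invOn (R ⊔ centralizerIn S R) f c ∈ centralizerIn S R := hf.inv.mapsC c hc
  set c' := invOn (R ⊔ centralizerIn S R) f c with hc'def
  have h1 : c'⁻¹ * g c' ∈ R := h.2 _ hc'
  have hfc' : f c' = c := hf.apply_inv (Subgroup.mem_sup_right hc)
  have hgc' : g c' = c' * (c'⁻¹ * g c') := by group
  show c⁻¹ * f (g c') ∈ R
  rw [hgc', hf.1.map_mul (Subgroup.mem_sup_right hc') (Subgroup.mem_sup_left h1), hfc']
  have : c⁻¹ * (c * f (c'⁻¹ * g c')) = f (c'⁻¹ * g c') := by group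
  rw [this]
  exact hf.2 _ h1

lemma iterate (h : Good F R g) : ∀ k : ℕ, Good F R (g^[k]) := by
  intro k
  induction k with
  | zero => exact Good.id F h.1.leS
  | succ k ih =>
    rw [Function.iterate_succ]
    exact h.comp ih

end Good

end Cfsg.Agent.H86
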