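import Mathlib
import Cfsg.Prelude.Def_FusionSystem
import Cfsg.Agent.H86.NCGood
import Cfsg.Agent.H87.NKApp
import Cfsg.Agent.H88.PPower

set_option autoImplicit false
set_option maxHeartbeats 400000

/-!
Tools for extending automorphisms: automorphisms of the centralizer system acting trivially modulo
`P` are inner, receptivity of `N C_S(N)`, and the transport of good extensions along an
isomorphism of the system.
-/

namespace Cfsg.Agent.H86

open Cfsg Cfsg.FusionSystem Cfsg.Agent.H87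

variable {Ω : Type*} [Group Ω] {S T : Subgroup Ω}

/-- In the centralizer system `C_F(P)`, an automorphism of a fully automized subgroup `R` moving
every element by an element of `P` is induced by an element of `C_S(P)`. -/
theorem inner_of_centralizer_aut [Finite S] {p : ℕ} [Fact p.Prime] (hS : IsPGroup p S)
    {F : FusionSystem S} {P : Subgroup Ω} (hPS : P ≤ S)
    {R : Subgroup Ω} (hRa : (centralizerSystem F P hPS).IsFullyAutomized p R) {τ : Ω → Ω}
    (hτ : Mor (centralizerSystem F P hPS) R τ) (hτR : ∀ y ∈ R, τ y ∈ R)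
    (hτZ : ∀ y ∈ R, y⁻¹ * τ y ∈ P) :
    ∃ s ∈ centralizerIn S P, ∀ y ∈ R, τ y = s * y * s⁻¹ := by
  have hRC : R ≤ centralizerIn S P := hRa.1
  have hRS : R ≤ S := hRC.trans inf_le_left
  haveI : Finite R := finite_of_le hRS
  have himg : imgS R τ = R := imgS_eq_of_maps hτ hτR
  have hfix : ∀ α ∈ (centralizerSystem F P hPS).autGroup R, ∀ (w : Ω) (hw : w ∈ R), w ∈ P →
      ((α ⟨w, hw⟩ : R) : Ω) = w := by
    intro α hα w hw hwP
    have hαM := (mem_autGroup_iff hRC α).1 hα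
    obtain ⟨-, -, f', hf', hf'α, hf'P⟩ := (mor_centralizerSystem_iff hPS).1 hαM
    rw [← autFun_of_mem α hw, ← hf'α w hw, hf'P w hwP]
  let K : Subgroup ((centralizerSystem F P hPS).autGroup R) :=
    { carrier := {α | ∀ y : R, (y : Ω)⁻¹ * (((α : MulAut R) y : R) : Ω) ∈ P}
      one_mem' := by
        intro y
        show (y : Ω)⁻¹ * (y : Ω) ∈ P
        rw [inv_mul_cancel]
        exact P.one_mem
      mul_mem' := by
        intro α β hα hβ y
        have hw : (y : Ω)⁻¹ * (((β : MulAut R) y : R) : Ω) ∈ P := hβ y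
        have hwR : (y : Ω)⁻¹ * (((β : MulAut R) y : R) : Ω) ∈ R := R.mul_mem (R.inv_mem y.2) ((β : MulAut R) y).2
        have e1 : (β : MulAut R) y = y * ⟨_, hwR⟩ := by
          apply Subtype.ext
          show _ = (y : Ω) * ((y : Ω)⁻¹ * _)
          group
        show (y : Ω)⁻¹ * (((α : MulAut R) ((β : MulAut R) y) : R) : Ω) ∈ P
        rw [e1, map_mul, Subgroup.coe_mul, hfix _ α.2 _ hwR hw, ← mul_assoc]
        exact P.mul_mem (hα y) hw
      inv_mem' := by
        intro α hα y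
        have h1 := hα ((α : MulAut R)⁻¹ y)
        have e : (α : MulAut R) ((α : MulAut R)⁻¹ y) = y := by
          show ((α : MulAut R) * (α : MulAut R)⁻¹) y = y
          rw [mul_inv_cancel]; rfl
        rw [e] at h1
        have : (y : Ω)⁻¹ * ((((α : MulAut R)⁻¹ y : R)) : Ω) =
            ((((α : MulAut R)⁻¹ y : R) : Ω)⁻¹ * (y : Ω))⁻¹ := by group
        show (y : Ω)⁻¹ * ((((α : MulAut R)⁻¹ y : R)) : Ω) ∈ P
        rw [this]
        exact P.inv_mem h1 }
  have hKn : K.Normal := by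
    refine ⟨fun α hα κ y => ?_⟩
    show (y : Ω)⁻¹ * (((κ : MulAut R) ((α : MulAut R) ((κ : MulAut R)⁻¹ y)) : R) : Ω) ∈ P
    set y' := (κ : MulAut R)⁻¹ y with hy'
    have hw : (y' : Ω)⁻¹ * (((α : MulAut R) y' : R) : Ω) ∈ P := hα y'
    have hwR : (y' : Ω)⁻¹ * (((α : MulAut R) y' : R) : Ω) ∈ R :=
      R.mul_mem (R.inv_mem y'.2) ((α : MulAut R) y').2
    have e1 : (α : MulAut R) y' = y' * ⟨_, hwR⟩ := by
      apply Subtype.ext
      show _ = (y' : Ω) * ((y' : Ω)⁻¹ * _)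
      group
    have e2 : (κ : MulAut R) y' = y := by
      show ((κ : MulAut R) * (κ : MulAut R)⁻¹) y = y
      rw [mul_inv_cancel]; rfl
    rw [e1, map_mul, e2, Subgroup.coe_mul, hfix _ κ.2 _ hwR hw, ← mul_assoc, inv_mul_cancel, one_mul]
    exact hw
  haveI : Finite P := finite_of_le hPS
  obtain ⟨k, hk⟩ := IsPGroup.iff_card.1 (hS.to_le hPS)
  have hKp : IsPGroup p K := by
    intro α
    refine ⟨k, ?_⟩
    have hαK : ∀ y : R, (y : Ω)⁻¹ * ((((α : (centralizerSystem F P hPS).autGroup R) : MulAut R) y : R) : Ω) ∈ P :=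
      α.2
    have key : ∀ (j : ℕ) (y : R),
        (((((α : (centralizerSystem F P hPS).autGroup R) : MulAut R) ^ j) y : R) : Ω) =
          (y : Ω) * ((y : Ω)⁻¹ * ((((α : (centralizerSystem F P hPS).autGroup R) : MulAut R) y : R) : Ω)) ^ j := by
      intro j
      induction j with
      | zero =>
        intro y
        rw [pow_zero, pow_zero, mul_one]
        rfl
      | succ j ih =>
        intro y
        set a := ((α : (centralizerSystem F P hPS).autGroup R) : MulAut R) with ha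
        have hw : (y : Ω)⁻¹ * ((a y : R) : Ω) ∈ P := hαK y
        have hwR : (y : Ω)⁻¹ * ((a y : R) : Ω) ∈ R := R.mul_mem (R.inv_mem y.2) (a y).2
        have e1 : (a ^ j) y = y * ⟨_, R.pow_mem hwR j⟩ := Subtype.ext (ih y)
        rw [pow_succ']
        show ((a ((a ^ j) y) : R) : Ω) = _
        rw [e1, map_mul, Subgroup.coe_mul, hfix a α.1.2 _ (R.pow_mem hwR j) (P.pow_mem hw j), pow_succ',
          ← mul_assoc, mul_inv_cancel_left]
    apply Subtype.ext
    apply Subtype.ext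
    show ((α : (centralizerSystem F P hPS).autGroup R) : MulAut R) ^ p ^ k = 1
    ext y
    rw [key]
    have hw : (y : Ω)⁻¹ * ((((α : (centralizerSystem F P hPS).autGroup R) : MulAut R) y : R) : Ω) ∈ P := hαK y
    have h1 : (⟨_, hw⟩ : P) ^ Nat.card P = 1 := pow_card_eq_one'
    rw [hk] at h1
    have h2 := congrArg Subtype.val h1
    simp only [Subgroup.coe_pow, Subgroup.coe_one] at h2
    rw [h2]
    simp
  obtain ⟨R₀, hR₀⟩ := hRa.2
  have hle := le_sylow_of_normal_isPGroup R₀ K hKn hKp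
  have hτA : mkAut hτ himg ∈ (centralizerSystem F P hPS).autGroup R := mkAut_mem hτ himg
  have hτK : (⟨mkAut hτ himg, hτA⟩ : (centralizerSystem F P hPS).autGroup R) ∈ K := by
    intro y
    show (y : Ω)⁻¹ * τ y ∈ P
    exact hτZ y y.2
  have h3 := hle hτK
  rw [hR₀, Subgroup.mem_subgroupOf] at h3
  obtain ⟨s, hs, Hs⟩ := (mem_autInducedBy_iff _ R _).1 h3
  exact ⟨s, hs, fun y hy => Hs ⟨y, hy⟩⟩

/-- Centric subgroups are fully centralized. -/
lemma fullyCentralized_of_isCentric [Finite S] {F : FusionSystem S} {R : Subgroup Ω} (h : F.IsCentric R) :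
    F.IsFullyCentralized R := by
  refine ⟨h.1, fun Q hQ => ?_⟩
  have hQc := h.2 Q hQ
  obtain ⟨f, hf, rfl⟩ := isConj_iff.1 hQ
  have h1 : centralizerIn S (imgS R f) ≤ imgS (R ⊓ Subgroup.centralizer (R : Set Ω)) f := by
    rw [imgS_center hf]
    intro c hc
    exact ⟨hQc hc, hc.2⟩
  have h2 : R ⊓ Subgroup.centralizer (R : Set Ω) ≤ centralizerIn S R := inf_le_inf_right _ h.1
  haveI : Finite (centralizerIn S R) := finite_of_le (S := S) inf_le_left
  haveI : Finite (imgS (R ⊓ Subgroup.centralizer (R : Set Ω)) f) :=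
    finite_of_le ((hf.restrict inf_le_left).imgS_le)
  calc Nat.card (centralizerIn S (imgS R f))
      ≤ Nat.card (imgS (R ⊓ Subgroup.centralizer (R : Set Ω)) f) := Subgroup.card_le_of_le h1
    _ = Nat.card (R ⊓ Subgroup.centralizer (R : Set Ω) : Subgroup Ω) := (hf.restrict inf_le_left).card_imgS
    _ ≤ Nat.card (centralizerIn S R) := Subgroup.card_le_of_le h2

/-- For `N` fully centralized, `N C_S(N)` is receptive. -/
lemma receptive_sup_centralizerIn [Finite S] {p : ℕ} [Fact p.Prime] (hS : IsPGroup p S)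
    {F : FusionSystem S} (hF : F.IsSaturated p) {N : Subgroup Ω} (hN : F.IsFullyCentralized N) :
    F.IsReceptive (N ⊔ centralizerIn S N) :=
  saturated_receptive_of_fullyCentralized hS hF (fullyCentralized_of_isCentric
    (Cfsg.Agent.H89.isCentric_sup_centralizerIn (saturated_receptive_of_fullyCentralized hS hF hN)))

/-- Extending an isomorphism onto a fully normalized subgroup over the centralizer. -/
lemma exists_transport [Finite S] {p : ℕ} [Fact p.Prime] (hS : IsPGroup p S) {F : FusionSystem S}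
    (hF : F.IsSaturated p) {R R₁ : Subgroup Ω} (hR₁ : F.IsFullyNormalized R₁) {θ : Ω → Ω}
    (hθ : Mor F R θ) (himg : imgS R θ = R₁) :
    ∃ θ', Mor F (R ⊔ centralizerIn S R) θ' ∧ (∀ x ∈ R, θ' x = θ x) ∧
      ∀ c ∈ centralizerIn S R, θ' c ∈ centralizerIn S R₁ := by
  have hrec := saturated_receptive_of_fullyCentralized hS hF (saturated_fullyNormalized hS hF hR₁).1
  obtain ⟨f', hf', hf'θ⟩ := receptive_extend' hrec hθ himg
  have hR : R ≤ extSub S R θ := le_extSub hθ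
  have hC : centralizerIn S R ≤ extSub S R θ := centralizerIn_le_extSub hθ
  refine ⟨f', hf'.restrict (sup_le hR hC), hf'θ, fun c hc => ?_⟩
  rw [mem_centralizerIn_iff]
  refine ⟨hf'.mem (hC hc), fun y hy => ?_⟩
  rw [← himg] at hy
  obtain ⟨x, hx, rfl⟩ := hθ.mem_imgS.1 hy
  rw [← hf'θ x hx, ← hf'.map_mul (hR hx) (hC hc), ← hf'.map_mul (hC hc) (hR hx),
    (mem_centralizerIn_iff.1 hc).2 x hx]

/-- Transporting a good extension along an isomorphism `θ'` defined on `R C_S(R)`. -/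
lemma Good.transport [Finite S] {F : FusionSystem S} {R R₁ : Subgroup Ω} {θ' a g₁ : Ω → Ω}
    (hθ' : Mor F (R ⊔ centralizerIn S R) θ') (hθ'R : imgS R θ' = R₁)
    (hθ'C : ∀ c ∈ centralizerIn S R, θ' c ∈ centralizerIn S R₁)
    (haR : ∀ x ∈ R, a x ∈ R) (hg₁ : Good F R₁ g₁) (hg₁a : ∀ x ∈ R, g₁ (θ' x) = θ' (a x)) :
    ∃ g, Good F R g ∧ (∀ x ∈ R, g x = a x) ∧ ∀ x ∈ R ⊔ centralizerIn S R, θ' (g x) = g₁ (θ' x) := by
  have hθR : Mor F R θ' := hθ'.restrict le_sup_left
  have hθC : Mor F (centralizerIn S R) θ' := hθ'.restrict le_sup_right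
  have hWle : imgS (R ⊔ centralizerIn S R) θ' ≤ R₁ ⊔ centralizerIn S R₁ := by
    rw [hθ'.imgS_sup, hθ'R]
    refine sup_le_sup le_rfl ?_
    intro y hy
    obtain ⟨c, hc, rfl⟩ := hθC.mem_imgS.1 hy
    exact hθ'C c hc
  have hW : imgS (R ⊔ centralizerIn S R) θ' = imgS R θ' ⊔ imgS (centralizerIn S R) θ' := hθ'.imgS_sup
  have hg₁W : Mor F (imgS R θ' ⊔ imgS (centralizerIn S R) θ') g₁ := by
    rw [← hW]
    exact hg₁.1.1.restrict hWle
  have hR₁W : R₁ ≤ imgS (R ⊔ centralizerIn S R) θ' := by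
    rw [hW, hθ'R]
    exact le_sup_left
  have hmaps : ∀ x ∈ R ⊔ centralizerIn S R, g₁ (θ' x) ∈ imgS (R ⊔ centralizerIn S R) θ' := by
    have h1 : imgS (imgS R θ' ⊔ imgS (centralizerIn S R) θ') g₁ ≤ imgS (R ⊔ centralizerIn S R) θ' := by
      rw [hg₁W.imgS_sup]
      refine sup_le ?_ ?_
      · intro y hy
        obtain ⟨y', hy', rfl⟩ := (hg₁W.restrict le_sup_left).mem_imgS.1 hy
        obtain ⟨x, hx, rfl⟩ := hθR.mem_imgS.1 hy'
        rw [hg₁a x hx]
        exact hθ'.mem_imgS_of_mem (Subgroup.mem_sup_left (haR x hx))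
      · intro y hy
        obtain ⟨y', hy', rfl⟩ := (hg₁W.restrict le_sup_right).mem_imgS.1 hy
        obtain ⟨c, hc, rfl⟩ := hθC.mem_imgS.1 hy'
        have h2 : (θ' c)⁻¹ * g₁ (θ' c) ∈ R₁ := hg₁.2 _ (hθ'C c hc)
        have h3 : g₁ (θ' c) = θ' c * ((θ' c)⁻¹ * g₁ (θ' c)) := by group
        rw [h3]
        exact Subgroup.mul_mem _ (hθ'.mem_imgS_of_mem (Subgroup.mem_sup_right hc)) (hR₁W h2)
    intro x hx
    apply h1
    have hx' : θ' x ∈ imgS R θ' ⊔ imgS (centralizerIn S R) θ' := by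
      rw [← hW]
      exact hθ'.mem_imgS_of_mem hx
    exact hg₁W.mem_imgS_of_mem hx'
  have h12 : Mor F (R ⊔ centralizerIn S R) (g₁ ∘ θ') :=
    hθ'.comp (hg₁.1.1.restrict hWle) (fun x hx => hθ'.mem_imgS_of_mem hx)
  have hg : Mor F (R ⊔ centralizerIn S R) (invOn (R ⊔ centralizerIn S R) θ' ∘ (g₁ ∘ θ')) :=
    h12.comp hθ'.inv hmaps
  have key : ∀ x ∈ R ⊔ centralizerIn S R,
      θ' ((invOn (R ⊔ centralizerIn S R) θ' ∘ (g₁ ∘ θ')) x) = g₁ (θ' x) :=
    fun x hx => hθ'.apply_invOn (hmaps x hx)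
  have hgQ : ∀ x ∈ R ⊔ centralizerIn S R,
      (invOn (R ⊔ centralizerIn S R) θ' ∘ (g₁ ∘ θ')) x ∈ R ⊔ centralizerIn S R :=
    fun x hx => hθ'.invOn_mem (hmaps x hx)
  have hga : ∀ x ∈ R, (invOn (R ⊔ centralizerIn S R) θ' ∘ (g₁ ∘ θ')) x = a x := by
    intro x hx
    apply hθ'.injOn (hgQ x (Subgroup.mem_sup_left hx)) (Subgroup.mem_sup_left (haR x hx))
    rw [key x (Subgroup.mem_sup_left hx), hg₁a x hx]
  refine ⟨_, ⟨⟨hg, fun x hx => by rw [hga x hx]; exact haR x hx⟩, fun c hc => ?_⟩, hga, key⟩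
  have hcQ : c ∈ R ⊔ centralizerIn S R := Subgroup.mem_sup_right hc
  have h2 : (θ' c)⁻¹ * g₁ (θ' c) ∈ R₁ := hg₁.2 _ (hθ'C c hc)
  rw [← hθ'R] at h2
  obtain ⟨r, hr, hrw⟩ := hθR.mem_imgS.1 h2
  have hrQ : r ∈ R ⊔ centralizerIn S R := Subgroup.mem_sup_left hr
  have h3 : c * r = (invOn (R ⊔ centralizerIn S R) θ' ∘ (g₁ ∘ θ')) c := by
    apply hθ'.injOn (Subgroup.mul_mem _ hcQ hrQ) (hgQ c hcQ)
    rw [hθ'.map_mul hcQ hrQ, key c hcQ, hrw]
    group
  rw [← h3]
  have : c⁻¹ * (c * r) = r := by group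
  rw [this]
  exact hr

end Cfsg.Agent.H86
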