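import Mathlib
import Cfsg.Prelude.Def_FusionSystem
import Cfsg.Agent.H86.NCStar

set_option autoImplicit false
set_option maxHeartbeats 800000

/-!
The key step in extending automorphisms of a normal subsystem: from a good extension at `N_T(P)`
to a good extension at `P` of a `p`-power of the automorphism.
-/

namespace Cfsg.Agent.H86

open Cfsg Cfsg.FusionSystem Cfsg.Agent.H87

variable {Ω : Type*} [Group Ω] {S T : Subgroup Ω}

lemma autFun_pow {P : Subgroup Ω} (α : MulAut P) (k : ℕ) : ∀ {x : Ω}, x ∈ P →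
    autFun P (α ^ k) x = (autFun P α)^[k] x := by
  induction k with
  | zero => intro x hx; rw [pow_zero, autFun_one hx]; rfl
  | succ k ih =>
    intro x hx
    rw [pow_succ, autFun_mul _ _ hx, ih (autFun_mem α hx), Function.iterate_succ_apply]

lemma conj_mem_centralizerIn {N : Subgroup Ω} {s : Ω} (hs : s ∈ S) (hsN' : ∀ x ∈ N, s⁻¹ * x * s ∈ N) :
    ∀ c ∈ centralizerIn S N, s * c * s⁻¹ ∈ centralizerIn S N := by
  intro c hc
  obtain ⟨hcS, hcC⟩ := mem_centralizerIn_iff.1 hc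
  rw [mem_centralizerIn_iff]
  refine ⟨S.mul_mem (S.mul_mem hs hcS) (S.inv_mem hs), fun x hx => ?_⟩
  have h := hcC _ (hsN' x hx)
  calc x * (s * c * s⁻¹) = s * ((s⁻¹ * x * s) * c) * s⁻¹ := by group
    _ = s * (c * (s⁻¹ * x * s)) * s⁻¹ := by rw [h]
    _ = s * c * s⁻¹ * x := by group

/-- For `P ≤ T` fully normalized in `F`, the subgroup `N_T(P)` is fully centralized in `F`. -/
lemma normalizerIn_fullyCentralized [Finite S] {p : ℕ} [Fact p.Prime] (hS : IsPGroup p S)
    {F : FusionSystem S} {E : FusionSystem T} (D : NormalData p F E) {P : Subgroup Ω} (hPT : P ≤ T)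
    (hPn : F.IsFullyNormalized P) : F.IsFullyCentralized (normalizerIn T P) := by
  have hTS := D.le
  have hNT : normalizerIn T P ≤ T := inf_le_left
  have hNS : normalizerIn T P ≤ S := hNT.trans hTS
  have hPN : P ≤ normalizerIn T P := le_normalizerIn hPT
  refine ⟨hNS, fun N' hN' => ?_⟩
  obtain ⟨ψ, hψ, hψimg⟩ := isConj_iff.1 hN'
  obtain ⟨hfc, hfa⟩ := saturated_fullyNormalized hS D.satF hPn
  have hrec := saturated_receptive_of_fullyCentralized hS D.satF hfc
  have hψP : Mor F P ψ := hψ.restrict hPN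
  obtain ⟨χ, hχ, hχmaps, hχimg⟩ := exists_normalizer_map hS hfa hrec
    (isConj_symm (isConj_iff.2 ⟨ψ, hψP, rfl⟩))
  have hP'N' : imgS P ψ ≤ N' := by
    rw [← hψimg]
    exact hψ.imgS_mono hPN
  have hN'S : N' ≤ S := by
    rw [← hψimg]
    exact hψ.imgS_le
  have hN'T : N' ≤ T := by
    rw [← hψimg]
    intro y hy
    obtain ⟨x, hx, rfl⟩ := hψ.mem_imgS.1 hy
    exact D.mapsT hNT hψ x hx
  have hN'norm : N' ≤ normalizerIn S (imgS P ψ) := by
    rw [← hψimg]
    intro y hy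
    obtain ⟨x, hx, rfl⟩ := hψ.mem_imgS.1 hy
    exact ⟨hψ.mem hx, hψ.mem_normalizer_imgS hPN inf_le_right hx⟩
  have hχN' : Mor F N' χ := hχ.restrict hN'norm
  have hχN'le : imgS N' χ ≤ normalizerIn T P := by
    intro y hy
    obtain ⟨x, hx, rfl⟩ := hχN'.mem_imgS.1 hy
    exact ⟨D.mapsT hN'T hχN' x hx, (hχmaps x (hN'norm hx)).2⟩
  haveI : Finite (normalizerIn T P) := finite_of_le hNS
  have hχN'eq : imgS N' χ = normalizerIn T P :=
    Subgroup.eq_of_le_of_card_ge hχN'le (by rw [hχN'.card_imgS, ← hψimg, hψ.card_imgS])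
  have hCle : centralizerIn S N' ≤ normalizerIn S (imgS P ψ) := by
    intro c hc
    obtain ⟨hcS, hcC⟩ := mem_centralizerIn_iff.1 hc
    refine ⟨hcS, Subgroup.centralizer_le_normalizer _ ?_⟩
    rw [Subgroup.mem_centralizer_iff]
    intro x hx
    exact hcC x (hP'N' hx)
  have hmapsC : ∀ c ∈ centralizerIn S N', χ c ∈ centralizerIn S (normalizerIn T P) := by
    intro c hc
    rw [mem_centralizerIn_iff]
    refine ⟨hχ.mem (hCle hc), fun y hy => ?_⟩
    rw [← hχN'eq] at hy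
    obtain ⟨x, hx, rfl⟩ := hχN'.mem_imgS.1 hy
    rw [← hχ.map_mul (hN'norm hx) (hCle hc), ← hχ.map_mul (hCle hc) (hN'norm hx),
      (mem_centralizerIn_iff.1 hc).2 x hx]
  haveI : Finite (centralizerIn S (normalizerIn T P)) := finite_of_le (S := S) inf_le_left
  refine Nat.card_le_card_of_injective
    (fun c : centralizerIn S N' => (⟨χ c, hmapsC c c.2⟩ : centralizerIn S (normalizerIn T P))) ?_
  intro c d hcd
  exact Subtype.ext (hχ.injOn (hCle c.2) (hCle d.2) (congrArg Subtype.val hcd))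

/-- Conjugation by `s ∈ C_S(P)` commutes with a good extension `g` at `N ≥ P` up to an inner
automorphism induced by an element of `Z(P) s C_S(N)`. -/
theorem good_conj_centralizer [Finite S] {p : ℕ} [Fact p.Prime] (hS : IsPGroup p S)
    {F : FusionSystem S} {E : FusionSystem T} (D : NormalData p F E) {P N : Subgroup Ω}
    (hPc : E.IsCentric P) (hPN : P ≤ N) (hNT : N ≤ T) (hNfc : F.IsFullyCentralized N)
    {e' g : Ω → Ω} (he' : Mor E N e') (he'P : ∀ x ∈ P, e' x ∈ P)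
    (hg : Good F N g) (hge : ∀ x ∈ N, g x = e' x)
    {s : Ω} (hs : s ∈ centralizerIn S P) (hsN : ∀ x ∈ N, s * x * s⁻¹ ∈ N)
    (hsN' : ∀ x ∈ N, s⁻¹ * x * s ∈ N) :
    ∃ z ∈ P, z ∈ Subgroup.centralizer (P : Set Ω) ∧ ∃ s' ∈ centralizerIn S N,
      ∀ x ∈ N ⊔ centralizerIn S N, g (s * x * s⁻¹) = (z * s * s') * g x * (z * s * s')⁻¹ := by
  have hTS : T ≤ S := D.le
  have hNS : N ≤ S := hNT.trans hTS
  have hPT : P ≤ T := hPN.trans hNT
  obtain ⟨hsS, hsC⟩ := mem_centralizerIn_iff.1 hs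
  haveI : Finite T := finite_of_le hTS
  haveI : Finite N := finite_of_le hNS
  haveI : Finite P := finite_of_le (hPT.trans hTS)
  have hTp : IsPGroup p T := hS.to_le hTS
  have he'N : ∀ x ∈ N, e' x ∈ N := fun x hx => by rw [← hge x hx]; exact hg.1.2 x hx
  have himgN : imgS N e' = N := imgS_eq_of_maps he' he'N
  have he'Pm : Mor E P e' := he'.restrict hPN
  have himgP : imgS P e' = P := imgS_eq_of_maps he'Pm he'P
  have hcs : Mor F N (fun x => s * x * s⁻¹) := Mor.conj F hNS hsS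
  have himgcs : imgS N (fun x => s * x * s⁻¹) = N := imgS_eq_of_maps hcs hsN
  have he'inv : Mor E N (invOn N e') := by
    have := he'.inv
    rwa [himgN] at this
  have hinvN : ∀ x ∈ N, invOn N e' x ∈ N := fun x hx => he'.invOn_mem (by rw [himgN]; exact hx)
  have hinvapp : ∀ x ∈ N, e' (invOn N e' x) = x := fun x hx => he'.apply_invOn (by rw [himgN]; exact hx)
  obtain ⟨χ, hχ, hχeq⟩ := D.si N N (invOn N e') (fun x => s * x * s⁻¹) le_rfl hNT he'inv hinvN hcs
  rw [himgcs] at hχ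
  have hχN : ∀ y ∈ N, χ y ∈ N := by
    intro y hy
    have h1 := hχeq _ (hsN' y hy)
    have h2 : s * (s⁻¹ * y * s) * s⁻¹ = y := by group
    rw [h2] at h1
    rw [h1]
    exact hsN _ (hinvN _ (hsN' y hy))
  have hω : Mor E N (e' ∘ χ) := hχ.comp he' hχN
  have hsP : ∀ x ∈ P, s * x * s⁻¹ = x := by
    intro x hx
    rw [← hsC x hx, mul_inv_cancel_right]
  have hωfix : ∀ x ∈ P, (e' ∘ χ) x = x := by
    intro x hx
    have hx' : x ∈ imgS P e' := by rw [himgP]; exact hx
    obtain ⟨x', hx'P, rfl⟩ := he'Pm.mem_imgS.1 hx'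
    have h1 := hχeq _ (hPN hx)
    rw [hsP _ hx, invOn_apply he'.injOn (hPN hx'P), hsP _ hx'P] at h1
    show e' (χ (e' x')) = e' x'
    rw [h1]
  obtain ⟨z, hzP, hzC, hωz⟩ := eq_conj_of_fix_centric hTp D.satE hPN hPc hω hωfix
  have hzs : z * s ∈ S := S.mul_mem (hTS (hPT hzP)) hsS
  have key1 : ∀ m ∈ N, e' (s * m * s⁻¹) = (z * s) * e' m * (z * s)⁻¹ := by
    intro m hm
    have hy : s * e' m * s⁻¹ ∈ N := hsN _ (he'N m hm)
    have h1 := hωz _ hy
    have h2 := hχeq _ (he'N m hm)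
    rw [invOn_apply he'.injOn hm] at h2
    have h3 : (e' ∘ χ) (s * e' m * s⁻¹) = e' (s * m * s⁻¹) := by
      show e' (χ (s * e' m * s⁻¹)) = _
      rw [h2]
    rw [h3] at h1
    rw [h1]
    group
  have hQS : N ⊔ centralizerIn S N ≤ S := hg.1.supLe
  have hsC' : ∀ c ∈ centralizerIn S N, s * c * s⁻¹ ∈ centralizerIn S N :=
    conj_mem_centralizerIn hsS hsN'
  have hsQ : ∀ x ∈ N ⊔ centralizerIn S N, s * x * s⁻¹ ∈ N ⊔ centralizerIn S N := conj_mem_sup hsN hsC'
  let r : Ω → Ω := fun x => (z * s)⁻¹ * g (s * invOn (N ⊔ centralizerIn S N) g x * s⁻¹) * (z * s)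
  have hr : Mor F (N ⊔ centralizerIn S N) r := by
    have h1 : Mor F (N ⊔ centralizerIn S N) (invOn (N ⊔ centralizerIn S N) g) := hg.1.inv.1
    have h2 : Mor F (N ⊔ centralizerIn S N) ((fun x => s * x * s⁻¹) ∘ invOn (N ⊔ centralizerIn S N) g) :=
      h1.comp (Mor.conj F hQS hsS) hg.1.inv.mapsQ
    have h3 : Mor F (N ⊔ centralizerIn S N)
        (g ∘ ((fun x => s * x * s⁻¹) ∘ invOn (N ⊔ centralizerIn S N) g)) :=
      h2.comp hg.1.1 (fun x hx => hsQ _ (hg.1.inv.mapsQ x hx))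
    have h4 := h3.comp (Mor.conj F hQS (S.inv_mem hzs))
      (fun x hx => hg.1.mapsQ _ (hsQ _ (hg.1.inv.mapsQ x hx)))
    refine h4.congr (fun x _ => ?_)
    show (z * s)⁻¹ * g (s * invOn (N ⊔ centralizerIn S N) g x * s⁻¹) * (z * s)⁻¹⁻¹ = _
    rw [inv_inv]
  have hrN : ∀ x ∈ N, r x = x := by
    intro x hx
    have hm : invOn N e' x ∈ N := hinvN x hx
    have hgm : g (invOn N e' x) = x := by rw [hge _ hm, hinvapp x hx]
    have h1 : invOn (N ⊔ centralizerIn S N) g x = invOn N e' x := by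
      conv_lhs => rw [← hgm]
      exact hg.1.inv_apply (Subgroup.mem_sup_left hm)
    show (z * s)⁻¹ * g (s * invOn (N ⊔ centralizerIn S N) g x * s⁻¹) * (z * s) = x
    rw [h1, hge _ (hsN _ hm), key1 _ hm, hinvapp x hx]
    group
  have hrQ : QAut F N r := ⟨hr, fun x hx => by rw [hrN x hx]; exact hx⟩
  have hrZ : ∀ c ∈ centralizerIn S N, c⁻¹ * r c ∈ N := by
    intro c hc
    have hc' : invOn (N ⊔ centralizerIn S N) g c ∈ centralizerIn S N := hg.1.inv.mapsC c hc
    have hw1 : c⁻¹ * invOn (N ⊔ centralizerIn S N) g c ∈ N := hg.inv.2 c hc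
    have hc'' : s * invOn (N ⊔ centralizerIn S N) g c * s⁻¹ ∈ centralizerIn S N := hsC' _ hc'
    have hw2 : (s * invOn (N ⊔ centralizerIn S N) g c * s⁻¹)⁻¹ *
        g (s * invOn (N ⊔ centralizerIn S N) g c * s⁻¹) ∈ N := hg.2 _ hc''
    have hn : s⁻¹ * z⁻¹ * s ∈ N := hsN' _ (N.inv_mem (hPN hzP))
    have hcomm : (s⁻¹ * z⁻¹ * s) * c = c * (s⁻¹ * z⁻¹ * s) := (mem_centralizerIn_iff.1 hc).2 _ hn
    have hw3 : s⁻¹ * ((s * invOn (N ⊔ centralizerIn S N) g c * s⁻¹)⁻¹ *
        g (s * invOn (N ⊔ centralizerIn S N) g c * s⁻¹) * z) * s ∈ N :=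
      hsN' _ (N.mul_mem hw2 (hPN hzP))
    have e : c⁻¹ * r c = c⁻¹ * ((s⁻¹ * z⁻¹ * s) * c) * (c⁻¹ * invOn (N ⊔ centralizerIn S N) g c) *
        (s⁻¹ * ((s * invOn (N ⊔ centralizerIn S N) g c * s⁻¹)⁻¹ *
          g (s * invOn (N ⊔ centralizerIn S N) g c * s⁻¹) * z) * s) := by
      show c⁻¹ * ((z * s)⁻¹ * g (s * invOn (N ⊔ centralizerIn S N) g c * s⁻¹) * (z * s)) = _
      generalize g (s * invOn (N ⊔ centralizerIn S N) g c * s⁻¹) = A
      generalize invOn (N ⊔ centralizerIn S N) g c = B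
      group
    rw [e, hcomm, inv_mul_cancel_left]
    exact N.mul_mem (N.mul_mem hn hw1) hw3
  have hrC : Mor (centralizerSystem F N hNS) (centralizerIn S N) r := by
    rw [mor_centralizerSystem_iff hNS]
    refine ⟨le_rfl, hrQ.mapsC, r, ?_, fun _ _ => rfl, hrN⟩
    rw [sup_comm]
    exact hr
  haveI : Finite (centralizerIn S N) := finite_of_le (S := S) inf_le_left
  have hCp : IsPGroup p (centralizerIn S N) := hS.to_le inf_le_left
  have hsat : (centralizerSystem F N hNS).IsSaturated p :=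
    centralizerSystem_saturated' hS D.satF hNfc _ (centralizerSystem_isCentralizerSystem F N hNS)
  have hfa : (centralizerSystem F N hNS).IsFullyAutomized p (centralizerIn S N) :=
    (saturated_fullyNormalized hCp hsat (Cfsg.Agent.H88.fullyNormalized_self _)).2
  obtain ⟨s', hs', Hs'⟩ := inner_of_centralizer_aut hS hNS hfa hrC hrQ.mapsC hrZ
  have hs'S : s' ∈ S := hs'.1
  have hrall : ∀ x ∈ N ⊔ centralizerIn S N, r x = s' * x * s'⁻¹ := by
    refine Mor.eq_on_sup hr (Mor.conj F hQS hs'S) (fun x hx => ?_) Hs'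
    rw [hrN x hx, ← (mem_centralizerIn_iff.1 hs').2 x hx, mul_inv_cancel_right]
  refine ⟨z, hzP, hzC, s', hs', fun x hx => ?_⟩
  have h1 := hrall _ (hg.1.mapsQ x hx)
  have h2 : r (g x) = (z * s)⁻¹ * g (s * x * s⁻¹) * (z * s) := by
    show (z * s)⁻¹ * g (s * invOn (N ⊔ centralizerIn S N) g (g x) * s⁻¹) * (z * s) = _
    rw [hg.1.inv_apply hx]
  rw [h2] at h1
  have h3 : g (s * x * s⁻¹) = (z * s) * ((z * s)⁻¹ * g (s * x * s⁻¹) * (z * s)) * (z * s)⁻¹ := by group
  rw [h3, h1]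
  group

/-- From a good extension at `N_T(P)` of an automorphism `e'` of `N_T(P)` preserving `P`, a good
extension at `P` of the `|C_S(P)|`-th power of `e'`. -/
theorem good_pow_of_good_normalizer [Finite S] {p : ℕ} [Fact p.Prime] (hS : IsPGroup p S)
    {F : FusionSystem S} {E : FusionSystem T} (D : NormalData p F E) {P : Subgroup Ω}
    (hPc : E.IsCentric P) (hPn : F.IsFullyNormalized P)
    {e' g : Ω → Ω} (he' : Mor E (normalizerIn T P) e') (he'P : ∀ x ∈ P, e' x ∈ P)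
    (hg : Good F (normalizerIn T P) g) (hge : ∀ x ∈ normalizerIn T P, g x = e' x) :
    ∃ g', Good F P g' ∧ ∀ x ∈ P, g' x = e'^[Nat.card (centralizerIn S P)] x := by
  have hTS : T ≤ S := D.le
  have hPT : P ≤ T := hPc.1
  have hPS : P ≤ S := hPT.trans hTS
  have hNT : normalizerIn T P ≤ T := inf_le_left
  have hNS : normalizerIn T P ≤ S := hNT.trans hTS
  have hPN : P ≤ normalizerIn T P := le_normalizerIn hPT
  have hNfc : F.IsFullyCentralized (normalizerIn T P) := normalizerIn_fullyCentralized hS D hPT hPn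
  have hQS : normalizerIn T P ⊔ centralizerIn S (normalizerIn T P) ≤ S := hg.1.supLe
  have hrec : F.IsReceptive (normalizerIn T P ⊔ centralizerIn S (normalizerIn T P)) :=
    receptive_sup_centralizerIn hS D.satF hNfc
  have hnormN : ∀ s ∈ centralizerIn S P, ∀ x ∈ normalizerIn T P, s * x * s⁻¹ ∈ normalizerIn T P := by
    intro s hs x hx
    obtain ⟨hsS, hsC⟩ := hs
    refine ⟨D.mapsT hNT (Mor.conj F hNS hsS) x hx, ?_⟩
    have h1 : s ∈ Subgroup.normalizer (P : Set Ω) := Subgroup.centralizer_le_normalizer _ hsC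
    exact Subgroup.mul_mem _ (Subgroup.mul_mem _ h1 hx.2) (Subgroup.inv_mem _ h1)
  have hnormN' : ∀ s ∈ centralizerIn S P, ∀ x ∈ normalizerIn T P, s⁻¹ * x * s ∈ normalizerIn T P := by
    intro s hs x hx
    have := hnormN s⁻¹ (Subgroup.inv_mem _ hs) x hx
    rwa [inv_inv] at this
  have hCN : centralizerIn S (normalizerIn T P) ≤ centralizerIn S P := by
    intro c hc
    obtain ⟨hcS, hcC⟩ := mem_centralizerIn_iff.1 hc
    exact mem_centralizerIn_iff.2 ⟨hcS, fun x hx => hcC x (hPN hx)⟩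
  have hdata : ∀ s ∈ centralizerIn S P, ∃ z ∈ P, z ∈ Subgroup.centralizer (P : Set Ω) ∧
      ∃ s' ∈ centralizerIn S (normalizerIn T P),
      ∀ x ∈ normalizerIn T P ⊔ centralizerIn S (normalizerIn T P),
        g (s * x * s⁻¹) = (z * s * s') * g x * (z * s * s')⁻¹ :=
    fun s hs => good_conj_centralizer hS D hPc hPN hNT hNfc he' he'P hg hge hs (hnormN s hs) (hnormN' s hs)
  have hsQ : ∀ s ∈ centralizerIn S P, ∀ x ∈ normalizerIn T P ⊔ centralizerIn S (normalizerIn T P),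
      s * x * s⁻¹ ∈ normalizerIn T P ⊔ centralizerIn S (normalizerIn T P) := fun s hs =>
    conj_mem_sup (hnormN s hs) (conj_mem_centralizerIn hs.1 (hnormN' s hs))
  have hCext : centralizerIn S P ≤
      extSub S (normalizerIn T P ⊔ centralizerIn S (normalizerIn T P)) g := by
    intro s hs
    obtain ⟨z, hzP, hzC, s', hs', H⟩ := hdata s hs
    rw [mem_extSub_iff hg.1.1]
    refine ⟨hs.1, mem_normalizer_of_forall_conj_mem (hsQ s hs) (fun y hy => ?_), z * s * s',
      S.mul_mem (S.mul_mem (hPS hzP) hs.1) hs'.1, H⟩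
    have := hsQ s⁻¹ (Subgroup.inv_mem _ hs) y hy
    rwa [inv_inv] at this
  obtain ⟨g'', hg'', hg''g⟩ := receptive_extend' hrec hg.1.1 hg.1.imgQ
  have hQext : normalizerIn T P ⊔ centralizerIn S (normalizerIn T P) ≤
      extSub S (normalizerIn T P ⊔ centralizerIn S (normalizerIn T P)) g := le_extSub hg.1.1
  have hNext : normalizerIn T P ≤
      extSub S (normalizerIn T P ⊔ centralizerIn S (normalizerIn T P)) g := le_sup_left.trans hQext
  have hPext : P ≤ extSub S (normalizerIn T P ⊔ centralizerIn S (normalizerIn T P)) g :=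
    hPN.trans hNext
  have hg''P : ∀ x ∈ P, g'' x = e' x := fun x hx => by
    rw [hg''g x (Subgroup.mem_sup_left (hPN hx)), hge x (hPN hx)]
  haveI : Finite P := finite_of_le hPS
  have himgP : imgS P e' = P := imgS_eq_of_maps (he'.restrict hPN) he'P
  have hg''C : ∀ c ∈ centralizerIn S P, g'' c ∈ centralizerIn S P := by
    intro c hc
    rw [mem_centralizerIn_iff]
    refine ⟨hg''.mem (hCext hc), fun x hx => ?_⟩
    have hx' : x ∈ imgS P e' := by rw [himgP]; exact hx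
    obtain ⟨x', hx'P, rfl⟩ := (he'.restrict hPN).mem_imgS.1 hx'
    rw [← hg''P x' hx'P, ← hg''.map_mul (hPext hx'P) (hCext hc), ← hg''.map_mul (hCext hc) (hPext hx'P),
      (mem_centralizerIn_iff.1 hc).2 x' hx'P]
  have hQA : QAut F P g'' :=
    ⟨hg''.restrict (sup_le hPext hCext), fun x hx => by rw [hg''P x hx]; exact he'P x hx⟩
  have hZC : P ⊓ Subgroup.centralizer (P : Set Ω) ≤ centralizerIn S P := inf_le_inf_right _ hPS
  have hZcomm : ∀ z ∈ P ⊓ Subgroup.centralizer (P : Set Ω), ∀ x ∈ centralizerIn S P, z * x = x * z :=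
    fun z hz x hx => (mem_centralizerIn_iff.1 hx).2 z hz.1
  have hZg : ∀ z ∈ P ⊓ Subgroup.centralizer (P : Set Ω), g'' z ∈ P ⊓ Subgroup.centralizer (P : Set Ω) :=
    fun z hz => ⟨hQA.2 z hz.1, (hg''C z (hZC hz)).2⟩
  let B : Subgroup Ω :=
    { carrier := {b | b ∈ centralizerIn S P ∧ b⁻¹ * g'' b ∈ P ⊓ Subgroup.centralizer (P : Set Ω)}
      one_mem' := by
        refine ⟨Subgroup.one_mem _, ?_⟩
        rw [hg''.map_one, inv_one, one_mul]
        exact Subgroup.one_mem _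
      mul_mem' := by
        rintro a b ⟨ha, haZ⟩ ⟨hb, hbZ⟩
        refine ⟨Subgroup.mul_mem _ ha hb, ?_⟩
        rw [hg''.map_mul (hCext ha) (hCext hb)]
        have h1 : (a * b)⁻¹ * (g'' a * g'' b) = b⁻¹ * ((a⁻¹ * g'' a) * b) * (b⁻¹ * g'' b) := by group
        rw [h1, hZcomm _ haZ b hb, inv_mul_cancel_left]
        exact Subgroup.mul_mem _ haZ hbZ
      inv_mem' := by
        rintro a ⟨ha, haZ⟩
        refine ⟨Subgroup.inv_mem _ ha, ?_⟩
        rw [hg''.map_inv (hCext ha)]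
        have h1 : a⁻¹⁻¹ * (g'' a)⁻¹ = (a * ((a⁻¹ * g'' a) * a⁻¹))⁻¹ := by group
        rw [h1, hZcomm _ haZ a⁻¹ (Subgroup.inv_mem _ ha), mul_inv_cancel_left]
        exact Subgroup.inv_mem _ haZ }
  have hBC : B ≤ centralizerIn S P := fun b hb => hb.1
  have hZB : P ⊓ Subgroup.centralizer (P : Set Ω) ≤ B := fun z hz =>
    ⟨hZC hz, Subgroup.mul_mem _ (Subgroup.inv_mem _ hz) (hZg z hz)⟩
  have hCPle : centralizerIn T P ≤ P := hPc.2 P (isConj_refl E hPT)
  have hCNB : centralizerIn S (normalizerIn T P) ≤ B := by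
    intro c hc
    refine ⟨hCN hc, ?_⟩
    rw [hg''g c (Subgroup.mem_sup_right hc)]
    have h1 : c⁻¹ * g c ∈ normalizerIn T P := hg.2 c hc
    have h2 : c⁻¹ * g c ∈ Subgroup.centralizer ((normalizerIn T P : Subgroup Ω) : Set Ω) := hg.cent hc
    have h3 : c⁻¹ * g c ∈ Subgroup.centralizer (P : Set Ω) := Subgroup.centralizer_le hPN h2
    exact ⟨hCPle ⟨hNT h1, h3⟩, h3⟩
  have hCB : ∀ s ∈ centralizerIn S P, s⁻¹ * g'' s ∈ B := by
    intro s hs
    obtain ⟨z, hzP, hzC, s', hs', H⟩ := hdata s hs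
    have hzZ : z ∈ P ⊓ Subgroup.centralizer (P : Set Ω) := ⟨hzP, hzC⟩
    have hhS : z * s * s' ∈ S := S.mul_mem (S.mul_mem (hPS hzP) hs.1) hs'.1
    have hd : (z * s * s')⁻¹ * g'' s ∈ centralizerIn S (normalizerIn T P) := by
      rw [mem_centralizerIn_iff]
      refine ⟨S.mul_mem (S.inv_mem hhS) (hg''.mem (hCext hs)), fun m hm => ?_⟩
      have hmQ : m ∈ normalizerIn T P ⊔ centralizerIn S (normalizerIn T P) := Subgroup.mem_sup_left hm
      have hx : invOn (normalizerIn T P ⊔ centralizerIn S (normalizerIn T P)) g m ∈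
          normalizerIn T P ⊔ centralizerIn S (normalizerIn T P) := hg.1.inv.mapsQ m hmQ
      have hgx : g (invOn (normalizerIn T P ⊔ centralizerIn S (normalizerIn T P)) g m) = m :=
        hg.1.apply_inv hmQ
      have h1 := H _ hx
      rw [hgx] at h1
      have h2 : g (s * invOn (normalizerIn T P ⊔ centralizerIn S (normalizerIn T P)) g m * s⁻¹) =
          g'' s * m * (g'' s)⁻¹ := by
        rw [← hg''g _ (hsQ s hs _ hx), hg''.map_mul (Subgroup.mul_mem _ (hCext hs) (hQext hx))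
          (Subgroup.inv_mem _ (hCext hs)), hg''.map_mul (hCext hs) (hQext hx), hg''.map_inv (hCext hs),
          hg''g _ hx, hgx]
      rw [h2] at h1
      have h4 : m * ((z * s * s')⁻¹ * g'' s) =
          (z * s * s')⁻¹ * ((z * s * s') * m * (z * s * s')⁻¹) * g'' s := by
        group
      rw [h4, ← h1]
      group
    have h3 : s⁻¹ * g'' s = z * (s' * ((z * s * s')⁻¹ * g'' s)) := by
      have hzs : z * s = s * z := hZcomm z hzZ s hs
      have h5 : s⁻¹ * g'' s = s⁻¹ * (z * s) * (s' * ((z * s * s')⁻¹ * g'' s)) := by group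
      rw [h5, hzs, inv_mul_cancel_left]
    rw [h3]
    exact B.mul_mem (hZB hzZ) (hCNB (Subgroup.mul_mem _ hs' hd))
  have hchain := iterate_chain (centralizerIn S P) B (P ⊓ Subgroup.centralizer (P : Set Ω)) g''
    (fun x hx y hy => hg''.map_mul (hCext hx) (hCext hy)) hg''C hZC hBC hZcomm hZg
    (fun b hb => hb.2) hCB (Nat.card (centralizerIn S P))
  haveI : Finite (centralizerIn S P) := finite_of_le (S := S) inf_le_left
  refine ⟨g''^[Nat.card (centralizerIn S P)], ⟨hQA.iterate _, fun c hc => ?_⟩, ?_⟩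
  · obtain ⟨z', hz', hck⟩ := hchain c hc
    have hu : c⁻¹ * g'' c ∈ centralizerIn S P := Subgroup.mul_mem _ (Subgroup.inv_mem _ hc) (hg''C c hc)
    have h1 : (⟨_, hu⟩ : centralizerIn S P) ^ Nat.card (centralizerIn S P) = 1 := pow_card_eq_one'
    have h2 := congrArg Subtype.val h1
    simp only [Subgroup.coe_pow, Subgroup.coe_one] at h2
    rw [hck, h2, mul_one, inv_mul_cancel_left]
    exact hz'.1
  · have hit : ∀ j : ℕ, ∀ x ∈ P, g''^[j] x = e'^[j] x ∧ e'^[j] x ∈ P := by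
      intro j
      induction j with
      | zero => intro x hx; exact ⟨rfl, hx⟩
      | succ j ih =>
        intro x hx
        obtain ⟨h1, h2⟩ := ih x hx
        rw [Function.iterate_succ_apply', Function.iterate_succ_apply', h1, hg''P _ h2]
        exact ⟨rfl, he'P _ h2⟩
    exact fun x hx => (hit _ x hx).1

end Cfsg.Agent.H86
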