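import Mathlib
import Cfsg.Prelude.Def_FusionSystem
import Cfsg.Agent.H86.NCNorm

set_option autoImplicit false
set_option maxHeartbeats 800000

/-!
Every automorphism in a normal subsystem `E` of an `E`-centric subgroup `R` has a good extension to
`R C_S(R)` in the ambient system.
-/

namespace Cfsg.Agent.H86

open Cfsg Cfsg.FusionSystem Cfsg.Agent.H87

variable {Ω : Type*} [Group Ω] {S T : Subgroup Ω}

lemma iterate_congr_on {P : Subgroup Ω} {f g : Ω → Ω} (h : ∀ x ∈ P, f x = g x) (hP : ∀ x ∈ P, g x ∈ P) :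
    ∀ (j : ℕ), ∀ x ∈ P, f^[j] x = g^[j] x ∧ g^[j] x ∈ P := by
  intro j
  induction j with
  | zero => intro x hx; exact ⟨rfl, hx⟩
  | succ j ih =>
    intro x hx
    obtain ⟨h1, h2⟩ := ih x hx
    rw [Function.iterate_succ_apply', Function.iterate_succ_apply', h1, h _ h2]
    exact ⟨rfl, hP _ h2⟩

/-- Good extensions at a fully normalized `E`-centric subgroup, assuming them at larger subgroups. -/
theorem good_of_fullyNormalized [Finite S] {p : ℕ} [Fact p.Prime] (hS : IsPGroup p S)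
    {F : FusionSystem S} {E : FusionSystem T} (D : NormalData p F E) {P : Subgroup Ω}
    (hPc : E.IsCentric P) (hPn : F.IsFullyNormalized P)
    (IH : ∀ R : Subgroup Ω, E.IsCentric R → Nat.card P < Nat.card R → ∀ a : Ω → Ω, Mor E R a →
      (∀ x ∈ R, a x ∈ R) → ∃ g, Good F R g ∧ ∀ x ∈ R, g x = a x) :
    ∀ a : Ω → Ω, Mor E P a → (∀ x ∈ P, a x ∈ P) → ∃ g, Good F P g ∧ ∀ x ∈ P, g x = a x := by
  have hTS : T ≤ S := D.le
  have hPT : P ≤ T := hPc.1
  have hPS : P ≤ S := hPT.trans hTS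
  haveI : Finite T := finite_of_le hTS
  haveI : Finite P := finite_of_le hPS
  have hTp : IsPGroup p T := hS.to_le hTS
  by_cases hPeq : P = T
  · subst hPeq
    intro a ha haP
    obtain ⟨b, hb, hba, hbc⟩ := D.n1 a ha
    exact ⟨b, ⟨⟨hb, fun x hx => by rw [hba x hx]; exact haP x hx⟩, hbc⟩, hba⟩
  have hPlt : P < T := lt_of_le_of_ne hPT hPeq
  have hNlt : P < normalizerIn T P := lt_normalizerIn hTp hPlt
  have hNT : normalizerIn T P ≤ T := inf_le_left
  haveI : Finite (normalizerIn T P) := finite_of_le (hNT.trans hTS)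
  have hNcard : Nat.card P < Nat.card (normalizerIn T P) := card_lt_card_of_lt hNlt
  have hNc : E.IsCentric (normalizerIn T P) := isCentric_of_le hPc hNlt.le hNT
  obtain ⟨hPfc, hPfa⟩ := saturated_fullyNormalized hS D.satF hPn
  have hPrec : F.IsReceptive P := saturated_receptive_of_fullyCentralized hS D.satF hPfc
  have hPnE : E.IsFullyNormalized P := D.fullyNormalized_E hS hPT hPn
  obtain ⟨hPfcE, hPfaE⟩ := saturated_fullyNormalized hTp D.satE hPnE
  have hPrecE : E.IsReceptive P := saturated_receptive_of_fullyCentralized hTp D.satE hPfcE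
  have hCPle : centralizerIn T P ≤ P := hPc.2 P (isConj_refl E hPT)
  let H : Subgroup (E.autGroup P) :=
    { carrier := {α | ∃ g, Good F P g ∧ ∀ x ∈ P, g x = autFun P (α : MulAut P) x}
      one_mem' := ⟨fun x => x, Good.id F hPS, fun x hx => (autFun_one hx).symm⟩
      mul_mem' := by
        rintro α β ⟨g, hg, hgα⟩ ⟨g', hg', hgβ⟩
        refine ⟨g ∘ g', hg'.comp hg, fun x hx => ?_⟩
        show g (g' x) = autFun P ((α : MulAut P) * (β : MulAut P)) x
        rw [autFun_mul _ _ hx, hgβ x hx, hgα _ (autFun_mem _ hx)]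
      inv_mem' := by
        rintro α ⟨g, hg, hgα⟩
        refine ⟨invOn (P ⊔ centralizerIn S P) g, hg.inv, fun x hx => ?_⟩
        show _ = autFun P (α : MulAut P)⁻¹ x
        have hy : autFun P (α : MulAut P)⁻¹ x ∈ P := autFun_mem _ hx
        have h1 : g (autFun P (α : MulAut P)⁻¹ x) = x := by
          rw [hgα _ hy, ← autFun_mul _ _ hx, mul_inv_cancel, autFun_one hx]
        conv_lhs => rw [← h1]
        exact hg.1.inv_apply (Subgroup.mem_sup_left hy) }
  have hHn : H.Normal := by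
    refine ⟨fun α hα γ => ?_⟩
    obtain ⟨g, hg, hgα⟩ := hα
    have hγ : Mor E P (autFun P (γ : MulAut P)) := (mem_autGroup_iff hPT _).1 γ.2
    have hγF : Mor F P (autFun P (γ : MulAut P)) := D.morF hγ
    have hγimg : imgS P (autFun P (γ : MulAut P)) = P := imgS_eq_of_maps hγF (fun x hx => autFun_mem _ hx)
    obtain ⟨f', hf', hf'γ⟩ := receptive_extend' hPrec hγF hγimg
    have hQA : QAut F P f' := ⟨hf'.restrict (sup_le (le_extSub hγF) (centralizerIn_le_extSub hγF)),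
      fun x hx => by rw [hf'γ x hx]; exact autFun_mem _ hx⟩
    refine ⟨_, hg.conjBy hQA, fun x hx => ?_⟩
    have hy : autFun P (γ : MulAut P)⁻¹ x ∈ P := autFun_mem _ hx
    have h1 : f' (autFun P (γ : MulAut P)⁻¹ x) = x := by
      rw [hf'γ _ hy, ← autFun_mul _ _ hx, mul_inv_cancel, autFun_one hx]
    have h2 : invOn (P ⊔ centralizerIn S P) f' x = autFun P (γ : MulAut P)⁻¹ x := by
      conv_lhs => rw [← h1]
      exact hQA.inv_apply (Subgroup.mem_sup_left hy)
    show f' (g (invOn (P ⊔ centralizerIn S P) f' x)) =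
      autFun P ((γ : MulAut P) * (α : MulAut P) * (γ : MulAut P)⁻¹) x
    rw [h2, hgα _ hy, hf'γ _ (autFun_mem _ hy), autFun_mul _ _ hx, autFun_mul _ _ hy]
  obtain ⟨R₀, hR₀⟩ := hPfaE.2
  have hR₀H : (R₀ : Subgroup (E.autGroup P)) ≤ H := by
    intro α hα
    rw [hR₀, Subgroup.mem_subgroupOf] at hα
    obtain ⟨t, ht, Ht⟩ := (mem_autInducedBy_iff _ P _).1 hα
    have htN : t ∈ Subgroup.normalizer (P : Set Ω) := mem_normalizer_of_induces Ht
    refine ⟨fun x => t * x * t⁻¹, ⟨QAut.conj F hPS (hTS ht) htN, fun c hc => ?_⟩, fun x hx => ?_⟩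
    · apply hCPle
      have hc2 : t * c * t⁻¹ ∈ centralizerIn S P :=
        conj_mem_centralizerIn (hTS ht) (fun x hx => conj_inv_mem_of_mem_normalizer htN hx) c hc
      obtain ⟨hcS, hcC⟩ := hc
      refine ⟨?_, Subgroup.mul_mem _ (Subgroup.inv_mem _ hcC) hc2.2⟩
      have h1 : c⁻¹ * t * c⁻¹⁻¹ ∈ T := D.mapsT le_rfl (Mor.conj F hTS (S.inv_mem hcS)) t ht
      rw [inv_inv] at h1
      have h2 : c⁻¹ * (t * c * t⁻¹) = (c⁻¹ * t * c) * t⁻¹ := by group
      rw [h2]
      exact T.mul_mem h1 (T.inv_mem ht)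
    · rw [autFun_of_mem _ hx]
      exact (Ht ⟨x, hx⟩).symm
  have hpow : ∀ ν : E.autGroup P, ν ∈ Subgroup.normalizer ((R₀ : Subgroup (E.autGroup P)) : Set (E.autGroup P)) →
      ν ^ Nat.card (centralizerIn S P) ∈ H := by
    intro ν hν
    have he : Mor E P (autFun P (ν : MulAut P)) := (mem_autGroup_iff hPT _).1 ν.2
    have heP : ∀ x ∈ P, autFun P (ν : MulAut P) x ∈ P := fun x hx => autFun_mem _ hx
    have himg : imgS P (autFun P (ν : MulAut P)) = P := imgS_eq_of_maps he heP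
    obtain ⟨e', he', he'e⟩ := receptive_extend hPrecE he himg hNlt.le (fun t ht => by
      obtain ⟨htT, htN⟩ := ht
      refine ⟨htT, htN, ?_⟩
      obtain ⟨α, Hα⟩ := exists_conjAut htN
      have hαT : α ∈ autInducedBy T P := (mem_autInducedBy_iff T P α).2 ⟨t, htT, Hα⟩
      have hαE : α ∈ E.autGroup P := by
        rw [mem_autGroup_iff hPT]
        refine (Mor.conj E hPT htT).congr (fun x hx => ?_)
        rw [autFun_of_mem _ hx]
        exact (Hα ⟨x, hx⟩).symm
      have hαR : (⟨α, hαE⟩ : E.autGroup P) ∈ (R₀ : Subgroup (E.autGroup P)) := by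
        rw [hR₀, Subgroup.mem_subgroupOf]
        exact hαT
      have h1 : ν * ⟨α, hαE⟩ * ν⁻¹ ∈ (R₀ : Subgroup (E.autGroup P)) :=
        (Subgroup.mem_normalizer_iff.1 hν _).1 hαR
      rw [hR₀, Subgroup.mem_subgroupOf] at h1
      obtain ⟨h, hhT, Hh⟩ := (mem_autInducedBy_iff T P _).1 h1
      refine ⟨h, hhT, fun x hx => ?_⟩
      have h2 : ((((ν : MulAut P) * α * (ν : MulAut P)⁻¹) ((ν : MulAut P) ⟨x, hx⟩) : P) : Ω) =
          h * (((ν : MulAut P) ⟨x, hx⟩ : P) : Ω) * h⁻¹ := Hh ((ν : MulAut P) ⟨x, hx⟩)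
      have h3 : ((ν : MulAut P) * α * (ν : MulAut P)⁻¹) ((ν : MulAut P) ⟨x, hx⟩) =
          (ν : MulAut P) (α ⟨x, hx⟩) := by
        show (ν : MulAut P) (α ((ν : MulAut P)⁻¹ ((ν : MulAut P) ⟨x, hx⟩))) = _
        have h5 : (ν : MulAut P)⁻¹ ((ν : MulAut P) ⟨x, hx⟩) = ⟨x, hx⟩ := by
          show ((ν : MulAut P)⁻¹ * (ν : MulAut P)) ⟨x, hx⟩ = ⟨x, hx⟩
          rw [inv_mul_cancel]
          rfl
        rw [h5]
      rw [h3] at h2
      have h4 : t * x * t⁻¹ = ((α ⟨x, hx⟩ : P) : Ω) := (Hα ⟨x, hx⟩).symm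
      rw [h4, autFun_apply, autFun_of_mem _ hx]
      exact h2)
    have he'P : ∀ x ∈ P, e' x ∈ P := fun x hx => by rw [he'e x hx]; exact heP x hx
    have he'N : ∀ x ∈ normalizerIn T P, e' x ∈ normalizerIn T P := by
      intro x hx
      refine ⟨he'.mem hx, ?_⟩
      have h1 := he'.mem_normalizer_imgS hNlt.le inf_le_right hx
      have h2 : imgS P e' = P := imgS_eq_of_maps (he'.restrict hNlt.le) he'P
      rwa [h2] at h1
    obtain ⟨g, hg, hge⟩ := IH _ hNc hNcard e' he' he'N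
    obtain ⟨g', hg', hg'e⟩ := good_pow_of_good_normalizer hS D hPc hPn he' he'P hg hge
    refine ⟨g', hg', fun x hx => ?_⟩
    rw [hg'e x hx]
    show _ = autFun P ((ν : MulAut P) ^ Nat.card (centralizerIn S P)) x
    rw [autFun_pow _ _ hx]
    exact (iterate_congr_on he'e heP _ x hx).1
  have hHtop : H = ⊤ := by
    have hsup : Subgroup.normalizer ((R₀ : Subgroup (E.autGroup P)) : Set (E.autGroup P)) ⊔ H = ⊤ :=
      Sylow.normalizer_sup_eq_top' R₀ hR₀H
    haveI : Finite (centralizerIn S P) := finite_of_le (S := S) inf_le_left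
    have hCp : IsPGroup p (centralizerIn S P) := hS.to_le inf_le_left
    obtain ⟨b, hb⟩ := IsPGroup.iff_card.1 hCp
    refine eq_top_of_sylow_le_of_pow H R₀ hR₀H (fun α => ⟨b, ?_⟩)
    have hα : α ∈ Subgroup.normalizer ((R₀ : Subgroup (E.autGroup P)) : Set (E.autGroup P)) ⊔ H := by rw [hsup]; trivial
    obtain ⟨ν, hν, h, hh, rfl⟩ := Subgroup.mem_sup_of_normal_right.1 hα
    have h1 : ((ν * h : E.autGroup P) : E.autGroup P ⧸ H) = (ν : E.autGroup P ⧸ H) := by
      rw [QuotientGroup.mk_mul, (QuotientGroup.eq_one_iff h).2 hh, mul_one]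
    have h2 : (((ν * h) ^ p ^ b : E.autGroup P) : E.autGroup P ⧸ H) = 1 := by
      rw [QuotientGroup.mk_pow, h1, ← QuotientGroup.mk_pow, QuotientGroup.eq_one_iff, ← hb]
      exact hpow ν hν
    exact (QuotientGroup.eq_one_iff _).1 h2
  intro a ha haP
  have himg : imgS P a = P := imgS_eq_of_maps ha haP
  have hα : (⟨mkAut ha himg, mkAut_mem ha himg⟩ : E.autGroup P) ∈ H := by rw [hHtop]; trivial
  obtain ⟨g, hg, hgα⟩ := hα
  exact ⟨g, hg, fun x hx => by rw [hgα x hx]; exact autFun_mkAut ha himg hx⟩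

/-- **Good extensions exist**: every automorphism in `E` of an `E`-centric subgroup `R` extends to an
automorphism in `F` of `R C_S(R)` acting trivially on `C_S(R)` modulo `R`. -/
theorem exists_good_aux [Finite S] {p : ℕ} [Fact p.Prime] (hS : IsPGroup p S)
    {F : FusionSystem S} {E : FusionSystem T} (D : NormalData p F E) :
    ∀ (n : ℕ) (R : Subgroup Ω), E.IsCentric R → Nat.card T - Nat.card R = n → ∀ a : Ω → Ω, Mor E R a →
      (∀ x ∈ R, a x ∈ R) → ∃ g, Good F R g ∧ ∀ x ∈ R, g x = a x := by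
  intro n
  induction n using Nat.strong_induction_on with
  | _ n ih =>
    intro R hRc hn a ha haR
    have hTS := D.le
    have hRT : R ≤ T := hRc.1
    have hRS := hRT.trans hTS
    haveI : Finite T := finite_of_le hTS
    obtain ⟨R₁, hconj, hR₁n⟩ := exists_fullyNormalized_conj F hRS
    obtain ⟨θ, hθ, hθimg⟩ := isConj_iff.1 hconj
    have hR₁c : E.IsCentric R₁ := D.isCentric_of_F_conj hRc hconj
    have hcard : Nat.card R₁ = Nat.card R := isConj_card hconj
    obtain ⟨χ, hχ, hχeq⟩ := D.si R R a θ le_rfl hRT ha haR hθ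
    rw [hθimg] at hχ
    have hχR₁ : ∀ y ∈ R₁, χ y ∈ R₁ := by
      intro y hy
      rw [← hθimg] at hy
      obtain ⟨x, hx, rfl⟩ := hθ.mem_imgS.1 hy
      rw [hχeq x hx, ← hθimg]
      exact hθ.mem_imgS_of_mem (haR x hx)
    have IH : ∀ R' : Subgroup Ω, E.IsCentric R' → Nat.card R₁ < Nat.card R' → ∀ a : Ω → Ω, Mor E R' a →
        (∀ x ∈ R', a x ∈ R') → ∃ g, Good F R' g ∧ ∀ x ∈ R', g x = a x := by
      intro R' hR'c hlt a' ha' ha'R
      have hR'card : Nat.card R' ≤ Nat.card T := Subgroup.card_le_of_le hR'c.1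
      exact ih (Nat.card T - Nat.card R') (by omega) R' hR'c rfl a' ha' ha'R
    obtain ⟨g₁, hg₁, hg₁χ⟩ := good_of_fullyNormalized hS D hR₁c hR₁n IH χ hχ hχR₁
    obtain ⟨θ', hθ', hθ'θ, hθ'C⟩ := exists_transport hS D.satF hR₁n hθ hθimg
    have hθ'R : imgS R θ' = R₁ := by
      rw [← hθimg]
      exact (hθ'.restrict le_sup_left).imgS_congr hθ'θ
    obtain ⟨g, hg, hga, -⟩ := Good.transport hθ' hθ'R hθ'C haR hg₁ (fun x hx => by
      rw [hθ'θ x hx, hg₁χ _ (by rw [← hθimg]; exact hθ.mem_imgS_of_mem hx), hχeq x hx,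
        hθ'θ _ (haR x hx)])
    exact ⟨g, hg, hga⟩

theorem exists_good [Finite S] {p : ℕ} [Fact p.Prime] (hS : IsPGroup p S)
    {F : FusionSystem S} {E : FusionSystem T} (D : NormalData p F E) {R : Subgroup Ω}
    (hRc : E.IsCentric R) {a : Ω → Ω} (ha : Mor E R a) (haR : ∀ x ∈ R, a x ∈ R) :
    ∃ g, Good F R g ∧ ∀ x ∈ R, g x = a x :=
  exists_good_aux hS D _ R hRc rfl a ha haR

end Cfsg.Agent.H86
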