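import Mathlib
import Cfsg.Prelude.Def_FusionSystem
import Cfsg.Agent.H86.NCB2
import Cfsg.Agent.H88.Puig

set_option autoImplicit false
set_option maxHeartbeats 800000

/-!
Good extensions of order prime to `p` act trivially on the focal subgroup of the centralizer system.
-/

namespace Cfsg.Agent.H86

open Cfsg Cfsg.FusionSystem Cfsg.Agent.H87

variable {Ω : Type*} [Group Ω] {S T : Subgroup Ω}

/-- `g` fixes every focal element of `C_F(R)`. -/
def FocFix (F : FusionSystem S) (R : Subgroup Ω) (g : Ω → Ω) : Prop :=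
  ∀ (Y : Subgroup Ω) (κ : Ω → Ω), Y ≤ centralizerIn S R → Mor F (Y ⊔ R) κ → (∀ x ∈ R, κ x = x) →
    ∀ y ∈ Y, g (y⁻¹ * κ y) = y⁻¹ * κ y

/-- The displacement `c⁻¹ β(c)`. -/
def dispFn (β : Ω → Ω) (c : Ω) : Ω := c⁻¹ * β c

/-- The partial norms of the action of `β`. -/
def nmIter (β : Ω → Ω) : ℕ → Ω → Ω
  | 0, _ => 1
  | (j + 1), v => v * β (nmIter β j v)

lemma nmIter_mem {Z : Subgroup Ω} {β : Ω → Ω} (hβZ : ∀ v ∈ Z, β v ∈ Z) :
    ∀ (j : ℕ) (v : Ω), v ∈ Z → nmIter β j v ∈ Z := by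
  intro j
  induction j with
  | zero => intro v _; exact Z.one_mem
  | succ j ih => intro v hv; exact Z.mul_mem hv (hβZ _ (ih v hv))

lemma nmIter_mul {Z : Subgroup Ω} {β : Ω → Ω} (hβZ : ∀ v ∈ Z, β v ∈ Z)
    (hmul : ∀ u ∈ Z, ∀ v ∈ Z, β (u * v) = β u * β v) (hcomm : ∀ u ∈ Z, ∀ v ∈ Z, u * v = v * u) :
    ∀ (j : ℕ) (u v : Ω), u ∈ Z → v ∈ Z → nmIter β j (u * v) = nmIter β j u * nmIter β j v := by
  intro j
  induction j with
  | zero => intro u v _ _; show (1 : Ω) = 1 * 1; rw [one_mul]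
  | succ j ih =>
    intro u v hu hv
    have hA : β (nmIter β j u) ∈ Z := hβZ _ (nmIter_mem hβZ j u hu)
    show u * v * β (nmIter β j (u * v)) = u * β (nmIter β j u) * (v * β (nmIter β j v))
    rw [ih u v hu hv, hmul _ (nmIter_mem hβZ j u hu) _ (nmIter_mem hβZ j v hv)]
    calc u * v * (β (nmIter β j u) * β (nmIter β j v))
        = u * (v * β (nmIter β j u)) * β (nmIter β j v) := by group
      _ = u * (β (nmIter β j u) * v) * β (nmIter β j v) := by rw [hcomm v hv _ hA]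
      _ = u * β (nmIter β j u) * (v * β (nmIter β j v)) := by group

lemma nmIter_fix {Z : Subgroup Ω} {β : Ω → Ω} (hone : β 1 = 1)
    (hmul : ∀ u ∈ Z, ∀ v ∈ Z, β (u * v) = β u * β v) {u : Ω} (hu : u ∈ Z) (hfix : β u = u) :
    ∀ j : ℕ, nmIter β j u = u ^ j := by
  have hpow : ∀ j : ℕ, β (u ^ j) = u ^ j := by
    intro j
    induction j with
    | zero => rw [pow_zero, hone]
    | succ j ih => rw [pow_succ, hmul _ (Z.pow_mem hu j) _ hu, ih, hfix]
  intro j
  induction j with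
  | zero => rw [pow_zero]; rfl
  | succ j ih =>
    show u * β (nmIter β j u) = u ^ (j + 1)
    rw [ih, hpow j, pow_succ']

lemma eq_one_of_pow_coprime {p : ℕ} [Fact p.Prime] (hS : IsPGroup p S) {w : Ω} (hw : w ∈ S) {n : ℕ}
    (hn : ¬ p ∣ n) (hwn : w ^ n = 1) : w = 1 := by
  obtain ⟨j, hj⟩ := hS ⟨w, hw⟩
  have h1 : w ^ (p ^ j) = 1 := by
    have := congrArg Subtype.val hj
    simpa using this
  have hp : p.Prime := Fact.out
  have hcop : Nat.Coprime (p ^ j) n := Nat.Coprime.pow_left j ((Nat.Prime.coprime_iff_not_dvd hp).2 hn)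
  have h2 := pow_gcd_eq_one.2 ⟨h1, hwn⟩
  rwa [hcop.gcd_eq_one, pow_one] at h2

lemma mem_centralizerIn_of_fix {F : FusionSystem S} {W P : Subgroup Ω} {κ : Ω → Ω} (hκ : Mor F W κ)
    (hPW : P ≤ W) (hfix : ∀ u ∈ P, κ u = u) {x : Ω} (hxW : x ∈ W) (hx : x ∈ centralizerIn S P) :
    κ x ∈ centralizerIn S P := by
  rw [mem_centralizerIn_iff]
  refine ⟨hκ.mem hxW, fun u hu => ?_⟩
  have h := (mem_centralizerIn_iff.1 hx).2 u hu
  calc u * κ x = κ u * κ x := by rw [hfix u hu]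
    _ = κ (u * x) := (hκ.map_mul (hPW hu) hxW).symm
    _ = κ (x * u) := by rw [h]
    _ = κ x * κ u := hκ.map_mul hxW (hPW hu)
    _ = κ x * u := by rw [hfix u hu]

/-- A good extension of order prime to `p` at a fully centralized subgroup fixes the focal elements
of the centralizer system. -/
theorem focFix_of_coprime [Finite S] {p : ℕ} [Fact p.Prime] (hS : IsPGroup p S)
    {F : FusionSystem S} (hF : F.IsSaturated p) {P : Subgroup Ω} (hPfc : F.IsFullyCentralized P)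
    {β : Ω → Ω} (hβ : Good F P β) {n : ℕ} (hn : ¬ p ∣ n)
    (hβn : ∀ x ∈ P ⊔ centralizerIn S P, β^[n] x = x) : FocFix F P β := by
  have hPS : P ≤ S := hPfc.1
  have hQS : P ⊔ centralizerIn S P ≤ S := hβ.1.supLe
  have hCQ : centralizerIn S P ≤ P ⊔ centralizerIn S P := le_sup_right
  have hPQ : P ≤ P ⊔ centralizerIn S P := le_sup_left
  have hβM : Mor F (P ⊔ centralizerIn S P) β := hβ.1.1
  have hZC : P ⊓ Subgroup.centralizer (P : Set Ω) ≤ centralizerIn S P := inf_le_inf_right _ hPS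
  have hZcomm : ∀ u ∈ P ⊓ Subgroup.centralizer (P : Set Ω), ∀ c ∈ centralizerIn S P, u * c = c * u :=
    fun u hu c hc => (mem_centralizerIn_iff.1 hc).2 u hu.1
  have hzZ : ∀ c ∈ centralizerIn S P, dispFn β c ∈ P ⊓ Subgroup.centralizer (P : Set Ω) :=
    fun c hc => ⟨hβ.2 c hc, hβ.cent hc⟩
  have hβc : ∀ c, β c = c * dispFn β c := fun c => by unfold dispFn; group
  have hβZ : ∀ u ∈ P ⊓ Subgroup.centralizer (P : Set Ω), β u ∈ P ⊓ Subgroup.centralizer (P : Set Ω) :=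
    fun u hu => ⟨hβ.1.2 u hu.1, (hβ.1.mapsC u (hZC hu)).2⟩
  have hmulZ : ∀ u ∈ P ⊓ Subgroup.centralizer (P : Set Ω), ∀ v ∈ P ⊓ Subgroup.centralizer (P : Set Ω),
      β (u * v) = β u * β v := fun u hu v hv => hβM.map_mul (hPQ hu.1) (hPQ hv.1)
  have hcommZ : ∀ u ∈ P ⊓ Subgroup.centralizer (P : Set Ω), ∀ v ∈ P ⊓ Subgroup.centralizer (P : Set Ω),
      u * v = v * u := fun u hu v hv => hZcomm u hu v (hZC hv)
  have hzmul : ∀ c ∈ centralizerIn S P, ∀ d ∈ centralizerIn S P,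
      dispFn β (c * d) = dispFn β c * dispFn β d := by
    intro c hc d hd
    have h1 := hZcomm _ (hzZ c hc) d⁻¹ (Subgroup.inv_mem _ hd)
    show (c * d)⁻¹ * β (c * d) = _
    rw [hβM.map_mul (hCQ hc) (hCQ hd)]
    calc (c * d)⁻¹ * (β c * β d) = d⁻¹ * (c⁻¹ * β c) * β d := by group
      _ = (d⁻¹ * dispFn β c) * β d := rfl
      _ = (dispFn β c * d⁻¹) * β d := by rw [h1]
      _ = dispFn β c * dispFn β d := by unfold dispFn; group
  have hz1 : dispFn β 1 = 1 := by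
    unfold dispFn
    rw [hβM.map_one, inv_one, one_mul]
  have hzinv : ∀ c ∈ centralizerIn S P, dispFn β c⁻¹ = (dispFn β c)⁻¹ := by
    intro c hc
    have h := hzmul c hc c⁻¹ (Subgroup.inv_mem _ hc)
    rw [mul_inv_cancel, hz1] at h
    exact eq_inv_of_mul_eq_one_right h.symm
  have hz : ∀ g ∈ centralizerIn S P, ∀ x ∈ centralizerIn S P, dispFn β (g * x * g⁻¹) = dispFn β x := by
    intro g hg x hx
    rw [hzmul _ (Subgroup.mul_mem _ hg hx) _ (Subgroup.inv_mem _ hg), hzmul g hg x hx, hzinv g hg,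
      hZcomm _ (hzZ g hg) _ (hZC (hzZ x hx)), mul_inv_cancel_right]
  haveI : Finite (centralizerIn S P) := finite_of_le (S := S) inf_le_left
  have hCp : IsPGroup p (centralizerIn S P) := hS.to_le inf_le_left
  have hsat : (centralizerSystem F P hPS).IsSaturated p :=
    centralizerSystem_saturated' hS hF hPfc _ (centralizerSystem_isCentralizerSystem F P hPS)
  have hiter : ∀ (j : ℕ), ∀ c ∈ centralizerIn S P, β^[j] c = c * nmIter β j (dispFn β c) := by
    intro j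
    induction j with
    | zero => intro c _; show c = c * 1; rw [mul_one]
    | succ j ih =>
      intro c hc
      rw [Function.iterate_succ_apply', ih c hc,
        hβM.map_mul (hCQ hc) (hPQ (nmIter_mem hβZ j _ (hzZ c hc)).1), hβc c, mul_assoc]
      rfl
  have hnm1 : ∀ c ∈ centralizerIn S P, nmIter β n (dispFn β c) = 1 := by
    intro c hc
    have h1 := hiter n c hc
    rw [hβn c (hCQ hc)] at h1
    exact mul_eq_left.1 h1.symm
  have main := Cfsg.Agent.H88.alperin_induction hCp hsat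
    (invSys (centralizerSystem F P hPS) (dispFn β) hz) (by
    intro R hRa hRr IH α hα
    have hRC : R ≤ centralizerIn S P := hRa.1
    have hRS : R ≤ S := hRC.trans inf_le_left
    haveI : Finite R := finite_of_le hRS
    have hk : Mor (centralizerSystem F P hPS) R (autFun R α) := (mem_autGroup_iff hRC α).1 hα
    rw [mem_autGroup_iff hRC, mor_invSys_iff]
    refine ⟨hk, ?_⟩
    obtain ⟨-, hkC, k', hk', hk'k, hk'P⟩ := (mor_centralizerSystem_iff hPS).1 hk
    have hkR : ∀ y ∈ R, autFun R α y ∈ R := fun y hy => autFun_mem α hy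
    by_cases hZR : P ⊓ Subgroup.centralizer (P : Set Ω) ≤ R
    swap
    · have hR'C : R ⊔ (P ⊓ Subgroup.centralizer (P : Set Ω)) ≤ centralizerIn S P := sup_le hRC hZC
      have hR'le : R ⊔ (P ⊓ Subgroup.centralizer (P : Set Ω)) ≤ R ⊔ P := sup_le_sup le_rfl inf_le_left
      haveI : Finite (R ⊔ (P ⊓ Subgroup.centralizer (P : Set Ω)) : Subgroup Ω) :=
        finite_of_le (hR'C.trans inf_le_left)
      have hlt : R < R ⊔ (P ⊓ Subgroup.centralizer (P : Set Ω)) :=
        lt_of_le_of_ne le_sup_left (fun h => hZR (le_sup_right.trans h.ge))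
      have hk'R' : Mor (centralizerSystem F P hPS) (R ⊔ (P ⊓ Subgroup.centralizer (P : Set Ω))) k' := by
        rw [mor_centralizerSystem_iff hPS]
        refine ⟨hR'C, fun x hx => ?_, k', hk'.restrict (sup_le hR'le le_sup_right), fun _ _ => rfl, hk'P⟩
        exact mem_centralizerIn_of_fix hk' le_sup_right hk'P (hR'le hx) (hR'C hx)
      have h1 := (mor_invSys_iff.1 (IH _ _ hk'R' (card_lt_card_of_lt hlt))).2
      intro y hy
      rw [← hk'k y hy]
      exact h1 y (Subgroup.mem_sup_left hy)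
    · have hWQ : R ⊔ P ≤ P ⊔ centralizerIn S P := sup_le (hRC.trans le_sup_right) le_sup_left
      haveI : Finite P := finite_of_le hPS
      haveI : Finite (R ⊔ P : Subgroup Ω) := finite_of_le (hWQ.trans hQS)
      have hk'R : ∀ y ∈ R, k' y ∈ R := fun y hy => by rw [hk'k y hy]; exact hkR y hy
      have hk'W : imgS (R ⊔ P) k' = R ⊔ P := by
        rw [hk'.imgS_sup, imgS_eq_of_maps (hk'.restrict le_sup_left) hk'R,
          imgS_eq_of_maps (hk'.restrict le_sup_right) (fun x hx => by rw [hk'P x hx]; exact hx)]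
      have hk'Wm : ∀ x ∈ R ⊔ P, k' x ∈ R ⊔ P := fun x hx => by
        have := hk'.mem_imgS_of_mem hx
        rwa [hk'W] at this
      have hβW : Mor F (R ⊔ P) β := hβM.restrict hWQ
      have hβR : ∀ y ∈ R, β y ∈ R := fun y hy => by
        rw [hβc y]
        exact R.mul_mem hy (hZR (hzZ y (hRC hy)))
      have hβimgW : imgS (R ⊔ P) β = R ⊔ P := by
        rw [hβW.imgS_sup, imgS_eq_of_maps (hβW.restrict le_sup_left) hβR,
          imgS_eq_of_maps (hβW.restrict le_sup_right) hβ.1.2]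
      have hβWm : ∀ x ∈ R ⊔ P, β x ∈ R ⊔ P := fun x hx => by
        have := hβW.mem_imgS_of_mem hx
        rwa [hβimgW] at this
      have hf₁ : Mor F (R ⊔ P) (β ∘ k') := hk'.comp hβW hk'Wm
      have hf₂ : Mor F (R ⊔ P) (k' ∘ β) := hβW.comp hk' hβWm
      have hf₁img : imgS (R ⊔ P) (β ∘ k') = R ⊔ P :=
        imgS_eq_of_maps hf₁ (fun x hx => hβWm _ (hk'Wm x hx))
      obtain ⟨τ, hτ, hτuniq⟩ : ∃ τ : Ω → Ω, Mor F (R ⊔ P) τ ∧
          ∀ x ∈ R ⊔ P, ∀ v ∈ R ⊔ P, β (k' v) = k' (β x) → τ x = v := by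
        refine ⟨invOn (R ⊔ P) (β ∘ k') ∘ (k' ∘ β), ?_, fun x hx v hv hvx => ?_⟩
        · refine hf₂.comp ?_ (fun x hx => hk'Wm _ (hβWm x hx))
          have := hf₁.inv
          rwa [hf₁img] at this
        · show invOn (R ⊔ P) (β ∘ k') (k' (β x)) = v
          rw [← hvx]
          exact invOn_apply hf₁.injOn hv
      have hτP : ∀ x ∈ P, τ x = x := by
        intro x hx
        refine hτuniq x (Subgroup.mem_sup_right hx) x (Subgroup.mem_sup_right hx) ?_
        rw [hk'P x hx, hk'P _ (hβ.1.2 x hx)]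
      have hβZimg : imgS (P ⊓ Subgroup.centralizer (P : Set Ω)) β =
          P ⊓ Subgroup.centralizer (P : Set Ω) := by
        haveI : Finite (P ⊓ Subgroup.centralizer (P : Set Ω) : Subgroup Ω) :=
          finite_of_le (hZC.trans inf_le_left)
        exact imgS_eq_of_maps (hβM.restrict (hZC.trans hCQ)) hβZ
      have hτR : ∀ y ∈ R, ∃ w ∈ P ⊓ Subgroup.centralizer (P : Set Ω), τ y = y * w ∧
          β w = (dispFn β (autFun R α y))⁻¹ * dispFn β y := by
        intro y hy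
        have hu : (dispFn β (autFun R α y))⁻¹ * dispFn β y ∈ P ⊓ Subgroup.centralizer (P : Set Ω) :=
          Subgroup.mul_mem _ (Subgroup.inv_mem _ (hzZ _ (hkC y hy))) (hzZ y (hRC hy))
        rw [← hβZimg] at hu
        obtain ⟨w, hw, hβw⟩ := (hβM.restrict (hZC.trans hCQ)).mem_imgS.1 hu
        refine ⟨w, hw, ?_, hβw⟩
        have hywW : y * w ∈ R ⊔ P :=
          Subgroup.mul_mem _ (Subgroup.mem_sup_left hy) (Subgroup.mem_sup_right hw.1)
        refine hτuniq y (Subgroup.mem_sup_left hy) _ hywW ?_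
        rw [hβc y, hk'.map_mul (Subgroup.mem_sup_left hy) (Subgroup.mem_sup_right (hzZ y (hRC hy)).1),
          hk'P _ (hzZ y (hRC hy)).1, hk'.map_mul (Subgroup.mem_sup_left hy) (Subgroup.mem_sup_right hw.1),
          hk'P w hw.1, hk'k y hy,
          hβM.map_mul (hCQ (hkC y hy)) (hPQ hw.1), hβw, hβc (autFun R α y)]
        group
      have hτRm : ∀ y ∈ R, τ y ∈ R := by
        intro y hy
        obtain ⟨w, hw, hτy, -⟩ := hτR y hy
        rw [hτy]
        exact R.mul_mem hy (hZR hw)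
      have hτC : Mor (centralizerSystem F P hPS) R τ := by
        rw [mor_centralizerSystem_iff hPS]
        exact ⟨hRC, fun y hy => hRC (hτRm y hy), τ, hτ, fun _ _ => rfl, hτP⟩
      obtain ⟨s, hs, Hs⟩ := inner_of_centralizer_aut hS hPS hRa hτC hτRm (fun y hy => by
        obtain ⟨w, hw, hτy, -⟩ := hτR y hy
        rw [hτy, inv_mul_cancel_left]
        exact hw.1)
      intro y hy
      obtain ⟨w, hw, hτy, hβw⟩ := hτR y hy
      have hβyR : β y ∈ R := hβR y hy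
      have hzyZ := hzZ y (hRC hy)
      have h1 : β (s * y * s⁻¹) = s * β y * s⁻¹ := by
        have hsQ := hCQ hs
        have hyQ := hCQ (hRC hy)
        rw [hβM.map_mul (Subgroup.mul_mem _ hsQ hyQ) (Subgroup.inv_mem _ hsQ), hβM.map_mul hsQ hyQ,
          hβM.map_inv hsQ, hβc s]
        have hc := hZcomm _ (hzZ s hs) _ (hβ.1.mapsC y (hRC hy))
        calc s * dispFn β s * β y * (s * dispFn β s)⁻¹
            = s * (dispFn β s * β y) * (dispFn β s)⁻¹ * s⁻¹ := by group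
          _ = s * (β y * dispFn β s) * (dispFn β s)⁻¹ * s⁻¹ := by rw [hc]
          _ = s * β y * s⁻¹ := by group
      have h2 : β y * β w = y * w * dispFn β y := by
        calc β y * β w = β (y * w) := (hβM.map_mul (hCQ (hRC hy)) (hPQ hw.1)).symm
          _ = β (τ y) := by rw [hτy]
          _ = β (s * y * s⁻¹) := by rw [Hs y hy]
          _ = s * β y * s⁻¹ := h1
          _ = τ (β y) := (Hs _ hβyR).symm
          _ = τ (y * dispFn β y) := by rw [← hβc y]
          _ = τ y * τ (dispFn β y) :=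
            hτ.map_mul (Subgroup.mem_sup_left hy) (Subgroup.mem_sup_right hzyZ.1)
          _ = y * w * dispFn β y := by rw [hτP _ hzyZ.1, hτy]
      have h3 : β w = w := by
        have hc := hZcomm _ hzyZ _ (hZC (hβZ w hw))
        have h4 : y * (β w * dispFn β y) = y * (w * dispFn β y) := by
          rw [← hc, ← mul_assoc, ← mul_assoc, ← hβc y]
          exact h2
        exact mul_right_cancel (mul_left_cancel h4)
      have hu₀w : (dispFn β (autFun R α y))⁻¹ * dispFn β y = w := hβw.symm.trans h3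
      have hsplit : dispFn β y = dispFn β (autFun R α y) * w := by
        rw [← hu₀w]
        group
      have h5 := nmIter_mul hβZ hmulZ hcommZ n _ _ (hzZ _ (hkC y hy)) hw
      rw [← hsplit, hnm1 y (hRC hy), hnm1 _ (hkC y hy), one_mul,
        nmIter_fix hβM.map_one hmulZ hw h3] at h5
      have hw1 : w = 1 := eq_one_of_pow_coprime hS (hPS hw.1) hn h5.symm
      rw [hsplit, hw1, mul_one])
  intro Y κ hY hκ hκR y hy
  have hκC : ∀ x ∈ Y, κ x ∈ centralizerIn S P := fun x hx =>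
    mem_centralizerIn_of_fix hκ le_sup_right hκR (Subgroup.mem_sup_left hx) (hY hx)
  have hκM : Mor (centralizerSystem F P hPS) Y κ := by
    rw [mor_centralizerSystem_iff hPS]
    exact ⟨hY, hκC, κ, hκ, fun _ _ => rfl, hκR⟩
  have hzκ := (mor_invSys_iff.1 (main Y κ hκM)).2 y hy
  have hyC := hY hy
  have hκyC := hκC y hy
  rw [hβM.map_mul (hCQ (Subgroup.inv_mem _ hyC)) (hCQ hκyC), hβM.map_inv (hCQ hyC), hβc y, hβc (κ y),
    hzκ]
  have hc := hZcomm _ (hzZ y hyC) _ (Subgroup.mul_mem _ (Subgroup.inv_mem _ hyC) hκyC)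
  calc (y * dispFn β y)⁻¹ * (κ y * dispFn β y) = (dispFn β y)⁻¹ * (y⁻¹ * κ y * dispFn β y) := by group
    _ = (dispFn β y)⁻¹ * (dispFn β y * (y⁻¹ * κ y)) := by rw [hc]
    _ = y⁻¹ * κ y := by group

/-- Every automorphism in `E` of an `E`-centric subgroup `R` has a `p`-power power which extends to
`R C_S(R)` fixing the focal elements of `C_F(R)`. -/
theorem exists_pow_focFix [Finite S] {p : ℕ} [Fact p.Prime] (hS : IsPGroup p S)
    {F : FusionSystem S} {E : FusionSystem T} (D : NormalData p F E) {R : Subgroup Ω}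
    (hRc : E.IsCentric R) {a : Ω → Ω} (ha : Mor E R a) (haR : ∀ x ∈ R, a x ∈ R) :
    ∃ (b : ℕ) (g : Ω → Ω), QAut F R g ∧ (∀ x ∈ R, g x = a^[p ^ b] x) ∧ FocFix F R g := by
  have hTS := D.le
  have hRT : R ≤ T := hRc.1
  have hRS := hRT.trans hTS
  obtain ⟨R₁, hconj, hR₁n⟩ := exists_fullyNormalized_conj F hRS
  obtain ⟨θ, hθ, hθimg⟩ := isConj_iff.1 hconj
  have hR₁c : E.IsCentric R₁ := D.isCentric_of_F_conj hRc hconj
  obtain ⟨χ, hχ, hχeq⟩ := D.si R R a θ le_rfl hRT ha haR hθ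
  rw [hθimg] at hχ
  have hχR₁ : ∀ y ∈ R₁, χ y ∈ R₁ := by
    intro y hy
    rw [← hθimg] at hy
    obtain ⟨x, hx, rfl⟩ := hθ.mem_imgS.1 hy
    rw [hχeq x hx, ← hθimg]
    exact hθ.mem_imgS_of_mem (haR x hx)
  obtain ⟨g₁, hg₁, hg₁χ⟩ := exists_good hS D hR₁c hχ hχR₁
  have hQ₁S : R₁ ⊔ centralizerIn S R₁ ≤ S := hg₁.1.supLe
  haveI : Finite (R₁ ⊔ centralizerIn S R₁ : Subgroup Ω) := finite_of_le hQ₁S
  obtain ⟨M, hM0, hM⟩ : ∃ M : ℕ, M ≠ 0 ∧ ∀ x ∈ R₁ ⊔ centralizerIn S R₁, g₁^[M] x = x := by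
    refine ⟨orderOf (mkAut hg₁.1.1 hg₁.1.imgQ), (orderOf_pos _).ne', fun x hx => ?_⟩
    have h1 := autFun_pow (mkAut hg₁.1.1 hg₁.1.imgQ) (orderOf (mkAut hg₁.1.1 hg₁.1.imgQ)) hx
    rw [pow_orderOf_eq_one, autFun_one hx] at h1
    exact ((iterate_congr_on (fun y hy => autFun_mkAut hg₁.1.1 hg₁.1.imgQ hy) hg₁.1.mapsQ _ x
      hx).1.symm).trans h1.symm
  have hp : p.Prime := Fact.out
  obtain ⟨b, n', hn', hMeq⟩ := Nat.exists_eq_pow_mul_and_not_dvd hM0 p hp.ne_one
  have hβ : Good F R₁ (g₁^[p ^ b]) := hg₁.iterate _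
  have hβn : ∀ x ∈ R₁ ⊔ centralizerIn S R₁, (g₁^[p ^ b])^[n'] x = x := by
    intro x hx
    rw [← Function.iterate_mul, ← hMeq]
    exact hM x hx
  have hfoc₁ : FocFix F R₁ (g₁^[p ^ b]) :=
    focFix_of_coprime hS D.satF (saturated_fullyNormalized hS D.satF hR₁n).1 hβ hn' hβn
  obtain ⟨θ', hθ', hθ'θ, hθ'C⟩ := exists_transport hS D.satF hR₁n hθ hθimg
  have hθ'R : imgS R θ' = R₁ := by
    rw [← hθimg]
    exact (hθ'.restrict le_sup_left).imgS_congr hθ'θ
  obtain ⟨g, hg, hga, hgθ⟩ := Good.transport hθ' hθ'R hθ'C haR hg₁ (fun x hx => by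
    rw [hθ'θ x hx, hg₁χ _ (by rw [← hθimg]; exact hθ.mem_imgS_of_mem hx), hχeq x hx,
      hθ'θ _ (haR x hx)])
  have hiter : ∀ (j : ℕ), ∀ x ∈ R ⊔ centralizerIn S R, θ' (g^[j] x) = g₁^[j] (θ' x) := by
    intro j
    induction j with
    | zero => intro x _; rfl
    | succ j ih =>
      intro x hx
      rw [Function.iterate_succ_apply', Function.iterate_succ_apply',
        hgθ _ ((hg.1.iterate j).mapsQ x hx), ih x hx]
  refine ⟨b, g^[p ^ b], hg.1.iterate _, fun x hx => (iterate_congr_on hga haR _ x hx).1, ?_⟩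
  intro Y κ hY hκ hκR y hy
  have hκC : ∀ x ∈ Y, κ x ∈ centralizerIn S R := fun x hx =>
    mem_centralizerIn_of_fix hκ le_sup_right hκR (Subgroup.mem_sup_left hx) (hY hx)
  have hyC : y ∈ centralizerIn S R := hY hy
  have hκyC : κ y ∈ centralizerIn S R := hκC y hy
  have hvC : y⁻¹ * κ y ∈ centralizerIn S R := Subgroup.mul_mem _ (Subgroup.inv_mem _ hyC) hκyC
  have hvQ : y⁻¹ * κ y ∈ R ⊔ centralizerIn S R := Subgroup.mem_sup_right hvC
  apply hθ'.injOn ((hg.1.iterate _).mapsQ _ hvQ) hvQ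
  rw [hiter _ _ hvQ]
  have hYR : Y ⊔ R ≤ R ⊔ centralizerIn S R := sup_le (hY.trans le_sup_right) le_sup_left
  have hθ'YR : Mor F (Y ⊔ R) θ' := hθ'.restrict hYR
  have himgYR : imgS (Y ⊔ R) θ' = imgS Y θ' ⊔ R₁ := by rw [hθ'YR.imgS_sup, hθ'R]
  have hκmaps : ∀ x ∈ Y ⊔ R, κ x ∈ R ⊔ centralizerIn S R := by
    intro x hx
    have h1 := hκ.mem_imgS_of_mem hx
    rw [hκ.imgS_sup] at h1
    have h2 : imgS Y κ ⊔ imgS R κ ≤ R ⊔ centralizerIn S R := by
      refine sup_le ?_ ?_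
      · intro z hz
        obtain ⟨x', hx', rfl⟩ := (hκ.restrict le_sup_left).mem_imgS.1 hz
        exact Subgroup.mem_sup_right (hκC x' hx')
      · intro z hz
        obtain ⟨x', hx', rfl⟩ := (hκ.restrict le_sup_right).mem_imgS.1 hz
        rw [hκR x' hx']
        exact Subgroup.mem_sup_left hx'
    exact h2 h1
  have hκ₁ : Mor F (imgS Y θ' ⊔ R₁) (θ' ∘ (κ ∘ invOn (Y ⊔ R) θ')) := by
    rw [← himgYR]
    exact (hθ'YR.inv.comp hκ (fun x hx => hθ'YR.invOn_mem hx)).comp hθ'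
      (fun x hx => hκmaps _ (hθ'YR.invOn_mem hx))
  have hY₁ : imgS Y θ' ≤ centralizerIn S R₁ := by
    intro z hz
    obtain ⟨x', hx', rfl⟩ := (hθ'.restrict (hY.trans le_sup_right)).mem_imgS.1 hz
    exact hθ'C x' (hY hx')
  have hκ₁R : ∀ x ∈ R₁, (θ' ∘ (κ ∘ invOn (Y ⊔ R) θ')) x = x := by
    intro x hx
    rw [← hθ'R] at hx
    obtain ⟨x', hx', rfl⟩ := (hθ'.restrict le_sup_left).mem_imgS.1 hx
    show θ' (κ (invOn (Y ⊔ R) θ' (θ' x'))) = θ' x'
    rw [invOn_apply hθ'YR.injOn (Subgroup.mem_sup_right hx'), hκR x' hx']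
  have h1 := hfoc₁ (imgS Y θ') _ hY₁ hκ₁ hκ₁R (θ' y)
    ((hθ'.restrict (hY.trans le_sup_right)).mem_imgS_of_mem hy)
  have h2 : (θ' ∘ (κ ∘ invOn (Y ⊔ R) θ')) (θ' y) = θ' (κ y) := by
    show θ' (κ (invOn (Y ⊔ R) θ' (θ' y))) = θ' (κ y)
    rw [invOn_apply hθ'YR.injOn (Subgroup.mem_sup_left hy)]
  rw [h2] at h1
  have h3 : θ' (y⁻¹ * κ y) = (θ' y)⁻¹ * θ' (κ y) := by
    rw [hθ'.map_mul (Subgroup.mem_sup_right (Subgroup.inv_mem _ hyC)) (Subgroup.mem_sup_right hκyC),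
      hθ'.map_inv (Subgroup.mem_sup_right hyC)]
  rw [h3]
  exact h1

end Cfsg.Agent.H86
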