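import Mathlib
import Cfsg.Prelude.Def_FusionSystem
import Cfsg.Agent.H86.NCFoc

set_option autoImplicit false
set_option maxHeartbeats 800000

/-!
The focal subgroup of `C_F(T)` centralizes a normal subsystem `E` over `T`.
-/

namespace Cfsg.Agent.H86

open Cfsg Cfsg.FusionSystem Cfsg.Agent.H87

variable {Ω : Type*} [Group Ω] {S T : Subgroup Ω}

/-- For `E` normal in `F` over `T`, the focal subgroup `X₀` of `C_F(T)` lies in `C_S(T)` and `E` is
contained in `C_F(X₀)`. -/
theorem focal_le_centralizer [Finite S] {p : ℕ} [Fact p.Prime] (hS : IsPGroup p S)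
    {F : FusionSystem S} {E : FusionSystem T} (D : NormalData p F E)
    (C₀ : FusionSystem (centralizerIn S T)) (hC₀ : F.IsCentralizerSystem T C₀) :
    C₀.focalSubgroup ≤ centralizerIn S T ∧
      ∀ P : Subgroup Ω, E.Hom P ⊆ F.centralizerHom C₀.focalSubgroup P := by
  have hTS : T ≤ S := D.le
  haveI : Finite T := finite_of_le hTS
  have hTp : IsPGroup p T := hS.to_le hTS
  have hgen : ∀ y ∈ {y : Ω | ∃ (P : Subgroup Ω) (φ : P →* Ω) (x : P), φ ∈ C₀.Hom P ∧ y = (x : Ω)⁻¹ * φ x},
      ∃ (Y : Subgroup Ω) (κ : Ω → Ω) (x : Ω), Y ≤ centralizerIn S T ∧ Mor F (Y ⊔ T) κ ∧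
        (∀ t ∈ T, κ t = t) ∧ x ∈ Y ∧ κ x ∈ centralizerIn S T ∧ y = x⁻¹ * κ x := by
    rintro y ⟨P, φ, x, hφ, rfl⟩
    rw [hC₀ P] at hφ
    have hφ' : φ ∈ (centralizerSystem F T hTS).Hom P := hφ
    have hM : Mor (centralizerSystem F T hTS) P (extFun P φ) := mor_extFun hφ'
    obtain ⟨hPC, hmaps, f', hf', hf'φ, hf'T⟩ := (mor_centralizerSystem_iff hTS).1 hM
    refine ⟨P, f', x, hPC, hf', hf'T, x.2, ?_, ?_⟩
    · rw [hf'φ x x.2]
      exact hmaps x x.2
    · rw [hf'φ x x.2, extFun_apply]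
  have hX₀C : C₀.focalSubgroup ≤ centralizerIn S T := by
    unfold focalSubgroup
    rw [Subgroup.closure_le]
    intro y hy
    obtain ⟨Y, κ, x, hY, hκ, hκT, hx, hκx, rfl⟩ := hgen y hy
    exact Subgroup.mul_mem _ (Subgroup.inv_mem _ (hY hx)) hκx
  refine ⟨hX₀C, ?_⟩
  have hX₀S : C₀.focalSubgroup ≤ S := hX₀C.trans inf_le_left
  have hTC : T ≤ centralizerIn S C₀.focalSubgroup := by
    intro t ht
    rw [mem_centralizerIn_iff]
    exact ⟨hTS ht, fun x hx => ((mem_centralizerIn_iff.1 (hX₀C hx)).2 t ht).symm⟩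
  have hCTR : ∀ R : Subgroup Ω, R ≤ T → centralizerIn S T ≤ centralizerIn S R := by
    intro R hRT c hc
    obtain ⟨hcS, hcC⟩ := mem_centralizerIn_iff.1 hc
    exact mem_centralizerIn_iff.2 ⟨hcS, fun x hx => hcC x (hRT hx)⟩
  -- a map with the focal-fixing property fixes the focal subgroup of `C_F(T)` pointwise
  have key : ∀ (R : Subgroup Ω) (g : Ω → Ω), R ≤ T → Mor F (R ⊔ centralizerIn S R) g → FocFix F R g →
      ∀ x ∈ C₀.focalSubgroup, g x = x := by
    intro R g hRT hg hfoc
    have hle : C₀.focalSubgroup ≤ R ⊔ centralizerIn S R := hX₀C.trans ((hCTR R hRT).trans le_sup_right)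
    have aux : ∀ y ∈ Subgroup.closure {y : Ω | ∃ (P : Subgroup Ω) (φ : P →* Ω) (x : P),
        φ ∈ C₀.Hom P ∧ y = (x : Ω)⁻¹ * φ x}, y ∈ R ⊔ centralizerIn S R ∧ g y = y := by
      intro y hy
      induction hy using Subgroup.closure_induction with
      | mem y hy =>
        refine ⟨hle (Subgroup.subset_closure hy), ?_⟩
        obtain ⟨Y, κ, x, hY, hκ, hκT, hx, hκx, rfl⟩ := hgen y hy
        exact hfoc Y κ (hY.trans (hCTR R hRT)) (hκ.restrict (sup_le_sup le_rfl hRT))
          (fun t ht => hκT t (hRT ht)) x hx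
      | one => exact ⟨Subgroup.one_mem _, hg.map_one⟩
      | mul y z _ _ ihy ihz =>
        exact ⟨Subgroup.mul_mem _ ihy.1 ihz.1, by rw [hg.map_mul ihy.1 ihz.1, ihy.2, ihz.2]⟩
      | inv y _ ih =>
        exact ⟨Subgroup.inv_mem _ ih.1, by rw [hg.map_inv ih.1, ih.2]⟩
    exact fun x hx => (aux x hx).2
  have main := Cfsg.Agent.H88.alperin_induction hTp D.satE
    (interSys E (centralizerSystem F C₀.focalSubgroup hX₀S) hTC) (by
    intro R hRa hRr IH α hα
    have hRT : R ≤ T := hRa.1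
    haveI : Finite R := finite_of_le (hRT.trans hTS)
    have hf : Mor E R (autFun R α) := (mem_autGroup_iff hRT α).1 hα
    have himg : imgS R (autFun R α) = R := imgS_eq_of_maps hf (fun x hx => autFun_mem α hx)
    by_cases hC : centralizerIn T R ≤ R
    · have hRc : E.IsCentric R := centric_of_receptive hRr hC
      obtain ⟨R₀, hR₀⟩ := hRa.2
      have hD' : ((interSys E (centralizerSystem F C₀.focalSubgroup hX₀S) hTC).autGroup R).subgroupOf
          (E.autGroup R) = ⊤ := by
        refine eq_top_of_sylow_le_of_pow _ R₀ ?_ ?_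
        · intro γ hγ
          rw [hR₀, Subgroup.mem_subgroupOf] at hγ
          obtain ⟨t, ht, Ht⟩ := (mem_autInducedBy_iff T R _).1 hγ
          rw [Subgroup.mem_subgroupOf, mem_autGroup_iff hRT]
          refine (Mor.conj _ hRT ht).congr (fun x hx => ?_)
          rw [autFun_of_mem _ hx]
          exact (Ht ⟨x, hx⟩).symm
        · intro γ
          have hγM : Mor E R (autFun R (γ : MulAut R)) := (mem_autGroup_iff hRT _).1 γ.2
          obtain ⟨b, g, hgQ, hga, hfoc⟩ := exists_pow_focFix hS D hRc hγM (fun x hx => autFun_mem _ hx)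
          refine ⟨b, ?_⟩
          rw [Subgroup.mem_subgroupOf, mem_autGroup_iff hRT, mor_interSys_iff]
          refine ⟨(mem_autGroup_iff hRT _).1 (γ ^ p ^ b).2, ?_⟩
          rw [mor_centralizerSystem_iff hX₀S]
          refine ⟨hRT.trans hTC, fun x hx => hTC (hRT (autFun_mem _ hx)), g,
            hgQ.1.restrict (sup_le le_sup_left (hX₀C.trans ((hCTR R hRT).trans le_sup_right))),
            fun x hx => ?_, key R g hRT hgQ.1 hfoc⟩
          rw [hga x hx]
          show _ = autFun R ((γ : MulAut R) ^ p ^ b) x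
          rw [autFun_pow _ _ hx]
      have hmem : (⟨α, hα⟩ : E.autGroup R) ∈
          ((interSys E (centralizerSystem F C₀.focalSubgroup hX₀S) hTC).autGroup R).subgroupOf
            (E.autGroup R) := by
        rw [hD']
        trivial
      exact Subgroup.mem_subgroupOf.1 hmem
    · obtain ⟨f', hf', hf'f⟩ := receptive_extend' hRr hf himg
      have hle : R ≤ extSub T R (autFun R α) := le_extSub hf
      have hlt : R < extSub T R (autFun R α) :=
        lt_of_le_of_ne hle (fun h => hC (by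
          have h2 := centralizerIn_le_extSub hf
          rw [← h] at h2
          exact h2))
      haveI : Finite (extSub T R (autFun R α)) := finite_of_le (extSub_le hf)
      have h1 := IH _ _ hf' (card_lt_card_of_lt hlt)
      rw [mem_autGroup_iff hRT]
      exact (h1.restrict hle).congr hf'f)
  intro P φ hφ
  have h1 := main P (extFun P φ) (mor_extFun hφ)
  obtain ⟨φ', hφ', hφ'eq⟩ := (mor_interSys_iff.1 h1).2
  have hφφ' : φ' = φ := by
    ext x
    rw [hφ'eq, extFun_apply]
  rw [hφφ'] at hφ'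
  exact hφ'

end Cfsg.Agent.H86
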