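import Mathlib
import Cfsg.Prelude.Def_FusionSystem
import Cfsg.Agent.H86.NCMain

set_option autoImplicit false
set_option maxHeartbeats 800000

/-!
The largest subgroup of `C_S(T)` centralizing a normal subsystem `E` over `T`.
-/

namespace Cfsg.Agent.H86

open Cfsg Cfsg.FusionSystem Cfsg.Agent.H87

variable {Ω : Type*} [Group Ω] {S T : Subgroup Ω}

lemma mor_iterate {F : FusionSystem S} {P : Subgroup Ω} {f : Ω → Ω} (hf : Mor F P f)
    (hP : ∀ x ∈ P, f x ∈ P) : ∀ k : ℕ, Mor F P (f^[k]) ∧ ∀ x ∈ P, f^[k] x ∈ P := by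
  intro k
  induction k with
  | zero => exact ⟨Mor.id F hf.le, fun x hx => hx⟩
  | succ k ih =>
    refine ⟨?_, fun x hx => ?_⟩
    · rw [Function.iterate_succ]
      exact hf.comp ih.1 hP
    · rw [Function.iterate_succ_apply']
      exact hP _ (ih.2 x hx)

lemma good_iterate_disp [Finite S] {F : FusionSystem S} {P : Subgroup Ω} {β : Ω → Ω}
    (hβ : Good F P β) :
    ∀ (j : ℕ), ∀ c ∈ centralizerIn S P, β^[j] c = c * nmIter β j (dispFn β c) := by
  have hPS : P ≤ S := hβ.1.leS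
  have hCQ : centralizerIn S P ≤ P ⊔ centralizerIn S P := le_sup_right
  have hPQ : P ≤ P ⊔ centralizerIn S P := le_sup_left
  have hβM : Mor F (P ⊔ centralizerIn S P) β := hβ.1.1
  have hZC : P ⊓ Subgroup.centralizer (P : Set Ω) ≤ centralizerIn S P := inf_le_inf_right _ hPS
  have hzZ : ∀ c ∈ centralizerIn S P, dispFn β c ∈ P ⊓ Subgroup.centralizer (P : Set Ω) :=
    fun c hc => ⟨hβ.2 c hc, hβ.cent hc⟩
  have hβc : ∀ c, β c = c * dispFn β c := fun c => by unfold dispFn; group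
  have hβZ : ∀ u ∈ P ⊓ Subgroup.centralizer (P : Set Ω), β u ∈ P ⊓ Subgroup.centralizer (P : Set Ω) :=
    fun u hu => ⟨hβ.1.2 u hu.1, (hβ.1.mapsC u (hZC hu)).2⟩
  intro j
  induction j with
  | zero => intro c _; show c = c * 1; rw [mul_one]
  | succ j ih =>
    intro c hc
    rw [Function.iterate_succ_apply', ih c hc,
      hβM.map_mul (hCQ hc) (hPQ (nmIter_mem hβZ j _ (hzZ c hc)).1), hβc c, mul_assoc]
    rfl

/-- A good extension of order prime to `p` fixes an element of `C_S(P)` whose displacement it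
fixes. -/
lemma good_fix_of_disp_fix [Finite S] {p : ℕ} [Fact p.Prime] (hS : IsPGroup p S) {F : FusionSystem S}
    {P : Subgroup Ω} {β : Ω → Ω} (hβ : Good F P β) {n : ℕ} (hn : ¬ p ∣ n)
    (hβn : ∀ x ∈ P ⊔ centralizerIn S P, β^[n] x = x) {c : Ω} (hc : c ∈ centralizerIn S P)
    (hfix : β (dispFn β c) = dispFn β c) : β c = c := by
  have hPS : P ≤ S := hβ.1.leS
  have hPQ : P ≤ P ⊔ centralizerIn S P := le_sup_left
  have hβM : Mor F (P ⊔ centralizerIn S P) β := hβ.1.1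
  have hzZ : dispFn β c ∈ P ⊓ Subgroup.centralizer (P : Set Ω) := ⟨hβ.2 c hc, hβ.cent hc⟩
  have hmulZ : ∀ u ∈ P ⊓ Subgroup.centralizer (P : Set Ω), ∀ v ∈ P ⊓ Subgroup.centralizer (P : Set Ω),
      β (u * v) = β u * β v := fun u hu v hv => hβM.map_mul (hPQ hu.1) (hPQ hv.1)
  have h1 := good_iterate_disp hβ n c hc
  rw [hβn c (Subgroup.mem_sup_right hc)] at h1
  have h2 : nmIter β n (dispFn β c) = 1 := mul_eq_left.1 h1.symm
  rw [nmIter_fix hβM.map_one hmulZ hzZ hfix] at h2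
  have h3 : dispFn β c = 1 := eq_one_of_pow_coprime hS (hPS hzZ.1) hn h2
  have h4 : β c = c * dispFn β c := by unfold dispFn; group
  rw [h4, h3, mul_one]

/-- A good extension `γ` of order prime to `p` with the focal-fixing property fixes pointwise every
subgroup `Y` of `C_S(R)` such that `γ|R` has an extension to `R Y` fixing `Y`. -/
lemma good_fix_of_ext [Finite S] {p : ℕ} [Fact p.Prime] (hS : IsPGroup p S) {F : FusionSystem S}
    {R : Subgroup Ω} {γ : Ω → Ω} (hγ : Good F R γ) (hfoc : FocFix F R γ) {n : ℕ} (hn : ¬ p ∣ n)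
    (hγn : ∀ x ∈ R ⊔ centralizerIn S R, γ^[n] x = x) {Y : Subgroup Ω} (hY : Y ≤ centralizerIn S R)
    {f' : Ω → Ω} (hf' : Mor F (R ⊔ Y) f') (hf'R : ∀ x ∈ R, f' x = γ x) (hf'Y : ∀ y ∈ Y, f' y = y) :
    ∀ y ∈ Y, γ y = y := by
  have hRQ : R ≤ R ⊔ centralizerIn S R := le_sup_left
  have hCQ : centralizerIn S R ≤ R ⊔ centralizerIn S R := le_sup_right
  have hmaps : ∀ x ∈ R ⊔ Y, f' x ∈ R ⊔ centralizerIn S R := by
    intro x hx
    have h1 := hf'.mem_imgS_of_mem hx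
    rw [hf'.imgS_sup] at h1
    have h2 : imgS R f' ⊔ imgS Y f' ≤ R ⊔ centralizerIn S R := by
      refine sup_le ?_ ?_
      · intro z hz
        obtain ⟨x', hx', rfl⟩ := (hf'.restrict le_sup_left).mem_imgS.1 hz
        rw [hf'R x' hx']
        exact hRQ (hγ.1.2 x' hx')
      · intro z hz
        obtain ⟨x', hx', rfl⟩ := (hf'.restrict le_sup_right).mem_imgS.1 hz
        rw [hf'Y x' hx']
        exact hCQ (hY hx')
    exact h2 h1
  have hκ : Mor F (Y ⊔ R) (invOn (R ⊔ centralizerIn S R) γ ∘ f') := by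
    rw [sup_comm]
    exact hf'.comp hγ.1.inv.1 hmaps
  have hκR : ∀ x ∈ R, (invOn (R ⊔ centralizerIn S R) γ ∘ f') x = x := by
    intro x hx
    show invOn (R ⊔ centralizerIn S R) γ (f' x) = x
    rw [hf'R x hx]
    exact hγ.1.inv_apply (hRQ hx)
  intro y hy
  have hyC := hY hy
  have h1 := hfoc Y _ hY hκ hκR y hy
  have hy' : invOn (R ⊔ centralizerIn S R) γ y ∈ centralizerIn S R := hγ.1.inv.mapsC y hyC
  have hγy' : γ (invOn (R ⊔ centralizerIn S R) γ y) = y := hγ.1.apply_inv (hCQ hyC)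
  have h2 : (invOn (R ⊔ centralizerIn S R) γ ∘ f') y = invOn (R ⊔ centralizerIn S R) γ y := by
    show invOn (R ⊔ centralizerIn S R) γ (f' y) = _
    rw [hf'Y y hy]
  rw [h2] at h1
  have hz : dispFn γ (invOn (R ⊔ centralizerIn S R) γ y) ∈ R := hγ.2 _ hy'
  have h3 : y⁻¹ * invOn (R ⊔ centralizerIn S R) γ y =
      (dispFn γ (invOn (R ⊔ centralizerIn S R) γ y))⁻¹ := by
    unfold dispFn
    rw [hγy']
    group
  rw [h3, hγ.1.1.map_inv (hRQ hz), inv_inj] at h1
  have h4 := good_fix_of_disp_fix hS hγ hn hγn hy' h1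
  rw [hγy'] at h4
  have h5 := hγy'
  rw [← h4] at h5
  exact h5

/-- Every automorphism in `E` of an `E`-centric subgroup `R` has a `p`-power power with a good
extension of order prime to `p` fixing the focal elements of `C_F(R)`. -/
theorem exists_pow_focFix' [Finite S] {p : ℕ} [Fact p.Prime] (hS : IsPGroup p S)
    {F : FusionSystem S} {E : FusionSystem T} (D : NormalData p F E) {R : Subgroup Ω}
    (hRc : E.IsCentric R) {a : Ω → Ω} (ha : Mor E R a) (haR : ∀ x ∈ R, a x ∈ R) :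
    ∃ (b : ℕ) (g : Ω → Ω) (n : ℕ), Good F R g ∧ (∀ x ∈ R, g x = a^[p ^ b] x) ∧ FocFix F R g ∧
      ¬ p ∣ n ∧ ∀ x ∈ R ⊔ centralizerIn S R, g^[n] x = x := by
  have hTS := D.le
  have hRT : R ≤ T := hRc.1
  have hRS := hRT.trans hTS
  obtain ⟨R₁, hconj, hR₁n⟩ := exists_fullyNormalized_conj F hRS
  obtain ⟨θ, hθ, hθimg⟩ := isConj_iff.1 hconj
  have hR₁c : E.IsCentric R₁ := D.isCentric_of_F_conj hRc hconj
  obtain ⟨χ, hχ, hχeq⟩ := D.si R R a θ le_rfl hRT ha haR hθ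
  rw [hθimg] at hχ
  have hχR₁ : ∀ y ∈ R₁, χ y ∈ R₁ := by
    intro y hy
    rw [← hθimg] at hy
    obtain ⟨x, hx, rfl⟩ := hθ.mem_imgS.1 hy
    rw [hχeq x hx, ← hθimg]
    exact hθ.mem_imgS_of_mem (haR x hx)
  obtain ⟨g₁, hg₁, hg₁χ⟩ := exists_good hS D hR₁c hχ hχR₁
  have hQ₁S : R₁ ⊔ centralizerIn S R₁ ≤ S := hg₁.1.supLe
  haveI : Finite (R₁ ⊔ centralizerIn S R₁ : Subgroup Ω) := finite_of_le hQ₁S
  obtain ⟨M, hM0, hM⟩ : ∃ M : ℕ, M ≠ 0 ∧ ∀ x ∈ R₁ ⊔ centralizerIn S R₁, g₁^[M] x = x := by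
    refine ⟨orderOf (mkAut hg₁.1.1 hg₁.1.imgQ), (orderOf_pos _).ne', fun x hx => ?_⟩
    have h1 := autFun_pow (mkAut hg₁.1.1 hg₁.1.imgQ) (orderOf (mkAut hg₁.1.1 hg₁.1.imgQ)) hx
    rw [pow_orderOf_eq_one, autFun_one hx] at h1
    exact ((iterate_congr_on (fun y hy => autFun_mkAut hg₁.1.1 hg₁.1.imgQ hy) hg₁.1.mapsQ _ x
      hx).1.symm).trans h1.symm
  have hp : p.Prime := Fact.out
  obtain ⟨b, n', hn', hMeq⟩ := Nat.exists_eq_pow_mul_and_not_dvd hM0 p hp.ne_one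
  have hβ : Good F R₁ (g₁^[p ^ b]) := hg₁.iterate _
  have hβn : ∀ x ∈ R₁ ⊔ centralizerIn S R₁, (g₁^[p ^ b])^[n'] x = x := by
    intro x hx
    rw [← Function.iterate_mul, ← hMeq]
    exact hM x hx
  have hfoc₁ : FocFix F R₁ (g₁^[p ^ b]) :=
    focFix_of_coprime hS D.satF (saturated_fullyNormalized hS D.satF hR₁n).1 hβ hn' hβn
  obtain ⟨θ', hθ', hθ'θ, hθ'C⟩ := exists_transport hS D.satF hR₁n hθ hθimg
  have hθ'R : imgS R θ' = R₁ := by
    rw [← hθimg]
    exact (hθ'.restrict le_sup_left).imgS_congr hθ'θ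
  obtain ⟨g, hg, hga, hgθ⟩ := Good.transport hθ' hθ'R hθ'C haR hg₁ (fun x hx => by
    rw [hθ'θ x hx, hg₁χ _ (by rw [← hθimg]; exact hθ.mem_imgS_of_mem hx), hχeq x hx,
      hθ'θ _ (haR x hx)])
  have hiter : ∀ (j : ℕ), ∀ x ∈ R ⊔ centralizerIn S R, θ' (g^[j] x) = g₁^[j] (θ' x) := by
    intro j
    induction j with
    | zero => intro x _; rfl
    | succ j ih =>
      intro x hx
      rw [Function.iterate_succ_apply', Function.iterate_succ_apply',
        hgθ _ ((hg.1.iterate j).mapsQ x hx), ih x hx]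
  have hθ'Q : ∀ x ∈ R ⊔ centralizerIn S R, θ' x ∈ R₁ ⊔ centralizerIn S R₁ := by
    intro x hx
    have h1 := hθ'.mem_imgS_of_mem hx
    rw [hθ'.imgS_sup, hθ'R] at h1
    have h2 : R₁ ⊔ imgS (centralizerIn S R) θ' ≤ R₁ ⊔ centralizerIn S R₁ := by
      refine sup_le_sup le_rfl ?_
      intro z hz
      obtain ⟨c, hc, rfl⟩ := (hθ'.restrict le_sup_right).mem_imgS.1 hz
      exact hθ'C c hc
    exact h2 h1
  refine ⟨b, g^[p ^ b], n', hg.iterate _, fun x hx => (iterate_congr_on hga haR _ x hx).1, ?_, hn', ?_⟩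
  · intro Y κ hY hκ hκR y hy
    have hκC : ∀ x ∈ Y, κ x ∈ centralizerIn S R := fun x hx =>
      mem_centralizerIn_of_fix hκ le_sup_right hκR (Subgroup.mem_sup_left hx) (hY hx)
    have hyC : y ∈ centralizerIn S R := hY hy
    have hκyC : κ y ∈ centralizerIn S R := hκC y hy
    have hvC : y⁻¹ * κ y ∈ centralizerIn S R := Subgroup.mul_mem _ (Subgroup.inv_mem _ hyC) hκyC
    have hvQ : y⁻¹ * κ y ∈ R ⊔ centralizerIn S R := Subgroup.mem_sup_right hvC
    apply hθ'.injOn ((hg.1.iterate _).mapsQ _ hvQ) hvQ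
    rw [hiter _ _ hvQ]
    have hYR : Y ⊔ R ≤ R ⊔ centralizerIn S R := sup_le (hY.trans le_sup_right) le_sup_left
    have hθ'YR : Mor F (Y ⊔ R) θ' := hθ'.restrict hYR
    have himgYR : imgS (Y ⊔ R) θ' = imgS Y θ' ⊔ R₁ := by rw [hθ'YR.imgS_sup, hθ'R]
    have hκmaps : ∀ x ∈ Y ⊔ R, κ x ∈ R ⊔ centralizerIn S R := by
      intro x hx
      have h1 := hκ.mem_imgS_of_mem hx
      rw [hκ.imgS_sup] at h1
      have h2 : imgS Y κ ⊔ imgS R κ ≤ R ⊔ centralizerIn S R := by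
        refine sup_le ?_ ?_
        · intro z hz
          obtain ⟨x', hx', rfl⟩ := (hκ.restrict le_sup_left).mem_imgS.1 hz
          exact Subgroup.mem_sup_right (hκC x' hx')
        · intro z hz
          obtain ⟨x', hx', rfl⟩ := (hκ.restrict le_sup_right).mem_imgS.1 hz
          rw [hκR x' hx']
          exact Subgroup.mem_sup_left hx'
      exact h2 h1
    have hκ₁ : Mor F (imgS Y θ' ⊔ R₁) (θ' ∘ (κ ∘ invOn (Y ⊔ R) θ')) := by
      rw [← himgYR]
      exact (hθ'YR.inv.comp hκ (fun x hx => hθ'YR.invOn_mem hx)).comp hθ'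
        (fun x hx => hκmaps _ (hθ'YR.invOn_mem hx))
    have hY₁ : imgS Y θ' ≤ centralizerIn S R₁ := by
      intro z hz
      obtain ⟨x', hx', rfl⟩ := (hθ'.restrict (hY.trans le_sup_right)).mem_imgS.1 hz
      exact hθ'C x' (hY hx')
    have hκ₁R : ∀ x ∈ R₁, (θ' ∘ (κ ∘ invOn (Y ⊔ R) θ')) x = x := by
      intro x hx
      rw [← hθ'R] at hx
      obtain ⟨x', hx', rfl⟩ := (hθ'.restrict le_sup_left).mem_imgS.1 hx
      show θ' (κ (invOn (Y ⊔ R) θ' (θ' x'))) = θ' x'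
      rw [invOn_apply hθ'YR.injOn (Subgroup.mem_sup_right hx'), hκR x' hx']
    have h1 := hfoc₁ (imgS Y θ') _ hY₁ hκ₁ hκ₁R (θ' y)
      ((hθ'.restrict (hY.trans le_sup_right)).mem_imgS_of_mem hy)
    have h2 : (θ' ∘ (κ ∘ invOn (Y ⊔ R) θ')) (θ' y) = θ' (κ y) := by
      show θ' (κ (invOn (Y ⊔ R) θ' (θ' y))) = θ' (κ y)
      rw [invOn_apply hθ'YR.injOn (Subgroup.mem_sup_left hy)]
    rw [h2] at h1
    have h3 : θ' (y⁻¹ * κ y) = (θ' y)⁻¹ * θ' (κ y) := by
      rw [hθ'.map_mul (Subgroup.mem_sup_right (Subgroup.inv_mem _ hyC)) (Subgroup.mem_sup_right hκyC),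
        hθ'.map_inv (Subgroup.mem_sup_right hyC)]
    rw [h3]
    exact h1
  · intro x hx
    have hx1 : (g^[p ^ b])^[n'] x ∈ R ⊔ centralizerIn S R :=
      ((hg.1.iterate _).iterate _).mapsQ x hx
    apply hθ'.injOn hx1 hx
    rw [← Function.iterate_mul, hiter _ _ hx, ← hMeq]
    exact hM _ (hθ'Q x hx)

/-- If every `E`-automorphism of an `E`-centric subgroup has a `p`-power power extending to a map
fixing `X` pointwise, then `E` lies in the centralizer system of `X`. -/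
theorem centralizes_of_pow_fix [Finite S] {p : ℕ} [Fact p.Prime] (hS : IsPGroup p S)
    {F : FusionSystem S} {E : FusionSystem T} (D : NormalData p F E) {X : Subgroup Ω}
    (hXC : X ≤ centralizerIn S T)
    (hfix : ∀ (R : Subgroup Ω) (a : Ω → Ω), E.IsCentric R → Mor E R a → (∀ x ∈ R, a x ∈ R) →
      ∃ (b : ℕ) (g : Ω → Ω), Mor F (R ⊔ centralizerIn S R) g ∧ (∀ x ∈ R, g x = a^[p ^ b] x) ∧
        ∀ x ∈ X, g x = x) :
    ∀ P : Subgroup Ω, E.Hom P ⊆ F.centralizerHom X P := by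
  have hTS : T ≤ S := D.le
  haveI : Finite T := finite_of_le hTS
  have hTp : IsPGroup p T := hS.to_le hTS
  have hXS : X ≤ S := hXC.trans inf_le_left
  have hTC : T ≤ centralizerIn S X := by
    intro t ht
    rw [mem_centralizerIn_iff]
    exact ⟨hTS ht, fun x hx => ((mem_centralizerIn_iff.1 (hXC hx)).2 t ht).symm⟩
  have hCTR : ∀ R : Subgroup Ω, R ≤ T → centralizerIn S T ≤ centralizerIn S R := by
    intro R hRT c hc
    obtain ⟨hcS, hcC⟩ := mem_centralizerIn_iff.1 hc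
    exact mem_centralizerIn_iff.2 ⟨hcS, fun x hx => hcC x (hRT hx)⟩
  have main := Cfsg.Agent.H88.alperin_induction hTp D.satE
    (interSys E (centralizerSystem F X hXS) hTC) (by
    intro R hRa hRr IH α hα
    have hRT : R ≤ T := hRa.1
    haveI : Finite R := finite_of_le (hRT.trans hTS)
    have hf : Mor E R (autFun R α) := (mem_autGroup_iff hRT α).1 hα
    have himg : imgS R (autFun R α) = R := imgS_eq_of_maps hf (fun x hx => autFun_mem α hx)
    by_cases hC : centralizerIn T R ≤ R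
    · have hRc : E.IsCentric R := centric_of_receptive hRr hC
      obtain ⟨R₀, hR₀⟩ := hRa.2
      have hD' : ((interSys E (centralizerSystem F X hXS) hTC).autGroup R).subgroupOf
          (E.autGroup R) = ⊤ := by
        refine eq_top_of_sylow_le_of_pow _ R₀ ?_ ?_
        · intro γ hγ
          rw [hR₀, Subgroup.mem_subgroupOf] at hγ
          obtain ⟨t, ht, Ht⟩ := (mem_autInducedBy_iff T R _).1 hγ
          rw [Subgroup.mem_subgroupOf, mem_autGroup_iff hRT]
          refine (Mor.conj _ hRT ht).congr (fun x hx => ?_)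
          rw [autFun_of_mem _ hx]
          exact (Ht ⟨x, hx⟩).symm
        · intro γ
          have hγM : Mor E R (autFun R (γ : MulAut R)) := (mem_autGroup_iff hRT _).1 γ.2
          obtain ⟨b, g, hgM, hga, hgX⟩ := hfix R _ hRc hγM (fun x hx => autFun_mem _ hx)
          refine ⟨b, ?_⟩
          rw [Subgroup.mem_subgroupOf, mem_autGroup_iff hRT, mor_interSys_iff]
          refine ⟨(mem_autGroup_iff hRT _).1 (γ ^ p ^ b).2, ?_⟩
          rw [mor_centralizerSystem_iff hXS]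
          refine ⟨hRT.trans hTC, fun x hx => hTC (hRT (autFun_mem _ hx)), g,
            hgM.restrict (sup_le le_sup_left (hXC.trans ((hCTR R hRT).trans le_sup_right))),
            fun x hx => ?_, hgX⟩
          rw [hga x hx]
          show _ = autFun R ((γ : MulAut R) ^ p ^ b) x
          rw [autFun_pow _ _ hx]
      have hmem : (⟨α, hα⟩ : E.autGroup R) ∈
          ((interSys E (centralizerSystem F X hXS) hTC).autGroup R).subgroupOf
            (E.autGroup R) := by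
        rw [hD']
        trivial
      exact Subgroup.mem_subgroupOf.1 hmem
    · obtain ⟨f', hf', hf'f⟩ := receptive_extend' hRr hf himg
      have hle : R ≤ extSub T R (autFun R α) := le_extSub hf
      have hlt : R < extSub T R (autFun R α) :=
        lt_of_le_of_ne hle (fun h => hC (by
          have h2 := centralizerIn_le_extSub hf
          rw [← h] at h2
          exact h2))
      haveI : Finite (extSub T R (autFun R α)) := finite_of_le (extSub_le hf)
      have h1 := IH _ _ hf' (card_lt_card_of_lt hlt)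
      rw [mem_autGroup_iff hRT]
      exact (h1.restrict hle).congr hf'f)
  intro P φ hφ
  have h1 := main P (extFun P φ) (mor_extFun hφ)
  obtain ⟨φ', hφ', hφ'eq⟩ := (mor_interSys_iff.1 h1).2
  have hφφ' : φ' = φ := by
    ext x
    rw [hφ'eq, extFun_apply]
  rw [hφφ'] at hφ'
  exact hφ'

/-- Total-function form of "`E` lies in the centralizer system of `X`". -/
def Cz (F : FusionSystem S) (E : FusionSystem T) (X : Subgroup Ω) : Prop :=
  ∀ (P : Subgroup Ω) (ψ : Ω → Ω), Mor E P ψ →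
    ∃ f', Mor F (P ⊔ X) f' ∧ (∀ x ∈ P, f' x = ψ x) ∧ ∀ x ∈ X, f' x = x

lemma cz_of_hom {F : FusionSystem S} {E : FusionSystem T} {X : Subgroup Ω} (hXS : X ≤ S)
    (h : ∀ P : Subgroup Ω, E.Hom P ⊆ F.centralizerHom X P) : Cz F E X := by
  rintro P ψ ⟨φ, hφ, hφψ⟩
  have hφ' : φ ∈ (centralizerSystem F X hXS).Hom P := h P hφ
  have hM : Mor (centralizerSystem F X hXS) P ψ := ⟨φ, hφ', hφψ⟩
  obtain ⟨-, -, f', hf', hf'ψ, hf'X⟩ := (mor_centralizerSystem_iff hXS).1 hM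
  exact ⟨f', hf', hf'ψ, hf'X⟩

lemma hom_of_cz {F : FusionSystem S} {E : FusionSystem T} {X : Subgroup Ω} (hTS : T ≤ S)
    (hXC : X ≤ centralizerIn S T) (h : Cz F E X) :
    ∀ P : Subgroup Ω, E.Hom P ⊆ F.centralizerHom X P := by
  have hXS : X ≤ S := hXC.trans inf_le_left
  have hTC : T ≤ centralizerIn S X := by
    intro t ht
    rw [mem_centralizerIn_iff]
    exact ⟨hTS ht, fun x hx => ((mem_centralizerIn_iff.1 (hXC hx)).2 t ht).symm⟩
  intro P φ hφ
  have hM : Mor E P (extFun P φ) := mor_extFun hφ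
  obtain ⟨f', hf', hf'ψ, hf'X⟩ := h P _ hM
  have hM' : Mor (centralizerSystem F X hXS) P (extFun P φ) := by
    rw [mor_centralizerSystem_iff hXS]
    exact ⟨hM.le.trans hTC, fun x hx => hTC (hM.mem hx), f', hf', hf'ψ, hf'X⟩
  obtain ⟨φ', hφ', hφ'eq⟩ := hM'
  have hφφ' : φ' = φ := by
    ext x
    rw [hφ'eq, extFun_apply]
  rw [hφφ'] at hφ'
  exact hφ'

/-- The join of all subgroups of `C_S(T)` centralizing `E` centralizes `E`. -/
theorem exists_largest_centralizing [Finite S] {p : ℕ} [Fact p.Prime] (hS : IsPGroup p S)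
    {F : FusionSystem S} {E : FusionSystem T} (D : NormalData p F E) :
    ∃ C : Subgroup Ω, C ≤ centralizerIn S T ∧ (∀ P : Subgroup Ω, E.Hom P ⊆ F.centralizerHom C P) ∧
      ∀ Y : Subgroup Ω, Y ≤ centralizerIn S T → (∀ P : Subgroup Ω, E.Hom P ⊆ F.centralizerHom Y P) →
        Y ≤ C := by
  have hTS : T ≤ S := D.le
  have hCle : sSup {Y : Subgroup Ω | Y ≤ centralizerIn S T ∧
      ∀ P : Subgroup Ω, E.Hom P ⊆ F.centralizerHom Y P} ≤ centralizerIn S T :=
    sSup_le (fun Y hY => hY.1)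
  refine ⟨sSup {Y : Subgroup Ω | Y ≤ centralizerIn S T ∧
      ∀ P : Subgroup Ω, E.Hom P ⊆ F.centralizerHom Y P}, hCle, ?_, fun Y hY hYE => le_sSup ⟨hY, hYE⟩⟩
  refine centralizes_of_pow_fix hS D hCle ?_
  intro R a hRc ha haR
  have hRT : R ≤ T := hRc.1
  obtain ⟨b, g, n, hg, hga, hfoc, hn, hgn⟩ := exists_pow_focFix' hS D hRc ha haR
  refine ⟨b, g, hg.1.1, hga, ?_⟩
  have hCTR : centralizerIn S T ≤ centralizerIn S R := by
    intro c hc
    obtain ⟨hcS, hcC⟩ := mem_centralizerIn_iff.1 hc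
    exact mem_centralizerIn_iff.2 ⟨hcS, fun x hx => hcC x (hRT hx)⟩
  let Fix : Subgroup Ω :=
    { carrier := {x | x ∈ R ⊔ centralizerIn S R ∧ g x = x}
      one_mem' := ⟨Subgroup.one_mem _, hg.1.1.map_one⟩
      mul_mem' := by
        rintro x y ⟨hx, hgx⟩ ⟨hy, hgy⟩
        exact ⟨Subgroup.mul_mem _ hx hy, by rw [hg.1.1.map_mul hx hy, hgx, hgy]⟩
      inv_mem' := by
        rintro x ⟨hx, hgx⟩
        exact ⟨Subgroup.inv_mem _ hx, by rw [hg.1.1.map_inv hx, hgx]⟩ }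
  have hle : sSup {Y : Subgroup Ω | Y ≤ centralizerIn S T ∧
      ∀ P : Subgroup Ω, E.Hom P ⊆ F.centralizerHom Y P} ≤ Fix := by
    refine sSup_le ?_
    rintro Y ⟨hYC, hYE⟩ y hy
    have hYR : Y ≤ centralizerIn S R := hYC.trans hCTR
    refine ⟨Subgroup.mem_sup_right (hYR hy), ?_⟩
    have hcz := cz_of_hom (hYC.trans inf_le_left) hYE
    obtain ⟨f', hf', hf'a, hf'Y⟩ := hcz R _ (mor_iterate ha haR (p ^ b)).1
    exact good_fix_of_ext hS hg hfoc hn hgn hYR hf' (fun x hx => by rw [hf'a x hx, hga x hx]) hf'Y y hy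
  exact fun x hx => (hle hx).2

end Cfsg.Agent.H86
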