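import Mathlib
import Cfsg.Prelude.Def_FusionSystem
import Cfsg.Agent.H86.NCMax

set_option autoImplicit false
set_option maxHeartbeats 800000

/-!
Tools for the strong closure of the centralizer of a normal subsystem.
-/

namespace Cfsg.Agent.H86

open Cfsg Cfsg.FusionSystem Cfsg.Agent.H87
open scoped Pointwise

/-- The intersection of a Sylow `p`-subgroup with a normal subgroup is a Sylow `p`-subgroup of it. -/
lemma exists_sylow_eq_subgroupOf {G : Type*} [Group G] [Finite G] {p : ℕ} [Fact p.Prime]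
    (N : Subgroup G) [N.Normal] (P : Sylow p G) :
    ∃ Q : Sylow p N, (Q : Subgroup N) = (P : Subgroup G).subgroupOf N := by
  obtain ⟨Q₂⟩ : Nonempty (Sylow p N) := inferInstance
  obtain ⟨Q', hQ'⟩ := Q₂.exists_comap_subtype_eq
  obtain ⟨g, hg⟩ := MulAction.exists_smul_eq G Q' P
  refine ⟨(MulAut.conjNormal g : MulAut N) • Q₂, ?_⟩
  ext x
  rw [Sylow.pointwise_smul_def, Subgroup.mem_pointwise_smul_iff_inv_smul_mem, Subgroup.mem_subgroupOf,
    ← hg, Sylow.coe_subgroup_smul, Subgroup.mem_pointwise_smul_iff_inv_smul_mem, ← hQ',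
    Subgroup.mem_comap]
  have h : (N.subtype ((MulAut.conjNormal (H := N) g)⁻¹ • x) : G) = (MulAut.conj g)⁻¹ • (x : G) := by
    rw [← map_inv (MulAut.conjNormal (H := N)) g, ← map_inv MulAut.conj g, MulAut.smul_def,
      MulAut.smul_def, Subgroup.coe_subtype, MulAut.conjNormal_apply, MulAut.conj_apply]
  rw [h]

variable {Ω : Type*} [Group Ω] {S T : Subgroup Ω}

/-- If `R` normalizes `K` and `K ≰ R` inside a `p`-group, some element of `K` outside `R`
normalizes `R`. -/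
lemma exists_normalizing_not_mem [Finite S] {p : ℕ} [Fact p.Prime] (hS : IsPGroup p S)
    {R K : Subgroup Ω} (hRS : R ≤ S) (hKS : K ≤ S)
    (hnorm : ∀ r ∈ R, ∀ k ∈ K, r * k * r⁻¹ ∈ K) (hK : ¬ K ≤ R) :
    ∃ k ∈ K, k ∉ R ∧ k ∈ Subgroup.normalizer (R : Set Ω) := by
  let M : Subgroup Ω :=
    { carrier := {g | ∃ r ∈ R, ∃ k ∈ K, g = r * k}
      one_mem' := ⟨1, R.one_mem, 1, K.one_mem, by simp⟩
      mul_mem' := by
        rintro _ _ ⟨r, hr, k, hk, rfl⟩ ⟨r', hr', k', hk', rfl⟩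
        refine ⟨r * r', R.mul_mem hr hr', (r'⁻¹ * k * r'⁻¹⁻¹) * k',
          K.mul_mem (hnorm _ (R.inv_mem hr') _ hk) hk', ?_⟩
        group
      inv_mem' := by
        rintro _ ⟨r, hr, k, hk, rfl⟩
        refine ⟨r⁻¹, R.inv_mem hr, r * k⁻¹ * r⁻¹, hnorm _ hr _ (K.inv_mem hk), ?_⟩
        group }
  have hRM : R ≤ M := fun r hr => ⟨r, hr, 1, K.one_mem, by simp⟩
  have hKM : K ≤ M := fun k hk => ⟨1, R.one_mem, k, hk, by simp⟩
  have hMS : M ≤ S := by
    rintro _ ⟨r, hr, k, hk, rfl⟩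
    exact S.mul_mem (hRS hr) (hKS hk)
  haveI : Finite M := finite_of_le hMS
  have hlt : R < M := lt_of_le_of_ne hRM (fun h => hK (hKM.trans h.ge))
  have hlt2 := lt_normalizerIn (hS.to_le hMS) hlt
  obtain ⟨g, hgN, hgR⟩ := SetLike.exists_of_lt hlt2
  obtain ⟨⟨r, hr, k, hk, rfl⟩, hgnorm⟩ := hgN
  refine ⟨k, hk, fun hkR => hgR (R.mul_mem hr hkR), ?_⟩
  have h1 : k = r⁻¹ * (r * k) := by group
  rw [h1]
  exact Subgroup.mul_mem _ (Subgroup.inv_mem _ (Subgroup.le_normalizer hr)) hgnorm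

lemma mor_map_pow {F : FusionSystem S} {P : Subgroup Ω} {f : Ω → Ω} (hf : Mor F P f) {x : Ω}
    (hx : x ∈ P) : ∀ j : ℕ, f (x ^ j) = f x ^ j := by
  intro j
  induction j with
  | zero => rw [pow_zero, pow_zero, hf.map_one]
  | succ j ih => rw [pow_succ, hf.map_mul (P.pow_mem hx j) hx, ih, pow_succ]

/-- A fully centralized subgroup containing its centralizer is centric. -/
lemma isCentric_of_fullyCentralized [Finite S] {F : FusionSystem S} {R : Subgroup Ω}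
    (h : F.IsFullyCentralized R) (hC : centralizerIn S R ≤ R) : F.IsCentric R := by
  refine ⟨h.1, fun Q hQ => ?_⟩
  have hcard := h.2 _ hQ
  obtain ⟨f, hf, rfl⟩ := isConj_iff.1 hQ
  have hZle : imgS R f ⊓ Subgroup.centralizer ((imgS R f : Subgroup Ω) : Set Ω) ≤
      centralizerIn S (imgS R f) := inf_le_inf_right _ hf.imgS_le
  have hCR : centralizerIn S R ≤ R ⊓ Subgroup.centralizer (R : Set Ω) := fun c hc => ⟨hC hc, hc.2⟩
  haveI : Finite (centralizerIn S (imgS R f)) := finite_of_le (S := S) inf_le_left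
  haveI : Finite (R ⊓ Subgroup.centralizer (R : Set Ω) : Subgroup Ω) :=
    finite_of_le (inf_le_left.trans h.1)
  have heq : imgS R f ⊓ Subgroup.centralizer ((imgS R f : Subgroup Ω) : Set Ω) =
      centralizerIn S (imgS R f) := by
    refine Subgroup.eq_of_le_of_card_ge hZle ?_
    rw [← imgS_center hf, (hf.restrict inf_le_left).card_imgS]
    exact hcard.trans (Subgroup.card_le_of_le hCR)
  rw [← heq]
  exact inf_le_left

/-- The subsystem of the maps preserving a subgroup `C` that is normal in `S`. -/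
def presSys (F : FusionSystem S) (C : Subgroup Ω)
    (hC : ∀ s ∈ S, ∀ x : Ω, x ∈ C ↔ s * x * s⁻¹ ∈ C) : FusionSystem S where
  Hom Q := {φ | φ ∈ F.Hom Q ∧ ∀ x : Q, (x : Ω) ∈ C ↔ φ x ∈ C}
  le_of_mem h := F.le_of_mem h.1
  injective_of_mem h := F.injective_of_mem h.1
  conj_mem := by
    intro P g hP hg
    exact ⟨F.conj_mem hP hg, fun x => hC g hg x⟩
  comp_mem := by
    rintro P Q φ ψ ⟨hφ, hφC⟩ ⟨hψ, hψC⟩ h
    refine ⟨F.comp_mem hφ hψ h, fun x => ?_⟩
    show (x : Ω) ∈ C ↔ ψ ⟨φ x, h x⟩ ∈ C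
    rw [hφC x]
    exact hψC ⟨φ x, h x⟩
  inv_mem := by
    rintro P φ ⟨hφ, hφC⟩
    obtain ⟨ψ, hψ, hψx⟩ := F.inv_mem hφ
    refine ⟨ψ, ⟨hψ, ?_⟩, hψx⟩
    rintro ⟨_, x, rfl⟩
    rw [hψx]
    exact (hφC x).symm

lemma mor_presSys_iff {F : FusionSystem S} {C : Subgroup Ω}
    {hC : ∀ s ∈ S, ∀ x : Ω, x ∈ C ↔ s * x * s⁻¹ ∈ C} {P : Subgroup Ω} {f : Ω → Ω} :
    Mor (presSys F C hC) P f ↔ Mor F P f ∧ ∀ x ∈ P, (x ∈ C ↔ f x ∈ C) := by
  constructor
  · rintro ⟨φ, ⟨hφ, hφC⟩, hφf⟩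
    exact ⟨⟨φ, hφ, hφf⟩, fun x hx => by rw [← hφf ⟨x, hx⟩]; exact hφC ⟨x, hx⟩⟩
  · rintro ⟨⟨φ, hφ, hφf⟩, h⟩
    exact ⟨φ, ⟨hφ, fun x => by rw [hφf]; exact h x x.2⟩, hφf⟩

lemma cz_mono {F : FusionSystem S} {E : FusionSystem T} {X Y : Subgroup Ω} (h : Cz F E X)
    (hYX : Y ≤ X) : Cz F E Y := by
  intro P ψ hψ
  obtain ⟨f', hf', hf'ψ, hf'X⟩ := h P ψ hψ
  exact ⟨f', hf'.restrict (sup_le_sup le_rfl hYX), hf'ψ, fun x hx => hf'X x (hYX hx)⟩

/-- The image of a subgroup centralizing `E` under a map defined on `X T` centralizes `E`. -/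
theorem cz_img [Finite S] {p : ℕ} {F : FusionSystem S} {E : FusionSystem T} (D : NormalData p F E)
    {X : Subgroup Ω} (hXC : X ≤ centralizerIn S T) (hX : Cz F E X) {φ : Ω → Ω}
    (hφ : Mor F (X ⊔ T) φ) : imgS X φ ≤ centralizerIn S T ∧ Cz F E (imgS X φ) := by
  have hTS : T ≤ S := D.le
  haveI : Finite T := finite_of_le hTS
  have hφT : Mor F T φ := hφ.restrict le_sup_right
  have hφX : Mor F X φ := hφ.restrict le_sup_left
  have himgT : imgS T φ = T := imgS_eq_of_maps hφT (D.mapsT le_rfl hφT)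
  have hinvT : Mor F T (invOn T φ) := by
    have := hφT.inv
    rwa [himgT] at this
  have happT : ∀ x ∈ T, φ (invOn T φ x) = x := fun x hx => hφT.apply_invOn (by rw [himgT]; exact hx)
  have hinvTm : ∀ x ∈ T, invOn T φ x ∈ T := fun x hx => hφT.invOn_mem (by rw [himgT]; exact hx)
  constructor
  · intro y hy
    obtain ⟨x, hx, rfl⟩ := hφX.mem_imgS.1 hy
    rw [mem_centralizerIn_iff]
    refine ⟨hφ.mem (Subgroup.mem_sup_left hx), fun t ht => ?_⟩
    have h1 := (mem_centralizerIn_iff.1 (hXC hx)).2 _ (hinvTm t ht)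
    calc t * φ x = φ (invOn T φ t) * φ x := by rw [happT t ht]
      _ = φ (invOn T φ t * x) :=
        (hφ.map_mul (Subgroup.mem_sup_right (hinvTm t ht)) (Subgroup.mem_sup_left hx)).symm
      _ = φ (x * invOn T φ t) := by rw [h1]
      _ = φ x * φ (invOn T φ t) :=
        hφ.map_mul (Subgroup.mem_sup_left hx) (Subgroup.mem_sup_right (hinvTm t ht))
      _ = φ x * t := by rw [happT t ht]
  · intro P ψ hψ
    have hPT : P ≤ T := hψ.le
    obtain ⟨χ, hχ, hχeq⟩ := D.si P T ψ (invOn T φ) hPT le_rfl hψ (fun x hx => hψ.mem hx) hinvT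
    have hinvP : Mor F P (invOn T φ) := hinvT.restrict hPT
    have hP'T : imgS P (invOn T φ) ≤ T := hχ.le
    obtain ⟨f', hf', hf'χ, hf'X⟩ := hX _ χ hχ
    have hle : imgS P (invOn T φ) ⊔ X ≤ X ⊔ T := sup_le (hP'T.trans le_sup_right) le_sup_left
    have hφPX : Mor F (imgS P (invOn T φ) ⊔ X) φ := hφ.restrict hle
    have himgP' : imgS (imgS P (invOn T φ)) φ = P := by
      rw [← hinvP.imgS_comp hφT (fun x hx => hinvTm x (hPT hx))]
      have h1 : Mor F P (φ ∘ invOn T φ) := hinvP.comp hφT (fun x hx => hinvTm x (hPT hx))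
      rw [h1.imgS_congr (g := fun x => x) (fun x hx => happT x (hPT hx)), Mor.imgS_id]
    have himgsup : imgS (imgS P (invOn T φ) ⊔ X) φ = P ⊔ imgS X φ := by
      rw [hφPX.imgS_sup, himgP']
    have hf'maps : ∀ x ∈ imgS P (invOn T φ) ⊔ X, f' x ∈ X ⊔ T := by
      intro x hx
      have h1 := hf'.mem_imgS_of_mem hx
      rw [hf'.imgS_sup] at h1
      have h2 : imgS (imgS P (invOn T φ)) f' ⊔ imgS X f' ≤ X ⊔ T := by
        refine sup_le ?_ ?_
        · intro z hz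
          obtain ⟨x', hx', rfl⟩ := (hf'.restrict le_sup_left).mem_imgS.1 hz
          rw [hf'χ x' hx']
          exact Subgroup.mem_sup_right (hχ.mem hx')
        · intro z hz
          obtain ⟨x', hx', rfl⟩ := (hf'.restrict le_sup_right).mem_imgS.1 hz
          rw [hf'X x' hx']
          exact Subgroup.mem_sup_left hx'
      exact h2 h1
    have hψ' : Mor F (P ⊔ imgS X φ) (φ ∘ (f' ∘ invOn (imgS P (invOn T φ) ⊔ X) φ)) := by
      rw [← himgsup]
      exact (hφPX.inv.comp hf' (fun x hx => hφPX.invOn_mem hx)).comp hφ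
        (fun x hx => hf'maps _ (hφPX.invOn_mem hx))
    refine ⟨_, hψ', fun x hx => ?_, fun y hy => ?_⟩
    · have hx' : invOn T φ x ∈ imgS P (invOn T φ) := hinvP.mem_imgS_of_mem hx
      have h1 : invOn (imgS P (invOn T φ) ⊔ X) φ x = invOn T φ x := by
        conv_lhs => rw [← happT x (hPT hx)]
        exact invOn_apply hφPX.injOn (Subgroup.mem_sup_left hx')
      show φ (f' (invOn (imgS P (invOn T φ) ⊔ X) φ x)) = ψ x
      rw [h1, hf'χ _ hx', hχeq x hx, happT _ (hψ.mem hx)]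
    · obtain ⟨x, hx, rfl⟩ := hφX.mem_imgS.1 hy
      show φ (f' (invOn (imgS P (invOn T φ) ⊔ X) φ (φ x))) = φ x
      rw [invOn_apply hφPX.injOn (Subgroup.mem_sup_right hx), hf'X x hx]

end Cfsg.Agent.H86
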