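import Mathlib
import Cfsg.Prelude.Def_FusionSystem
import Cfsg.Agent.H86.NCClosedA

set_option autoImplicit false
set_option maxHeartbeats 800000

/-!
The Alperin step for the strong closure of the centralizer of a normal subsystem: preliminary
lemmas on automorphism groups.
-/

namespace Cfsg.Agent.H86

open Cfsg Cfsg.FusionSystem Cfsg.Agent.H87

variable {Ω : Type*} [Group Ω] {S T : Subgroup Ω}

lemma nc_autFun_inv_apply {P : Subgroup Ω} (α : MulAut P) {x : Ω} (hx : x ∈ P) :
    autFun P α⁻¹ (autFun P α x) = x := by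
  rw [← autFun_mul _ _ hx, inv_mul_cancel, autFun_one hx]

lemma nc_autFun_apply_inv {P : Subgroup Ω} (α : MulAut P) {x : Ω} (hx : x ∈ P) :
    autFun P α (autFun P α⁻¹ x) = x := by
  rw [← autFun_mul _ _ hx, mul_inv_cancel, autFun_one hx]

lemma nc_autFun_conj {P : Subgroup Ω} (α σ : MulAut P) {x : Ω} (hx : x ∈ P) :
    autFun P (α * σ * α⁻¹) x = autFun P α (autFun P σ (autFun P α⁻¹ x)) := by
  rw [autFun_mul _ _ hx, autFun_mul _ _ (autFun_mem _ hx)]

lemma nc_autFun_conj_apply {P : Subgroup Ω} (α σ : MulAut P) {x : Ω} (hx : x ∈ P) :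
    autFun P (α * σ * α⁻¹) (autFun P α x) = autFun P α (autFun P σ x) := by
  rw [nc_autFun_conj _ _ (autFun_mem _ hx), nc_autFun_inv_apply _ hx]

/-- The automorphisms in `F` of `R` centralizing an invariant chain `1 ≤ V ≤ R` lie in every Sylow
`p`-subgroup of the automorphism group. -/
theorem chain_mem_sylow [Finite S] {p : ℕ} [Fact p.Prime] (hS : IsPGroup p S) {F : FusionSystem S}
    {R V : Subgroup Ω} (hRS : R ≤ S) (hVR : V ≤ R)
    (hV : ∀ κ ∈ F.autGroup R, ∀ x ∈ V, autFun R κ x ∈ V)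
    (R₀ : Sylow p (F.autGroup R)) {β : MulAut R} (hβ : β ∈ F.autGroup R)
    (hβV : ∀ x ∈ V, autFun R β x = x) (hβR : ∀ x ∈ R, x⁻¹ * autFun R β x ∈ V) :
    (⟨β, hβ⟩ : F.autGroup R) ∈ (R₀ : Subgroup (F.autGroup R)) := by
  haveI : Finite R := finite_of_le hRS
  have hM : ∀ κ : F.autGroup R, Mor F R (autFun R (κ : MulAut R)) :=
    fun κ => (mem_autGroup_iff hRS _).1 κ.2
  let K : Subgroup (F.autGroup R) :=
    { carrier := {α | (∀ x ∈ V, autFun R (α : MulAut R) x = x) ∧
        ∀ x ∈ R, x⁻¹ * autFun R (α : MulAut R) x ∈ V}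
      one_mem' := ⟨fun x hx => autFun_one (hVR hx), fun x hx => by
        show x⁻¹ * autFun R (1 : MulAut R) x ∈ V
        rw [autFun_one hx, inv_mul_cancel]
        exact V.one_mem⟩
      mul_mem' := by
        rintro α β ⟨hαV, hαR⟩ ⟨hβV, hβR⟩
        refine ⟨fun x hx => ?_, fun x hx => ?_⟩
        · show autFun R ((α : MulAut R) * (β : MulAut R)) x = x
          rw [autFun_mul _ _ (hVR hx), hβV x hx, hαV x hx]
        · show x⁻¹ * autFun R ((α : MulAut R) * (β : MulAut R)) x ∈ V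
          rw [autFun_mul _ _ hx]
          have hw := hβR x hx
          have e : autFun R (β : MulAut R) x = x * (x⁻¹ * autFun R (β : MulAut R) x) := by group
          rw [e, (hM α).map_mul hx (hVR hw), hαV _ hw, ← mul_assoc]
          exact V.mul_mem (hαR x hx) hw
      inv_mem' := by
        rintro α ⟨hαV, hαR⟩
        refine ⟨fun x hx => ?_, fun x hx => ?_⟩
        · show autFun R (α : MulAut R)⁻¹ x = x
          conv_lhs => rw [← hαV x hx]
          exact nc_autFun_inv_apply _ (hVR hx)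
        · show x⁻¹ * autFun R (α : MulAut R)⁻¹ x ∈ V
          have hy : autFun R (α : MulAut R)⁻¹ x ∈ R := autFun_mem _ hx
          have h1 := hαR _ hy
          rw [nc_autFun_apply_inv _ hx] at h1
          have e : x⁻¹ * autFun R (α : MulAut R)⁻¹ x =
              ((autFun R (α : MulAut R)⁻¹ x)⁻¹ * x)⁻¹ := by group
          rw [e]
          exact V.inv_mem h1 }
  have hKn : K.Normal := by
    refine ⟨fun α hα κ => ?_⟩
    obtain ⟨hαV, hαR⟩ := hα
    have hκinvV : ∀ x ∈ V, autFun R (κ : MulAut R)⁻¹ x ∈ V := fun x hx => hV _ (κ⁻¹).2 x hx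
    refine ⟨fun x hx => ?_, fun x hx => ?_⟩
    · show autFun R ((κ : MulAut R) * (α : MulAut R) * (κ : MulAut R)⁻¹) x = x
      rw [nc_autFun_conj _ _ (hVR hx), hαV _ (hκinvV x hx)]
      exact nc_autFun_apply_inv _ (hVR hx)
    · show x⁻¹ * autFun R ((κ : MulAut R) * (α : MulAut R) * (κ : MulAut R)⁻¹) x ∈ V
      have hy : autFun R (κ : MulAut R)⁻¹ x ∈ R := autFun_mem _ hx
      rw [nc_autFun_conj _ _ hx]
      have hw := hαR _ hy
      have e : autFun R (α : MulAut R) (autFun R (κ : MulAut R)⁻¹ x) =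
          autFun R (κ : MulAut R)⁻¹ x * ((autFun R (κ : MulAut R)⁻¹ x)⁻¹ *
            autFun R (α : MulAut R) (autFun R (κ : MulAut R)⁻¹ x)) := by group
      rw [e, (hM κ).map_mul hy (hVR hw), nc_autFun_apply_inv _ hx, ← mul_assoc, inv_mul_cancel, one_mul]
      exact hV _ κ.2 _ hw
  have hVS : V ≤ S := hVR.trans hRS
  haveI : Finite V := finite_of_le hVS
  obtain ⟨k, hk⟩ := IsPGroup.iff_card.1 (hS.to_le hVS)
  have hKp : IsPGroup p K := by
    intro α
    refine ⟨k, ?_⟩
    obtain ⟨hαV, hαR⟩ := α.2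
    have key : ∀ (j : ℕ), ∀ x ∈ R, autFun R (((α : F.autGroup R) : MulAut R) ^ j) x =
        x * (x⁻¹ * autFun R ((α : F.autGroup R) : MulAut R) x) ^ j := by
      intro j
      induction j with
      | zero =>
        intro x hx
        rw [pow_zero, pow_zero, mul_one, autFun_one hx]
      | succ j ih =>
        intro x hx
        have hw := hαR x hx
        rw [pow_succ', autFun_mul _ _ hx, ih x hx, (hM α.1).map_mul hx (hVR (V.pow_mem hw j)),
          hαV _ (V.pow_mem hw j), pow_succ', ← mul_assoc, mul_inv_cancel_left]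
    apply Subtype.ext
    apply Subtype.ext
    show ((α : F.autGroup R) : MulAut R) ^ p ^ k = 1
    apply MulEquiv.ext
    intro y
    apply Subtype.ext
    rw [← autFun_apply, key _ y y.2]
    have hw := hαR y y.2
    have h1 : (⟨_, hw⟩ : V) ^ Nat.card V = 1 := pow_card_eq_one'
    rw [hk] at h1
    have h2 := congrArg Subtype.val h1
    simp only [Subgroup.coe_pow, Subgroup.coe_one] at h2
    rw [h2, mul_one]
    rfl
  have hle := le_sylow_of_normal_isPGroup R₀ K hKn hKp
  exact hle ⟨hβV, hβR⟩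

/-- A map onto a receptive subgroup whose extender is larger lies in every subsystem containing
the maps on larger subgroups. -/
lemma mor_of_ext_mem [Finite S] {F : FusionSystem S} (E' : FusionSystem S) {R : Subgroup Ω}
    (hRr : F.IsReceptive R)
    (IH : ∀ (Q : Subgroup Ω) (g : Ω → Ω), Mor F Q g → Nat.card R < Nat.card Q → Mor E' Q g)
    {f : Ω → Ω} (hf : Mor F R f) (himg : imgS R f = R) {s : Ω} (hs : s ∈ extSub S R f) (hsR : s ∉ R) :
    Mor E' R f := by
  obtain ⟨f', hf', hf'f⟩ := receptive_extend' hRr hf himg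
  have hle : R ≤ extSub S R f := le_extSub hf
  have hlt : R < extSub S R f := lt_of_le_of_ne hle (fun h => hsR (by rw [h]; exact hs))
  haveI : Finite (extSub S R f) := finite_of_le (extSub_le hf)
  have h1 := IH _ _ hf' (card_lt_card_of_lt hlt)
  exact (h1.restrict hle).congr hf'f

/-- A map of `F` from `R` into `R` preserving `C` lies in the subsystem of `C`-preserving maps. -/
lemma mor_presSys_of_maps [Finite S] {F : FusionSystem S} {C : Subgroup Ω}
    {hC : ∀ s ∈ S, ∀ x : Ω, x ∈ C ↔ s * x * s⁻¹ ∈ C} {R : Subgroup Ω} {f : Ω → Ω} (hf : Mor F R f)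
    (hfR : ∀ x ∈ R, f x ∈ R) (hfC : ∀ x ∈ R, x ∈ C → f x ∈ C) : Mor (presSys F C hC) R f := by
  rw [mor_presSys_iff]
  refine ⟨hf, fun x hx => ⟨hfC x hx, fun h => ?_⟩⟩
  haveI : Finite R := finite_of_le hf.le
  haveI : Finite (R ⊓ C : Subgroup Ω) := finite_of_le (inf_le_left.trans hf.le)
  have hfA : Mor F (R ⊓ C) f := hf.restrict inf_le_left
  have himg : imgS (R ⊓ C) f = R ⊓ C :=
    imgS_eq_of_maps hfA (fun y hy => ⟨hfR y hy.1, hfC y hy.1 hy.2⟩)
  have h1 : f x ∈ imgS (R ⊓ C) f := by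
    rw [himg]
    exact ⟨hfR x hx, h⟩
  obtain ⟨a, ha, hax⟩ := hfA.mem_imgS.1 h1
  have := hf.injOn ha.1 hx hax
  rw [← this]
  exact ha.2

end Cfsg.Agent.H86
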