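import Mathlib
import Cfsg.Prelude.Def_FusionSystem
import Cfsg.Agent.H86.NCClosedB

set_option autoImplicit false
set_option maxHeartbeats 1600000

/-!
The Alperin step for the strong closure of the centralizer of a normal subsystem: automorphisms of
order prime to `p` fix `R ∩ C`, and `R ∩ T` is centric in the normal subsystem.
-/

namespace Cfsg.Agent.H86

open Cfsg Cfsg.FusionSystem Cfsg.Agent.H87

variable {Ω : Type*} [Group Ω] {S T : Subgroup Ω}

/-- An automorphism of `R` of order prime to `p` which is trivial on `R/V`, and restricts to an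
automorphism in `E` of the `E`-centric subgroup `V`, fixes `R ∩ C` pointwise. -/
theorem fix_of_coprime_cz [Finite S] {p : ℕ} [Fact p.Prime] (hS : IsPGroup p S)
    {F : FusionSystem S} {E : FusionSystem T} (D : NormalData p F E)
    {C : Subgroup Ω} (hCC : C ≤ centralizerIn S T) (hCz : Cz F E C)
    {R V : Subgroup Ω} (hVR : V ≤ R) (hVc : E.IsCentric V) {f : Ω → Ω} (hf : Mor F R f)
    (hfE : Mor E V f) (hfV : ∀ x ∈ V, f x ∈ V) (hfRV : ∀ x ∈ R, x⁻¹ * f x ∈ V)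
    {n : ℕ} (hn : ¬ p ∣ n) (hfn : ∀ x ∈ R, f^[n] x = x) :
    ∀ a ∈ R, a ∈ C → f a = a := by
  have hTS : T ≤ S := D.le
  have hRS : R ≤ S := hf.le
  have hVT : V ≤ T := hVc.1
  have hVS : V ≤ S := hVT.trans hTS
  haveI : Finite V := finite_of_le hVS
  have hfVF : Mor F V f := D.morF hfE
  have himgV : imgS V f = V := imgS_eq_of_maps hfVF hfV
  obtain ⟨b, γ₀, hγ₀Q, hγ₀f, hfoc⟩ := exists_pow_focFix hS D hVc hfE hfV
  obtain ⟨f', hf', hf'f, hf'C⟩ := hCz V f hfE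
  have hAR : R ⊓ C ≤ R := inf_le_left
  have hAC : R ⊓ C ≤ C := inf_le_right
  have hf'A : Mor F (V ⊔ (R ⊓ C)) f' := hf'.restrict (sup_le_sup le_rfl hAC)
  have h1 : imgS V f' = V := by
    rw [(hf'A.restrict le_sup_left).imgS_congr hf'f]
    exact himgV
  have h2 : imgS (R ⊓ C) f' = R ⊓ C := by
    rw [(hf'A.restrict le_sup_right).imgS_congr (g := fun x => x) (fun x hx => hf'C x (hAC hx)),
      Mor.imgS_id]
  have himg' : imgS (V ⊔ (R ⊓ C)) f' = V ⊔ (R ⊓ C) := by rw [hf'A.imgS_sup, h1, h2]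
  have hfVA : Mor F (V ⊔ (R ⊓ C)) f := hf.restrict (sup_le hVR hAR)
  have hfmaps : ∀ x ∈ V ⊔ (R ⊓ C), f x ∈ V ⊔ (R ⊓ C) := by
    intro x hx
    have h3 := hfVA.mem_imgS_of_mem hx
    rw [hfVA.imgS_sup, himgV] at h3
    refine (sup_le le_sup_left ?_ : V ⊔ imgS (R ⊓ C) f ≤ V ⊔ (R ⊓ C)) h3
    intro y hy
    obtain ⟨a, ha, rfl⟩ := (hfVA.restrict le_sup_right).mem_imgS.1 hy
    have e : f a = a * (a⁻¹ * f a) := by group
    rw [e]
    exact Subgroup.mul_mem _ (Subgroup.mem_sup_right ha) (Subgroup.mem_sup_left (hfRV a ha.1))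
  have hinv : Mor F (V ⊔ (R ⊓ C)) (invOn (V ⊔ (R ⊓ C)) f') := by
    have := hf'A.inv
    rwa [himg'] at this
  have hκ : Mor F (V ⊔ (R ⊓ C)) (invOn (V ⊔ (R ⊓ C)) f' ∘ f) := hfVA.comp hinv hfmaps
  have hκV : ∀ x ∈ V, (invOn (V ⊔ (R ⊓ C)) f' ∘ f) x = x := by
    intro x hx
    show invOn (V ⊔ (R ⊓ C)) f' (f x) = x
    rw [← hf'f x hx]
    exact invOn_apply hf'A.injOn (Subgroup.mem_sup_left hx)
  have hAV : R ⊓ C ≤ centralizerIn S V := by
    intro c hc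
    obtain ⟨hcS, hcC⟩ := mem_centralizerIn_iff.1 (hCC hc.2)
    exact mem_centralizerIn_iff.2 ⟨hcS, fun x hx => hcC x (hVT hx)⟩
  intro a haR haC
  have haA : a ∈ R ⊓ C := ⟨haR, haC⟩
  have hvV : a⁻¹ * f a ∈ V := hfRV a haR
  obtain ⟨v₀, hv₀, hv₀v⟩ := hfVF.mem_imgS.1 (by rw [himgV]; exact hvV : a⁻¹ * f a ∈ imgS V f)
  have hκa : (invOn (V ⊔ (R ⊓ C)) f' ∘ f) a = a * v₀ := by
    show invOn (V ⊔ (R ⊓ C)) f' (f a) = a * v₀
    have e : f a = f' (a * v₀) := by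
      rw [hf'A.map_mul (Subgroup.mem_sup_right haA) (Subgroup.mem_sup_left hv₀), hf'C a haC,
        hf'f v₀ hv₀, hv₀v]
      group
    rw [e]
    exact invOn_apply hf'A.injOn
      (Subgroup.mul_mem _ (Subgroup.mem_sup_right haA) (Subgroup.mem_sup_left hv₀))
  have h3 := hfoc (R ⊓ C) _ hAV (hκ.restrict (sup_le le_sup_right le_sup_left)) hκV a haA
  rw [hκa, inv_mul_cancel_left, hγ₀f v₀ hv₀] at h3
  have hp : p.Prime := Fact.out
  have hcop : Nat.Coprime (p ^ b) n :=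
    Nat.Coprime.pow_left b ((Nat.Prime.coprime_iff_not_dvd hp).2 hn)
  have hfv₀ : f v₀ = v₀ := by
    have h4 : Function.IsPeriodicPt f (p ^ b) v₀ := h3
    have h5 : Function.IsPeriodicPt f n v₀ := hfn v₀ (hVR hv₀)
    have h6 := h4.gcd h5
    rw [Nat.Coprime.gcd_eq_one hcop] at h6
    exact h6
  have hv : a⁻¹ * f a = v₀ := by rw [← hv₀v, hfv₀]
  have hfv : f (a⁻¹ * f a) = a⁻¹ * f a := by rw [hv, hfv₀]
  have hiter : ∀ j : ℕ, f^[j] a = a * (a⁻¹ * f a) ^ j := by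
    intro j
    induction j with
    | zero => rw [pow_zero, mul_one]; rfl
    | succ j ih =>
      rw [Function.iterate_succ_apply', ih, hf.map_mul haR (R.pow_mem (hVR hvV) j),
        mor_map_pow hf (hVR hvV) j, hfv, pow_succ', ← mul_assoc, mul_inv_cancel_left]
  have h7 := hfn a haR
  rw [hiter n] at h7
  have h8 : (a⁻¹ * f a) ^ n = 1 := by
    have := congrArg (fun z => a⁻¹ * z) h7
    simpa using this
  have h9 := eq_one_of_pow_coprime hS (hVS hvV) hn h8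
  have e : f a = a * (a⁻¹ * f a) := by group
  rw [e, h9, mul_one]

/-- If `R` is `F`-centric with `Aut_S(R)` a Sylow subgroup of `Aut_F(R)`, and the elements of `S`
centralizing the chain `1 ≤ R ∩ T ≤ R` lie in `R`, then `R ∩ T` is `E`-centric. -/
theorem inter_isCentric [Finite S] {p : ℕ} [Fact p.Prime] (hS : IsPGroup p S)
    {F : FusionSystem S} {E : FusionSystem T} (D : NormalData p F E) {R : Subgroup Ω}
    (hRc : F.IsCentric R) (R₀ : Sylow p (F.autGroup R))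
    (hR₀ : (R₀ : Subgroup (F.autGroup R)) = (autInducedBy S R).subgroupOf (F.autGroup R))
    (hD₂ : ∀ s ∈ S, s ∈ Subgroup.normalizer (R : Set Ω) → (∀ x ∈ R, x⁻¹ * (s * x * s⁻¹) ∈ R ⊓ T) →
      (∀ x ∈ R ⊓ T, s * x * s⁻¹ = x) → s ∈ R) :
    E.IsCentric (R ⊓ T) := by
  have hTS : T ≤ S := D.le
  have hRS : R ≤ S := hRc.1
  haveI : Finite T := finite_of_le hTS
  haveI : Finite R := finite_of_le hRS
  have hTp : IsPGroup p T := hS.to_le hTS
  have hVR : R ⊓ T ≤ R := inf_le_left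
  have hVT : R ⊓ T ≤ T := inf_le_right
  have hVS : R ⊓ T ≤ S := hVR.trans hRS
  have hTconj : ∀ s ∈ S, ∀ t ∈ T, s * t * s⁻¹ ∈ T :=
    fun s hs t ht => D.mapsT le_rfl (Mor.conj F hTS hs) t ht
  have hTconj' : ∀ s ∈ S, ∀ t ∈ T, s⁻¹ * t * s ∈ T := by
    intro s hs t ht
    have := hTconj s⁻¹ (S.inv_mem hs) t ht
    rwa [inv_inv] at this
  have hV : ∀ κ ∈ F.autGroup R, ∀ x ∈ R ⊓ T, autFun R κ x ∈ R ⊓ T := by
    intro κ hκ x hx
    exact ⟨autFun_mem κ hx.1, D.mapsT hVT (((mem_autGroup_iff hRS κ).1 hκ).restrict hVR) x hx⟩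
  obtain ⟨V₁, hconj, hV₁n⟩ := exists_fullyNormalized_conj F hVS
  obtain ⟨hV₁fc, hV₁fa⟩ := saturated_fullyNormalized hS D.satF hV₁n
  have hV₁rec := saturated_receptive_of_fullyCentralized hS D.satF hV₁fc
  obtain ⟨χ, hχ, hχN, hχimg⟩ := exists_normalizer_map hS hV₁fa hV₁rec hconj
  have hRN : R ≤ normalizerIn S (R ⊓ T) := by
    intro r hr
    rw [mem_normalizerIn_iff]
    refine ⟨hRS hr, mem_normalizer_of_forall_conj_mem (fun y hy => ?_) (fun y hy => ?_)⟩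
    · exact ⟨R.mul_mem (R.mul_mem hr hy.1) (R.inv_mem hr), hTconj r (hRS hr) y hy.2⟩
    · exact ⟨R.mul_mem (R.mul_mem (R.inv_mem hr) hy.1) hr, hTconj' r (hRS hr) y hy.2⟩
  have hχR : Mor F R χ := hχ.restrict hRN
  have hχV : Mor F (R ⊓ T) χ := hχR.restrict hVR
  have hV₁T : V₁ ≤ T := by
    rw [← hχimg]
    intro y hy
    obtain ⟨x, hx, rfl⟩ := hχV.mem_imgS.1 hy
    exact D.mapsT hVT hχV x hx
  have hR₁S : imgS R χ ≤ S := hχR.imgS_le
  have hV₁R₁ : V₁ ≤ imgS R χ := by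
    rw [← hχimg]
    exact hχR.imgS_mono hVR
  have hR₁V₁ : imgS R χ ⊓ T ≤ V₁ := by
    intro y hy
    obtain ⟨x, hx, rfl⟩ := hχR.mem_imgS.1 hy.1
    have h1 : invOn R χ (χ x) ∈ T := D.mapsT inf_le_right (hχR.inv.restrict inf_le_left) _ hy
    rw [invOn_apply hχR.injOn hx] at h1
    rw [← hχimg]
    exact hχV.mem_imgS_of_mem ⟨hx, h1⟩
  have hR₁c : centralizerIn S (imgS R χ) ≤ imgS R χ := hRc.2 _ (isConj_iff.2 ⟨χ, hχR, rfl⟩)
  have hclaim : ∀ c ∈ centralizerIn T V₁,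
      c ∈ Subgroup.normalizer ((imgS R χ : Subgroup Ω) : Set Ω) → c ∈ V₁ := by
    intro c hc hcN
    obtain ⟨hcT, hcC⟩ := mem_centralizerIn_iff.1 hc
    have hcS : c ∈ S := hTS hcT
    have hg1 : Mor F R ((fun y => c * y * c⁻¹) ∘ χ) :=
      hχR.comp (Mor.conj F hR₁S hcS) (fun x hx => hχR.mem_imgS_of_mem hx)
    have hmaps : ∀ x ∈ R, c * χ x * c⁻¹ ∈ imgS R χ :=
      fun x hx => conj_mem_of_mem_normalizer hcN (hχR.mem_imgS_of_mem hx)
    have hg : Mor F R (invOn R χ ∘ ((fun y => c * y * c⁻¹) ∘ χ)) := hg1.comp hχR.inv hmaps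
    have hgx : ∀ x, (invOn R χ ∘ ((fun y => c * y * c⁻¹) ∘ χ)) x = invOn R χ (c * χ x * c⁻¹) :=
      fun x => rfl
    generalize (invOn R χ ∘ ((fun y => c * y * c⁻¹) ∘ χ)) = g at hg hgx
    have hgR : ∀ x ∈ R, g x ∈ R := fun x hx => by
      rw [hgx]
      exact hχR.invOn_mem (hmaps x hx)
    have hχg : ∀ x ∈ R, χ (g x) = c * χ x * c⁻¹ := fun x hx => by
      rw [hgx]
      exact hχR.apply_invOn (hmaps x hx)
    have himg : imgS R g = R := imgS_eq_of_maps hg hgR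
    have hβ := mkAut_mem hg himg
    have hβV : ∀ x ∈ R ⊓ T, autFun R (mkAut hg himg) x = x := by
      intro x hx
      rw [autFun_mkAut hg himg hx.1, hgx]
      have h1 : χ x ∈ V₁ := by rw [← hχimg]; exact hχV.mem_imgS_of_mem hx
      have h2 : c * χ x * c⁻¹ = χ x := by
        rw [← hcC _ h1, mul_inv_cancel_right]
      rw [h2]
      exact invOn_apply hχR.injOn hx.1
    have hβR : ∀ x ∈ R, x⁻¹ * autFun R (mkAut hg himg) x ∈ R ⊓ T := by
      intro x hx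
      rw [autFun_mkAut hg himg hx]
      have hz : x⁻¹ * g x ∈ R := R.mul_mem (R.inv_mem hx) (hgR x hx)
      refine ⟨hz, ?_⟩
      have h1 : χ (x⁻¹ * g x) ∈ imgS R χ ⊓ T := by
        refine ⟨hχR.mem_imgS_of_mem hz, ?_⟩
        rw [hχR.map_mul (R.inv_mem hx) (hgR x hx), hχR.map_inv hx, hχg x hx]
        have e : (χ x)⁻¹ * (c * χ x * c⁻¹) = ((χ x)⁻¹ * c * χ x) * c⁻¹ := by group
        rw [e]
        exact T.mul_mem (hTconj' _ (hχR.mem hx) c hcT) (T.inv_mem hcT)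
      have h2 := hR₁V₁ h1
      rw [← hχimg] at h2
      obtain ⟨z', hz', hz'eq⟩ := hχV.mem_imgS.1 h2
      have := hχR.injOn hz'.1 hz hz'eq
      rw [← this]
      exact hz'.2
    have hmem := chain_mem_sylow hS hRS hVR hV R₀ hβ hβV hβR
    rw [hR₀, Subgroup.mem_subgroupOf] at hmem
    obtain ⟨s, hsS, Hs⟩ := (mem_autInducedBy_iff S R _).1 hmem
    have hsN : s ∈ Subgroup.normalizer (R : Set Ω) := mem_normalizer_of_induces Hs
    have Hs' : ∀ x ∈ R, g x = s * x * s⁻¹ := by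
      intro x hx
      rw [← Hs ⟨x, hx⟩]
      exact (mkAut_apply hg himg ⟨x, hx⟩).symm
    have hsR : s ∈ R := by
      refine hD₂ s hsS hsN (fun x hx => ?_) (fun x hx => ?_)
      · rw [← Hs' x hx, ← autFun_mkAut hg himg hx]
        exact hβR x hx
      · rw [← Hs' x hx.1, ← autFun_mkAut hg himg hx.1]
        exact hβV x hx
    have hχs : χ s ∈ imgS R χ := hχR.mem_imgS_of_mem hsR
    have hcent : (χ s)⁻¹ * c ∈ centralizerIn S (imgS R χ) := by
      rw [mem_centralizerIn_iff]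
      refine ⟨S.mul_mem (S.inv_mem (hχR.mem hsR)) hcS, fun y hy => ?_⟩
      obtain ⟨x, hx, rfl⟩ := hχR.mem_imgS.1 hy
      have h1 : c * χ x * c⁻¹ = χ s * χ x * (χ s)⁻¹ := by
        rw [← hχg x hx, Hs' x hx, hχR.map_mul (R.mul_mem hsR hx) (R.inv_mem hsR),
          hχR.map_mul hsR hx, hχR.map_inv hsR]
      have h2 : χ x * ((χ s)⁻¹ * c) = (χ s)⁻¹ * (χ s * χ x * (χ s)⁻¹) * c := by group
      rw [h2, ← h1]
      group
    have h3 := hR₁c hcent
    have h4 : c ∈ imgS R χ := by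
      have := Subgroup.mul_mem _ hχs h3
      rwa [mul_inv_cancel_left] at this
    exact hR₁V₁ ⟨h4, hcT⟩
  have hK : centralizerIn T V₁ ≤ V₁ := by
    have hKS : centralizerIn T V₁ ≤ S := fun k hk => hTS hk.1
    have hKR₁ : centralizerIn T V₁ ≤ imgS R χ := by
      by_contra hcon
      have hnorm : ∀ r ∈ imgS R χ, ∀ k ∈ centralizerIn T V₁, r * k * r⁻¹ ∈ centralizerIn T V₁ := by
        intro r hr k hk
        obtain ⟨x, hx, rfl⟩ := hχR.mem_imgS.1 hr
        have hrS : χ x ∈ S := hχR.mem hx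
        have hrN : χ x ∈ Subgroup.normalizer ((V₁ : Subgroup Ω) : Set Ω) := by
          have := hχ.mem_normalizer_imgS (le_normalizerIn hVS)
            (fun g hg => (mem_normalizerIn_iff.1 hg).2) (hRN hx)
          rwa [hχimg] at this
        have hkS : k ∈ centralizerIn S V₁ := ⟨hTS hk.1, hk.2⟩
        have h1 := conj_mem_centralizerIn hrS
          (fun y hy => conj_inv_mem_of_mem_normalizer hrN hy) k hkS
        exact ⟨hTconj _ hrS k hk.1, h1.2⟩
      obtain ⟨k, hk, hkR, hkN⟩ := exists_normalizing_not_mem hS hR₁S hKS hnorm hcon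
      exact hkR (hV₁R₁ (hclaim k hk hkN))
    intro c hc
    exact hR₁V₁ ⟨hKR₁ hc, hc.1⟩
  have hV₁nE : E.IsFullyNormalized V₁ := D.fullyNormalized_E hS hV₁T hV₁n
  have hV₁fcE := (saturated_fullyNormalized hTp D.satE hV₁nE).1
  have hV₁c : E.IsCentric V₁ := isCentric_of_fullyCentralized hV₁fcE hK
  exact D.isCentric_of_F_conj hV₁c (isConj_symm hconj)

end Cfsg.Agent.H86
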