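import Mathlib
import Cfsg.Prelude.Def_FusionSystem
import Cfsg.Agent.H86.NCClosedC
import Cfsg.Agent.H88.Puig

set_option autoImplicit false
set_option maxHeartbeats 1600000

/-!
The centralizer `C_S(E)` of a normal subsystem `E` of a saturated fusion system `F` is strongly
closed in `F`.
-/

namespace Cfsg.Agent.H86

open Cfsg Cfsg.FusionSystem Cfsg.Agent.H87

variable {Ω : Type*} [Group Ω] {S T : Subgroup Ω}

/-- The Alperin step: at a fully automized, receptive subgroup `R`, every automorphism in `F`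
preserves `C`, assuming this for the maps on larger subgroups. -/
theorem aut_le_presSys [Finite S] {p : ℕ} [Fact p.Prime] (hS : IsPGroup p S)
    {F : FusionSystem S} {E : FusionSystem T} (D : NormalData p F E) {C : Subgroup Ω}
    (hCC : C ≤ centralizerIn S T) (hCz : Cz F E C)
    (hmax : ∀ Y : Subgroup Ω, Y ≤ centralizerIn S T → Cz F E Y → Y ≤ C)
    (hC : ∀ s ∈ S, ∀ x : Ω, x ∈ C ↔ s * x * s⁻¹ ∈ C)
    {R : Subgroup Ω} (hRa : F.IsFullyAutomized p R) (hRr : F.IsReceptive R)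
    (IH : ∀ (Q : Subgroup Ω) (g : Ω → Ω), Mor F Q g → Nat.card R < Nat.card Q →
      Mor (presSys F C hC) Q g) :
    F.autGroup R ≤ (presSys F C hC).autGroup R := by
  have hTS : T ≤ S := D.le
  have hRS : R ≤ S := hRa.1
  haveI : Finite T := finite_of_le hTS
  haveI : Finite R := finite_of_le hRS
  have hVR : R ⊓ T ≤ R := inf_le_left
  have hVT : R ⊓ T ≤ T := inf_le_right
  have hVS : R ⊓ T ≤ S := hVR.trans hRS
  haveI : Finite (R ⊓ T : Subgroup Ω) := finite_of_le hVS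
  have hM : ∀ κ ∈ F.autGroup R, Mor F R (autFun R κ) := fun κ hκ => (mem_autGroup_iff hRS κ).1 hκ
  have hTconj : ∀ s ∈ S, ∀ t ∈ T, s * t * s⁻¹ ∈ T :=
    fun s hs t ht => D.mapsT le_rfl (Mor.conj F hTS hs) t ht
  have hTconj' : ∀ s ∈ S, ∀ t ∈ T, s⁻¹ * t * s ∈ T := by
    intro s hs t ht
    have := hTconj s⁻¹ (S.inv_mem hs) t ht
    rwa [inv_inv] at this
  have hV : ∀ κ ∈ F.autGroup R, ∀ x ∈ R ⊓ T, autFun R κ x ∈ R ⊓ T := by
    intro κ hκ x hx
    exact ⟨autFun_mem κ hx.1, D.mapsT hVT ((hM κ hκ).restrict hVR) x hx⟩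
  have key0 : ∀ β ∈ F.autGroup R, (∀ x ∈ R, x ∈ C → autFun R β x ∈ C) →
      β ∈ (presSys F C hC).autGroup R := by
    intro β hβ h
    rw [mem_autGroup_iff hRS]
    exact mor_presSys_of_maps (hM β hβ) (fun x hx => autFun_mem β hx) h
  have key1 : ∀ β ∈ F.autGroup R, ∀ s ∈ extSub S R (autFun R β), s ∉ R →
      β ∈ (presSys F C hC).autGroup R := by
    intro β hβ s hs hsR
    rw [mem_autGroup_iff hRS]
    exact mor_of_ext_mem _ hRr IH (hM β hβ) (imgS_autFun (hM β hβ)) hs hsR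
  intro α hα
  have hf : Mor F R (autFun R α) := hM α hα
  by_cases hCR : centralizerIn S R ≤ R
  swap
  · obtain ⟨c, hc, hcR⟩ := SetLike.not_le_iff_exists.1 hCR
    exact key1 α hα c (centralizerIn_le_extSub hf hc) hcR
  by_cases hTR : T ≤ R
  · apply key0 α hα
    intro x hx hxC
    have hφ : Mor F ((R ⊓ C) ⊔ T) (autFun R α) := hf.restrict (sup_le inf_le_left hTR)
    obtain ⟨h1, h2⟩ := cz_img D (inf_le_right.trans hCC) (cz_mono hCz inf_le_right) hφ
    exact hmax _ h1 h2 ((hf.restrict inf_le_left).mem_imgS_of_mem ⟨hx, hxC⟩)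
  obtain ⟨R₀, hR₀⟩ := hRa.2
  by_cases hD₂ : ∀ s ∈ S, s ∈ Subgroup.normalizer (R : Set Ω) →
      (∀ x ∈ R, x⁻¹ * (s * x * s⁻¹) ∈ R ⊓ T) → (∀ x ∈ R ⊓ T, s * x * s⁻¹ = x) → s ∈ R
  swap
  · push Not at hD₂
    obtain ⟨s, hsS, hsN, hsR, hsV, hsnR⟩ := hD₂
    apply key1 α hα s _ hsnR
    rw [mem_extSub_iff hf]
    refine ⟨hsS, hsN, ?_⟩
    obtain ⟨σ, Hσ⟩ := exists_conjAut hsN
    have hσx : ∀ x ∈ R, autFun R σ x = s * x * s⁻¹ := fun x hx => by
      rw [autFun_of_mem σ hx]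
      exact Hσ ⟨x, hx⟩
    have hσF : σ ∈ F.autGroup R :=
      autInducedBy_le_autGroup F hRS ((mem_autInducedBy_iff S R σ).2 ⟨s, hsS, Hσ⟩)
    have hαinv : α⁻¹ ∈ F.autGroup R := Subgroup.inv_mem _ hα
    have hβ : α * σ * α⁻¹ ∈ F.autGroup R := Subgroup.mul_mem _ (Subgroup.mul_mem _ hα hσF) hαinv
    have hβV : ∀ x ∈ R ⊓ T, autFun R (α * σ * α⁻¹) x = x := by
      intro x hx
      have hy := hV _ hαinv x hx
      rw [nc_autFun_conj _ _ hx.1, hσx _ hy.1, hsV _ hy]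
      exact nc_autFun_apply_inv _ hx.1
    have hβR : ∀ x ∈ R, x⁻¹ * autFun R (α * σ * α⁻¹) x ∈ R ⊓ T := by
      intro x hx
      have hy : autFun R α⁻¹ x ∈ R := autFun_mem _ hx
      have hw := hsR _ hy
      rw [nc_autFun_conj _ _ hx, hσx _ hy]
      have e : s * autFun R α⁻¹ x * s⁻¹ =
          autFun R α⁻¹ x * ((autFun R α⁻¹ x)⁻¹ * (s * autFun R α⁻¹ x * s⁻¹)) := by group
      rw [e, hf.map_mul hy hw.1, nc_autFun_apply_inv _ hx, inv_mul_cancel_left]
      exact hV α hα _ hw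
    have hmem := chain_mem_sylow hS hRS hVR hV R₀ hβ hβV hβR
    rw [hR₀, Subgroup.mem_subgroupOf] at hmem
    obtain ⟨h, hhS, Hh⟩ := (mem_autInducedBy_iff S R _).1 hmem
    refine ⟨h, hhS, fun x hx => ?_⟩
    have h1 := Hh ⟨autFun R α x, autFun_mem α hx⟩
    rw [← hσx x hx, ← nc_autFun_conj_apply α σ hx, autFun_of_mem _ (autFun_mem α hx)]
    exact h1
  have hRc : F.IsCentric R := centric_of_receptive hRr hCR
  have hVc : E.IsCentric (R ⊓ T) := inter_isCentric hS D hRc R₀ hR₀ hD₂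
  let N : Subgroup (F.autGroup R) :=
    { carrier := {β | (∀ x ∈ R, x⁻¹ * autFun R (β : MulAut R) x ∈ R ⊓ T) ∧
        Mor E (R ⊓ T) (autFun R (β : MulAut R))}
      one_mem' := ⟨fun x hx => by
        show x⁻¹ * autFun R (1 : MulAut R) x ∈ R ⊓ T
        rw [autFun_one hx, inv_mul_cancel]
        exact Subgroup.one_mem _,
        (Mor.id E hVT).congr (fun x hx => (autFun_one (hVR hx)).symm)⟩
      mul_mem' := by
        rintro β β' ⟨hβR, hβE⟩ ⟨hβ'R, hβ'E⟩
        refine ⟨fun x hx => ?_, ?_⟩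
        · show x⁻¹ * autFun R ((β : MulAut R) * (β' : MulAut R)) x ∈ R ⊓ T
          rw [autFun_mul _ _ hx]
          have hw := hβ'R x hx
          have e : autFun R (β' : MulAut R) x = x * (x⁻¹ * autFun R (β' : MulAut R) x) := by group
          rw [e, (hM _ β.2).map_mul hx hw.1, ← mul_assoc]
          exact Subgroup.mul_mem _ (hβR x hx) (hV _ β.2 _ hw)
        · refine (hβ'E.comp hβE (fun x hx => hV _ β'.2 x hx)).congr (fun x hx => ?_)
          exact (autFun_mul _ _ (hVR hx)).symm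
      inv_mem' := by
        rintro β ⟨hβR, hβE⟩
        refine ⟨fun x hx => ?_, ?_⟩
        · show x⁻¹ * autFun R (β : MulAut R)⁻¹ x ∈ R ⊓ T
          have hy : autFun R (β : MulAut R)⁻¹ x ∈ R := autFun_mem _ hx
          have h1 := hβR _ hy
          rw [nc_autFun_apply_inv _ hx] at h1
          have e : x⁻¹ * autFun R (β : MulAut R)⁻¹ x =
              ((autFun R (β : MulAut R)⁻¹ x)⁻¹ * x)⁻¹ := by group
          rw [e]
          exact Subgroup.inv_mem _ h1
        · have himg : imgS (R ⊓ T) (autFun R (β : MulAut R)) = R ⊓ T :=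
            imgS_eq_of_maps hβE (fun x hx => hV _ β.2 x hx)
          have h1 := hβE.inv
          rw [himg] at h1
          refine h1.congr (fun x hx => ?_)
          show invOn (R ⊓ T) (autFun R (β : MulAut R)) x = autFun R (β : MulAut R)⁻¹ x
          have hy : autFun R (β : MulAut R)⁻¹ x ∈ R ⊓ T := hV _ (β⁻¹).2 x hx
          have h2 : autFun R (β : MulAut R) (autFun R (β : MulAut R)⁻¹ x) = x :=
            nc_autFun_apply_inv _ hx.1
          conv_lhs => rw [← h2]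
          exact invOn_apply hβE.injOn hy }
  have hNn : N.Normal := by
    refine ⟨fun β hβ κ => ?_⟩
    obtain ⟨hβR, hβE⟩ := hβ
    have hκM := hM _ κ.2
    refine ⟨fun x hx => ?_, ?_⟩
    · show x⁻¹ * autFun R ((κ : MulAut R) * (β : MulAut R) * (κ : MulAut R)⁻¹) x ∈ R ⊓ T
      have hy : autFun R (κ : MulAut R)⁻¹ x ∈ R := autFun_mem _ hx
      have hw := hβR _ hy
      rw [nc_autFun_conj _ _ hx]
      have e : autFun R (β : MulAut R) (autFun R (κ : MulAut R)⁻¹ x) =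
          autFun R (κ : MulAut R)⁻¹ x * ((autFun R (κ : MulAut R)⁻¹ x)⁻¹ *
            autFun R (β : MulAut R) (autFun R (κ : MulAut R)⁻¹ x)) := by group
      rw [e, hκM.map_mul hy hw.1, nc_autFun_apply_inv _ hx, inv_mul_cancel_left]
      exact hV _ κ.2 _ hw
    · have hκV : Mor F (R ⊓ T) (autFun R (κ : MulAut R)) := hκM.restrict hVR
      have himgκ : imgS (R ⊓ T) (autFun R (κ : MulAut R)) = R ⊓ T :=
        imgS_eq_of_maps hκV (fun x hx => hV _ κ.2 x hx)
      obtain ⟨χ, hχ, hχeq⟩ := D.si (R ⊓ T) (R ⊓ T) _ _ le_rfl hVT hβE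
        (fun x hx => hV _ β.2 x hx) hκV
      rw [himgκ] at hχ
      refine hχ.congr (fun x hx => ?_)
      show χ x = autFun R ((κ : MulAut R) * (β : MulAut R) * (κ : MulAut R)⁻¹) x
      have hy : autFun R (κ : MulAut R)⁻¹ x ∈ R ⊓ T := hV _ (κ⁻¹).2 x hx
      have h2 : autFun R (κ : MulAut R) (autFun R (κ : MulAut R)⁻¹ x) = x :=
        nc_autFun_apply_inv _ hx.1
      rw [nc_autFun_conj _ _ hx.1, ← hχeq _ hy, h2]
  have hR₀G : ∀ γ : F.autGroup R, γ ∈ (R₀ : Subgroup (F.autGroup R)) →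
      (γ : MulAut R) ∈ (presSys F C hC).autGroup R := by
    intro γ hγ
    rw [hR₀, Subgroup.mem_subgroupOf] at hγ
    obtain ⟨s, hs, Hs⟩ := (mem_autInducedBy_iff S R _).1 hγ
    refine key0 _ γ.2 (fun x hx hxC => ?_)
    rw [autFun_of_mem _ hx, Hs ⟨x, hx⟩]
    exact (hC s hs x).1 hxC
  haveI := hNn
  obtain ⟨Q₁, hQ₁⟩ := exists_sylow_eq_subgroupOf N R₀
  have hNG : ∀ β : F.autGroup R, β ∈ N → (β : MulAut R) ∈ (presSys F C hC).autGroup R := by
    have htop : (((presSys F C hC).autGroup R).subgroupOf (F.autGroup R)).subgroupOf N = ⊤ := by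
      refine eq_top_of_sylow_le_of_pow _ Q₁ ?_ ?_
      · intro β hβ
        rw [hQ₁, Subgroup.mem_subgroupOf] at hβ
        rw [Subgroup.mem_subgroupOf, Subgroup.mem_subgroupOf]
        exact hR₀G _ hβ
      · intro β
        have hord : orderOf β ≠ 0 := (orderOf_pos β).ne'
        obtain ⟨b, n', hn', hbn⟩ :=
          Nat.exists_eq_pow_mul_and_not_dvd hord p (Fact.out : p.Prime).ne_one
        refine ⟨b, ?_⟩
        rw [Subgroup.mem_subgroupOf, Subgroup.mem_subgroupOf]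
        obtain ⟨hγR, hγE⟩ := (β ^ p ^ b).2
        have hpow : (((β ^ p ^ b : N) : F.autGroup R) : MulAut R) ^ n' = 1 := by
          rw [← Subgroup.coe_pow, ← Subgroup.coe_pow, ← pow_mul, ← hbn, pow_orderOf_eq_one,
            Subgroup.coe_one, Subgroup.coe_one]
        have hγF := ((β ^ p ^ b : N) : F.autGroup R).2
        have hiter : ∀ x ∈ R, (autFun R (((β ^ p ^ b : N) : F.autGroup R) : MulAut R))^[n'] x = x := by
          intro x hx
          rw [← autFun_pow _ _ hx, hpow, autFun_one hx]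
        refine key0 _ hγF (fun x hx hxC => ?_)
        have hfix := fix_of_coprime_cz hS D hCC hCz hVR hVc (hM _ hγF) hγE
          (fun x hx => hV _ hγF x hx) hγR hn' hiter x hx hxC
        rw [hfix]
        exact hxC
    intro β hβ
    have h1 : (⟨β, hβ⟩ : N) ∈
        (((presSys F C hC).autGroup R).subgroupOf (F.autGroup R)).subgroupOf N := by
      rw [htop]
      trivial
    rw [Subgroup.mem_subgroupOf, Subgroup.mem_subgroupOf] at h1
    exact h1
  have hfr := Sylow.normalizer_sup_eq_top Q₁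
  rw [hQ₁, Subgroup.subgroupOf_map_subtype] at hfr
  obtain ⟨t, htT, htR, htN⟩ := exists_normalizing_not_mem hS hRS hTS
    (fun r hr k hk => hTconj r (hRS hr) k hk) hTR
  obtain ⟨τ, Hτ⟩ := exists_conjAut htN
  have hτx : ∀ x ∈ R, autFun R τ x = t * x * t⁻¹ := fun x hx => by
    rw [autFun_of_mem τ hx]
    exact Hτ ⟨x, hx⟩
  have hτS : τ ∈ autInducedBy S R := (mem_autInducedBy_iff S R τ).2 ⟨t, hTS htT, Hτ⟩
  have hτF : τ ∈ F.autGroup R := autInducedBy_le_autGroup F hRS hτS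
  have hτR₀ : (⟨τ, hτF⟩ : F.autGroup R) ∈ (R₀ : Subgroup (F.autGroup R)) := by
    rw [hR₀, Subgroup.mem_subgroupOf]
    exact hτS
  have hτN : (⟨τ, hτF⟩ : F.autGroup R) ∈ N := by
    refine ⟨fun x hx => ?_, ?_⟩
    · show x⁻¹ * autFun R τ x ∈ R ⊓ T
      rw [hτx x hx]
      refine ⟨R.mul_mem (R.inv_mem hx) (conj_mem_of_mem_normalizer htN hx), ?_⟩
      have e : x⁻¹ * (t * x * t⁻¹) = (x⁻¹ * t * x) * t⁻¹ := by group
      rw [e]
      exact T.mul_mem (hTconj' x (hRS hx) t htT) (T.inv_mem htT)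
    · show Mor E (R ⊓ T) (autFun R τ)
      exact (Mor.conj E hVT htT).congr (fun x hx => (hτx x hx.1).symm)
  have hnorm : ∀ ν : F.autGroup R, ν ∈ Subgroup.normalizer
      ((((R₀ : Subgroup (F.autGroup R)) ⊓ N : Subgroup (F.autGroup R))) : Set (F.autGroup R)) →
      (ν : MulAut R) ∈ (presSys F C hC).autGroup R := by
    intro ν hν
    have h1 : ν * ⟨τ, hτF⟩ * ν⁻¹ ∈ (R₀ : Subgroup (F.autGroup R)) ⊓ N :=
      (Subgroup.mem_normalizer_iff.1 hν _).1 ⟨hτR₀, hτN⟩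
    have h2 : ν * ⟨τ, hτF⟩ * ν⁻¹ ∈ (R₀ : Subgroup (F.autGroup R)) := h1.1
    rw [hR₀, Subgroup.mem_subgroupOf] at h2
    obtain ⟨h, hhS, Hh⟩ := (mem_autInducedBy_iff S R _).1 h2
    refine key1 _ ν.2 t ?_ htR
    rw [mem_extSub_iff (hM _ ν.2)]
    refine ⟨hTS htT, htN, h, hhS, fun x hx => ?_⟩
    have h3 := Hh ⟨autFun R (ν : MulAut R) x, autFun_mem _ hx⟩
    rw [← hτx x hx, ← nc_autFun_conj_apply (ν : MulAut R) τ hx,
      autFun_of_mem _ (autFun_mem (ν : MulAut R) hx)]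
    exact h3
  have hα' : (⟨α, hα⟩ : F.autGroup R) ∈ Subgroup.normalizer
      ((((R₀ : Subgroup (F.autGroup R)) ⊓ N : Subgroup (F.autGroup R))) : Set (F.autGroup R)) ⊔ N := by
    rw [hfr]
    trivial
  obtain ⟨ν, hν, z, hz, hνz⟩ := Subgroup.mem_sup_of_normal_right.1 hα'
  have h5 : ((ν * z : F.autGroup R) : MulAut R) ∈ (presSys F C hC).autGroup R :=
    Subgroup.mul_mem _ (hnorm ν hν) (hNG z hz)
  rw [hνz] at h5
  exact h5

/-- **The centralizer of a normal subsystem**: the largest subgroup of `C_S(T)` centralizing `E`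
exists and is strongly closed in `F`. -/
theorem exists_centralizer_stronglyClosed [Finite S] {p : ℕ} [Fact p.Prime] (hS : IsPGroup p S)
    {F : FusionSystem S} {E : FusionSystem T} (D : NormalData p F E) :
    ∃ C : Subgroup Ω, C ≤ centralizerIn S T ∧ (∀ P : Subgroup Ω, E.Hom P ⊆ F.centralizerHom C P) ∧
      (∀ Y : Subgroup Ω, Y ≤ centralizerIn S T →
        (∀ P : Subgroup Ω, E.Hom P ⊆ F.centralizerHom Y P) → Y ≤ C) ∧ F.StronglyClosed C := by
  obtain ⟨C, hCC, hCE, hmax⟩ := exists_largest_centralizing hS D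
  refine ⟨C, hCC, hCE, hmax, ?_⟩
  have hTS := D.le
  have hCS : C ≤ S := hCC.trans inf_le_left
  have hCz : Cz F E C := cz_of_hom hCS hCE
  have hmax' : ∀ Y : Subgroup Ω, Y ≤ centralizerIn S T → Cz F E Y → Y ≤ C :=
    fun Y hY hYz => hmax Y hY (hom_of_cz hTS hY hYz)
  have hconj : ∀ s ∈ S, ∀ x ∈ C, s * x * s⁻¹ ∈ C := by
    intro s hs x hx
    have hφ : Mor F (C ⊔ T) (fun x => s * x * s⁻¹) := Mor.conj F (sup_le hCS hTS) hs
    obtain ⟨h1, h2⟩ := cz_img D hCC hCz hφ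
    exact hmax' _ h1 h2 ((hφ.restrict le_sup_left).mem_imgS_of_mem hx)
  have hC : ∀ s ∈ S, ∀ x : Ω, x ∈ C ↔ s * x * s⁻¹ ∈ C := by
    intro s hs x
    refine ⟨hconj s hs x, fun h => ?_⟩
    have := hconj s⁻¹ (S.inv_mem hs) _ h
    have e : s⁻¹ * (s * x * s⁻¹) * s⁻¹⁻¹ = x := by group
    rwa [e] at this
  have main := Cfsg.Agent.H88.alperin_induction hS D.satF (presSys F C hC)
    (fun R hRa hRr IH => aut_le_presSys hS D hCC hCz hmax' hC hRa hRr IH)
  rw [stronglyClosed_iff]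
  refine ⟨hCS, fun R f hRC hf x hx => ?_⟩
  exact ((mor_presSys_iff.1 (main R f hf)).2 x hx).1 (hRC hx)

end Cfsg.Agent.H86
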