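import Mathlib
import Cfsg.Prelude.Def_FusionSystem
import Cfsg.Agent.H86.NCClosedD
import Cfsg.Agent.H87.PPowerNormal

set_option autoImplicit false
set_option maxHeartbeats 1600000

/-!
Towards the centralizer `C_F(E)` of a normal subsystem: the subsystem of `p`-power index of
`C_F(T)` over a strongly closed subgroup `Y ≤ C_S(T)` is invariant under `Aut_F(Y)`.
-/

namespace Cfsg.Agent.H86

open Cfsg Cfsg.FusionSystem Cfsg.Agent.H87

variable {Ω : Type*} [Group Ω] {S T : Subgroup Ω}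

lemma imgS_eq_of_stronglyClosed [Finite S] {F : FusionSystem S} {Y : Subgroup Ω}
    (hY : F.StronglyClosed Y) {f : Ω → Ω} (hf : Mor F Y f) : imgS Y f = Y := by
  haveI : Finite Y := finite_of_le hY.1
  exact imgS_eq_of_maps hf ((stronglyClosed_iff.1 hY).2 Y f le_rfl hf)

lemma fullyNormalized_of_weaklyClosed [Finite S] {F : FusionSystem S} {Y : Subgroup Ω} (hYS : Y ≤ S)
    (h : ∀ f : Ω → Ω, Mor F Y f → imgS Y f = Y) : F.IsFullyNormalized Y := by
  refine ⟨hYS, fun Q hQ => ?_⟩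
  obtain ⟨f, hf, rfl⟩ := isConj_iff.1 hQ
  rw [h f hf]

lemma fullyCentralized_of_weaklyClosed [Finite S] {F : FusionSystem S} {Y : Subgroup Ω} (hYS : Y ≤ S)
    (h : ∀ f : Ω → Ω, Mor F Y f → imgS Y f = Y) : F.IsFullyCentralized Y := by
  refine ⟨hYS, fun Q hQ => ?_⟩
  obtain ⟨f, hf, rfl⟩ := isConj_iff.1 hQ
  rw [h f hf]

lemma normal_of_stronglyClosed {F : FusionSystem S} {Y : Subgroup Ω} (hY : F.StronglyClosed Y) :
    ∀ s ∈ S, ∀ y ∈ Y, s * y * s⁻¹ ∈ Y :=
  fun s hs y hy => (stronglyClosed_iff.1 hY).2 Y _ le_rfl (Mor.conj F hY.1 hs) y hy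

lemma sup_weaklyClosed [Finite S] {F : FusionSystem S} {Y X : Subgroup Ω} (hY : F.StronglyClosed Y)
    (hX : F.StronglyClosed X) {f : Ω → Ω} (hf : Mor F (Y ⊔ X) f) : imgS (Y ⊔ X) f = Y ⊔ X := by
  rw [hf.imgS_sup, imgS_eq_of_stronglyClosed hY (hf.restrict le_sup_left),
    imgS_eq_of_stronglyClosed hX (hf.restrict le_sup_right)]

/-- A map between subgroups centralizing a strongly closed subgroup `X` extends over `X`. -/
lemma exists_ext_sup [Finite S] {p : ℕ} [Fact p.Prime] (hS : IsPGroup p S) {F : FusionSystem S}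
    (hF : F.IsSaturated p) {X : Subgroup Ω} (hX : F.StronglyClosed X) {P : Subgroup Ω} {f : Ω → Ω}
    (hf : Mor F P f) (hPX : X ≤ centralizerIn S P) (hQX : X ≤ centralizerIn S (imgS P f)) :
    ∃ f', Mor F (P ⊔ X) f' ∧ ∀ x ∈ P, f' x = f x := by
  have hQS : imgS P f ≤ S := hf.imgS_le
  obtain ⟨Q', hconj, hQ'n⟩ := exists_fullyNormalized_conj F hQS
  obtain ⟨ψ, hψ, hψimg⟩ := isConj_iff.1 hconj
  obtain ⟨ψ', hψ', hψ'ψ, -⟩ := exists_transport hS hF hQ'n hψ hψimg
  have hmaps : ∀ x ∈ P, f x ∈ imgS P f := fun x hx => hf.mem_imgS_of_mem hx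
  have hθ : Mor F P (ψ ∘ f) := hf.comp hψ hmaps
  have hθimg : imgS P (ψ ∘ f) = Q' := by rw [hf.imgS_comp hψ hmaps, hψimg]
  obtain ⟨θ', hθ', hθ'θ, -⟩ := exists_transport hS hF hQ'n hθ hθimg
  have hψX : Mor F (imgS P f ⊔ X) ψ' := hψ'.restrict (sup_le_sup le_rfl hQX)
  have hθX : Mor F (P ⊔ X) θ' := hθ'.restrict (sup_le_sup le_rfl hPX)
  have himgψ : imgS (imgS P f ⊔ X) ψ' = Q' ⊔ X := by
    rw [hψX.imgS_sup, imgS_eq_of_stronglyClosed hX (hψX.restrict le_sup_right),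
      (hψX.restrict le_sup_left).imgS_congr hψ'ψ, hψimg]
  have himgθ : imgS (P ⊔ X) θ' = Q' ⊔ X := by
    rw [hθX.imgS_sup, imgS_eq_of_stronglyClosed hX (hθX.restrict le_sup_right),
      (hθX.restrict le_sup_left).imgS_congr hθ'θ, hθimg]
  have hinv : Mor F (Q' ⊔ X) (invOn (imgS P f ⊔ X) ψ') := by
    have := hψX.inv
    rwa [himgψ] at this
  refine ⟨invOn (imgS P f ⊔ X) ψ' ∘ θ', hθX.comp hinv (fun x hx => ?_), fun x hx => ?_⟩
  · rw [← himgθ]
    exact hθX.mem_imgS_of_mem hx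
  · show invOn (imgS P f ⊔ X) ψ' (θ' x) = f x
    rw [hθ'θ x hx]
    show invOn (imgS P f ⊔ X) ψ' (ψ (f x)) = f x
    rw [← hψ'ψ _ (hmaps x hx)]
    exact invOn_apply hψX.injOn (Subgroup.mem_sup_left (hmaps x hx))

/-- The conjugates of the map `f` on `P` by the automorphisms in `F` of `Y` are maps of `D`. -/
def AConjC {Y : Subgroup Ω} (D : FusionSystem Y) (F : FusionSystem S) (P : Subgroup Ω)
    (f : Ω → Ω) : Prop :=
  ∀ a : Ω → Ω, Mor F Y a → imgS Y a = Y → ∃ χ, Mor D (imgS P a) χ ∧ ∀ x ∈ P, χ (a x) = a (f x)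

/-- The subsystem of `D` of the maps all of whose conjugates by `Aut_F(Y)` are in `D`. -/
def acSys {Y : Subgroup Ω} (D : FusionSystem Y) (F : FusionSystem S) : FusionSystem Y :=
  Cfsg.Agent.H88.subSys D (AConjC D F)
    (by
      intro P f g hf hfg h a ha haY
      obtain ⟨χ, hχ, hχeq⟩ := h a ha haY
      exact ⟨χ, hχ, fun x hx => by rw [hχeq x hx, hfg x hx]⟩)
    (by
      intro P g hP hg a ha haY
      have hle : imgS P a ≤ Y := by
        have := ha.imgS_mono hP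
        rwa [haY] at this
      have hag : a g ∈ Y := by
        have := ha.mem_imgS_of_mem hg
        rwa [haY] at this
      refine ⟨fun y => a g * y * (a g)⁻¹, Mor.conj D hle hag, fun x hx => ?_⟩
      show a g * a x * (a g)⁻¹ = a (g * x * g⁻¹)
      rw [ha.map_mul (Y.mul_mem hg (hP hx)) (Y.inv_mem hg), ha.map_mul hg (hP hx), ha.map_inv hg])
    (by
      intro P R f g hf hg hfR h h' a ha haY
      obtain ⟨χ₁, hχ₁, hχ₁eq⟩ := h a ha haY
      obtain ⟨χ₂, hχ₂, hχ₂eq⟩ := h' a ha haY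
      have hPY : P ≤ Y := hf.le
      have hRY : R ≤ Y := hg.le
      refine ⟨χ₂ ∘ χ₁, hχ₁.comp hχ₂ (fun z hz => ?_), fun x hx => ?_⟩
      · obtain ⟨x, hx, rfl⟩ := (ha.restrict hPY).mem_imgS.1 hz
        rw [hχ₁eq x hx]
        exact (ha.restrict hRY).mem_imgS_of_mem (hfR x hx)
      · show χ₂ (χ₁ (a x)) = a (g (f x))
        rw [hχ₁eq x hx, hχ₂eq _ (hfR x hx)])
    (by
      intro P f hf h a ha haY
      obtain ⟨χ, hχ, hχeq⟩ := h a ha haY
      have hPY : P ≤ Y := hf.le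
      have hQY : imgS P f ≤ Y := hf.imgS_le
      have haP := ha.restrict hPY
      have haQ := ha.restrict hQY
      have himg : imgS (imgS P a) χ = imgS (imgS P f) a := by
        ext z
        rw [hχ.mem_imgS, haQ.mem_imgS]
        constructor
        · rintro ⟨w, hw, rfl⟩
          obtain ⟨x, hx, rfl⟩ := haP.mem_imgS.1 hw
          exact ⟨f x, hf.mem_imgS_of_mem hx, (hχeq x hx).symm⟩
        · rintro ⟨y, hy, rfl⟩
          obtain ⟨x, hx, rfl⟩ := hf.mem_imgS.1 hy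
          exact ⟨a x, haP.mem_imgS_of_mem hx, hχeq x hx⟩
      have h1 := hχ.inv
      rw [himg] at h1
      refine ⟨invOn (imgS P a) χ, h1, fun y hy => ?_⟩
      obtain ⟨x, hx, rfl⟩ := hf.mem_imgS.1 hy
      rw [invOn_apply hf.injOn hx, ← hχeq x hx]
      exact invOn_apply hχ.injOn (haP.mem_imgS_of_mem hx))

lemma mor_acSys_iff {Y : Subgroup Ω} {D : FusionSystem Y} {F : FusionSystem S} {P : Subgroup Ω}
    {f : Ω → Ω} : Mor (acSys D F) P f ↔ Mor D P f ∧ AConjC D F P f :=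
  Cfsg.Agent.H88.mor_subSys_iff

lemma iterate_conj_aux {a g χ : Ω → Ω} {R : Subgroup Ω} (hgR : ∀ x ∈ R, g x ∈ R)
    (hχ : ∀ x ∈ R, χ (a x) = a (g x)) :
    ∀ (j : ℕ), ∀ x ∈ R, χ^[j] (a x) = a (g^[j] x) ∧ g^[j] x ∈ R := by
  intro j
  induction j with
  | zero => intro x hx; exact ⟨rfl, hx⟩
  | succ j ih =>
    intro x hx
    obtain ⟨h1, h2⟩ := ih x hx
    rw [Function.iterate_succ_apply', Function.iterate_succ_apply', h1, hχ _ h2]
    exact ⟨rfl, hgR _ h2⟩

/-- The conjugate by an automorphism in `F` of `Y` of an automorphism in `D` of order prime to `p`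
is in `D`. -/
theorem conj_coprime_mem [Finite S] {p : ℕ} [Fact p.Prime] (hS : IsPGroup p S) {F : FusionSystem S}
    (hF : F.IsSaturated p) (hTS : T ≤ S) (hTsc : F.StronglyClosed T) {Y : Subgroup Ω}
    (hYC : Y ≤ centralizerIn S T) (hYsc : F.StronglyClosed Y) {D : FusionSystem Y}
    (hP : PPow D (centralizerSystem F T hTS) p) {R : Subgroup Ω} (hRY : R ≤ Y) {g : Ω → Ω}
    (hg : Mor D R g) (hgR : ∀ x ∈ R, g x ∈ R) {n : ℕ} (hn : ¬ p ∣ n) (hgn : ∀ x ∈ R, g^[n] x = x)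
    {a : Ω → Ω} (ha : Mor F Y a) (haY : imgS Y a = Y) :
    ∃ χ, Mor D (imgS R a) χ ∧ ∀ x ∈ R, χ (a x) = a (g x) := by
  have hYS : Y ≤ S := hYsc.1
  haveI : Finite Y := finite_of_le hYS
  haveI : Finite R := finite_of_le (hRY.trans hYS)
  haveI : Finite T := finite_of_le hTS
  have hTY : T ≤ centralizerIn S Y := by
    intro t ht
    rw [mem_centralizerIn_iff]
    exact ⟨hTS ht, fun y hy => ((mem_centralizerIn_iff.1 (hYC hy)).2 t ht).symm⟩
  have hgK : Mor (centralizerSystem F T hTS) R g := mor_of_subsystem hP.1 hg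
  obtain ⟨hRC, -, g', hg', hg'g, hg'T⟩ := (mor_centralizerSystem_iff hTS).1 hgK
  have hgF : Mor F R g := (hg'.restrict le_sup_left).congr hg'g
  have haR : Mor F R a := ha.restrict hRY
  have hR'Y : imgS R a ≤ Y := by
    have := ha.imgS_mono hRY
    rwa [haY] at this
  haveI : Finite (imgS R a : Subgroup Ω) := finite_of_le (hR'Y.trans hYS)
  have hYfn : F.IsFullyNormalized Y :=
    fullyNormalized_of_weaklyClosed hYS (fun f hf => imgS_eq_of_stronglyClosed hYsc hf)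
  obtain ⟨a', ha', ha'a, -⟩ := exists_transport hS hF hYfn ha haY
  have haRT : Mor F (R ⊔ T) a' :=
    ha'.restrict (sup_le (hRY.trans le_sup_left) (hTY.trans le_sup_right))
  have himgT : imgS T a' = T := imgS_eq_of_stronglyClosed hTsc (haRT.restrict le_sup_right)
  have himgR : imgS R a' = imgS R a :=
    (haRT.restrict le_sup_left).imgS_congr (fun x hx => ha'a x (hRY hx))
  have himgRT : imgS (R ⊔ T) a' = imgS R a ⊔ T := by rw [haRT.imgS_sup, himgR, himgT]
  have hinv : Mor F (imgS R a ⊔ T) (invOn (R ⊔ T) a') := by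
    have := haRT.inv
    rwa [himgRT] at this
  have hg'maps : ∀ x ∈ R ⊔ T, g' x ∈ R ⊔ T := by
    intro x hx
    have h1 := hg'.mem_imgS_of_mem hx
    rw [hg'.imgS_sup] at h1
    have h2 : imgS R g' = R := by
      rw [(hg'.restrict le_sup_left).imgS_congr hg'g]
      exact imgS_eq_of_maps hgF hgR
    have h3 : imgS T g' = T := by
      rw [(hg'.restrict le_sup_right).imgS_congr (g := fun x => x) hg'T, Mor.imgS_id]
    rwa [h2, h3] at h1
  have hf' : Mor F (imgS R a ⊔ T) (a' ∘ (g' ∘ invOn (R ⊔ T) a')) :=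
    (hinv.comp hg' (fun x hx => haRT.invOn_mem (by rw [himgRT]; exact hx))).comp haRT
      (fun x hx => hg'maps _ (haRT.invOn_mem (by rw [himgRT]; exact hx)))
  have hf'a : ∀ x ∈ R, (a' ∘ (g' ∘ invOn (R ⊔ T) a')) (a x) = a (g x) := by
    intro x hx
    show a' (g' (invOn (R ⊔ T) a' (a x))) = a (g x)
    rw [← ha'a x (hRY hx), invOn_apply haRT.injOn (Subgroup.mem_sup_left hx), hg'g x hx,
      ha'a _ (hRY (hgR x hx))]
  have hf'T : ∀ t ∈ T, (a' ∘ (g' ∘ invOn (R ⊔ T) a')) t = t := by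
    intro t ht
    obtain ⟨t₀, ht₀, rfl⟩ := (haRT.restrict le_sup_right).mem_imgS.1
      (by rw [himgT]; exact ht : t ∈ imgS T a')
    show a' (g' (invOn (R ⊔ T) a' (a' t₀))) = a' t₀
    rw [invOn_apply haRT.injOn (Subgroup.mem_sup_right ht₀), hg'T t₀ ht₀]
  have hχF : Mor F (imgS R a) (a' ∘ (g' ∘ invOn (R ⊔ T) a')) := hf'.restrict le_sup_left
  have hχmaps : ∀ y ∈ imgS R a, (a' ∘ (g' ∘ invOn (R ⊔ T) a')) y ∈ imgS R a := by
    intro y hy
    obtain ⟨x, hx, rfl⟩ := haR.mem_imgS.1 hy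
    rw [hf'a x hx]
    exact haR.mem_imgS_of_mem (hgR x hx)
  have hχK : Mor (centralizerSystem F T hTS) (imgS R a) (a' ∘ (g' ∘ invOn (R ⊔ T) a')) := by
    rw [mor_centralizerSystem_iff hTS]
    exact ⟨hR'Y.trans hYC, fun y hy => hYC (hR'Y (hχmaps y hy)), _, hf', fun x hx => rfl, hf'T⟩
  have himgχ : imgS (imgS R a) (a' ∘ (g' ∘ invOn (R ⊔ T) a')) = imgS R a :=
    imgS_eq_of_maps hχF hχmaps
  have hβK := mkAut_mem hχK himgχ
  have hpow : mkAut hχK himgχ ^ n = 1 := by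
    apply MulEquiv.ext
    intro y
    apply Subtype.ext
    rw [← autFun_apply, autFun_pow _ _ y.2]
    obtain ⟨x, hx, hxy⟩ := haR.mem_imgS.1 y.2
    have h1 := (iterate_congr_on (fun z hz => autFun_mkAut hχK himgχ hz) hχmaps n y y.2).1
    rw [h1, ← hxy, (iterate_conj_aux hgR hf'a n x hx).1, hgn x hx]
    exact hxy
  have hcop : (orderOf (mkAut hχK himgχ)).Coprime p := by
    have h2 : orderOf (mkAut hχK himgχ) ∣ n := orderOf_dvd_of_pow_eq_one hpow
    exact Nat.Coprime.coprime_dvd_left h2 ((Nat.Prime.coprime_iff_not_dvd Fact.out).2 hn).symm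
  have hβD := hP.2.1 (imgS R a) hR'Y _ hβK hcop
  have hχD : Mor D (imgS R a) (a' ∘ (g' ∘ invOn (R ⊔ T) a')) :=
    ((mem_autGroup_iff hR'Y _).1 hβD).congr (fun y hy => autFun_mkAut hχK himgχ hy)
  exact ⟨_, hχD, hf'a⟩

/-- The subsystem of `p`-power index of `C_F(T)` over a strongly closed subgroup `Y ≤ C_S(T)` is
invariant under the automorphisms in `F` of `Y`. -/
theorem autInv_of_pPow [Finite S] {p : ℕ} [Fact p.Prime] (hS : IsPGroup p S) {F : FusionSystem S}
    (hF : F.IsSaturated p) (hTS : T ≤ S) (hTsc : F.StronglyClosed T) {Y : Subgroup Ω}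
    (hYC : Y ≤ centralizerIn S T) (hYsc : F.StronglyClosed Y) {D : FusionSystem Y}
    (hD : D.IsSaturated p) (hP : PPow D (centralizerSystem F T hTS) p) : AutInv D F := by
  have hYS : Y ≤ S := hYsc.1
  haveI : Finite Y := finite_of_le hYS
  have hYp : IsPGroup p Y := hS.to_le hYS
  have main := Cfsg.Agent.H88.alperin_induction hYp hD (acSys D F) (by
    intro R hRa hRr IH
    have hRY : R ≤ Y := hRa.1
    haveI : Finite R := finite_of_le (hRY.trans hYS)
    obtain ⟨R₀, hR₀⟩ := hRa.2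
    have htop : ((acSys D F).autGroup R).subgroupOf (D.autGroup R) = ⊤ := by
      refine eq_top_of_sylow_le_of_pow _ R₀ ?_ ?_
      · intro γ hγ
        rw [hR₀, Subgroup.mem_subgroupOf] at hγ
        rw [Subgroup.mem_subgroupOf]
        exact autInducedBy_le_autGroup (acSys D F) hRY hγ
      · intro α
        have hord : orderOf α ≠ 0 := (orderOf_pos α).ne'
        obtain ⟨b, n', hn', hbn⟩ :=
          Nat.exists_eq_pow_mul_and_not_dvd hord p (Fact.out : p.Prime).ne_one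
        refine ⟨b, ?_⟩
        have hpow : ((α ^ p ^ b : D.autGroup R) : MulAut R) ^ n' = 1 := by
          rw [← Subgroup.coe_pow, ← pow_mul, ← hbn, pow_orderOf_eq_one, Subgroup.coe_one]
        have hγD : Mor D R (autFun R ((α ^ p ^ b : D.autGroup R) : MulAut R)) :=
          (mem_autGroup_iff hRY _).1 (α ^ p ^ b).2
        have hiter : ∀ x ∈ R, (autFun R ((α ^ p ^ b : D.autGroup R) : MulAut R))^[n'] x = x := by
          intro x hx
          rw [← autFun_pow _ _ hx, hpow, autFun_one hx]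
        rw [Subgroup.mem_subgroupOf, mem_autGroup_iff hRY, mor_acSys_iff]
        exact ⟨hγD, fun a ha haY => conj_coprime_mem hS hF hTS hTsc hYC hYsc hP hRY hγD
          (fun x hx => autFun_mem _ hx) hn' hiter ha haY⟩
    intro α hα
    have h1 : (⟨α, hα⟩ : D.autGroup R) ∈ ((acSys D F).autGroup R).subgroupOf (D.autGroup R) := by
      rw [htop]
      trivial
    exact Subgroup.mem_subgroupOf.1 h1)
  intro P f a hPY hf ha haY
  exact (mor_acSys_iff.1 (main P f hf)).2 a ha haY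

end Cfsg.Agent.H86
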