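import Mathlib
import Cfsg.Prelude.Def_FusionSystem
import Cfsg.Agent.H86.CFEA

set_option autoImplicit false
set_option maxHeartbeats 1600000

/-!
Towards the centralizer `C_F(E)` of a normal subsystem: the Frattini condition and the extension
condition for the subsystem of `p`-power index of `C_F(T)` over a strongly closed `Y ≤ C_S(T)`.
-/

namespace Cfsg.Agent.H86

open Cfsg Cfsg.FusionSystem Cfsg.Agent.H87

variable {Ω : Type*} [Group Ω] {S T : Subgroup Ω}

/-- The Frattini condition for the subsystem of `p`-power index of `C_F(T)` over `Y`. -/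
theorem frat_of_pPow [Finite S] {p : ℕ} [Fact p.Prime] (hS : IsPGroup p S) {F : FusionSystem S}
    (hF : F.IsSaturated p) (hTS : T ≤ S) (hTsc : F.StronglyClosed T) {Y : Subgroup Ω}
    (hYC : Y ≤ centralizerIn S T) (hYsc : F.StronglyClosed Y) {D : FusionSystem Y}
    (hP : PPow D (centralizerSystem F T hTS) p) : Frat D F := by
  have hYS : Y ≤ S := hYsc.1
  haveI : Finite Y := finite_of_le hYS
  haveI : Finite T := finite_of_le hTS
  have hCTle : ∀ P : Subgroup Ω, P ≤ Y → T ≤ centralizerIn S P := fun P hPY t ht => by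
    rw [mem_centralizerIn_iff]
    exact ⟨hTS ht, fun y hy => ((mem_centralizerIn_iff.1 (hYC (hPY hy))).2 t ht).symm⟩
  intro P f hPY hf
  have hQY : imgS P f ≤ Y := by
    intro y hy
    obtain ⟨x, hx, rfl⟩ := hf.mem_imgS.1 hy
    exact (stronglyClosed_iff.1 hYsc).2 P f hPY hf x hx
  obtain ⟨fh, hfh, hfhf⟩ := exists_ext_sup hS hF hTsc hf (hCTle P hPY) (hCTle _ hQY)
  have hbT : Mor F T fh := hfh.restrict le_sup_right
  have himgbT : imgS T fh = T := imgS_eq_of_stronglyClosed hTsc hbT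
  have hTfn : F.IsFullyNormalized T :=
    fullyNormalized_of_weaklyClosed hTS (fun f hf => imgS_eq_of_stronglyClosed hTsc hf)
  obtain ⟨b', hb', hb'b, -⟩ := exists_transport hS hF hTfn hbT himgbT
  have hbYT : Mor F (Y ⊔ T) b' := hb'.restrict (sup_le (hYC.trans le_sup_right) le_sup_left)
  have himgYT : imgS (Y ⊔ T) b' = Y ⊔ T := sup_weaklyClosed hYsc hTsc hbYT
  have hbY : Mor F Y b' := hbYT.restrict le_sup_left
  have himgY : imgS Y b' = Y := imgS_eq_of_stronglyClosed hYsc hbY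
  have hinv : Mor F (Y ⊔ T) (invOn (Y ⊔ T) b') := by
    have := hbYT.inv
    rwa [himgYT] at this
  have hfhmaps : ∀ x ∈ P ⊔ T, fh x ∈ Y ⊔ T := by
    intro x hx
    have h1 := hfh.mem_imgS_of_mem hx
    rw [hfh.imgS_sup, himgbT, (hfh.restrict le_sup_left).imgS_congr hfhf] at h1
    exact (sup_le_sup hQY le_rfl) h1
  have hf₁ : Mor F (P ⊔ T) (invOn (Y ⊔ T) b' ∘ fh) := hfh.comp hinv hfhmaps
  have hf₁T : ∀ t ∈ T, (invOn (Y ⊔ T) b' ∘ fh) t = t := by
    intro t ht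
    show invOn (Y ⊔ T) b' (fh t) = t
    rw [← hb'b t ht]
    exact invOn_apply hbYT.injOn (Subgroup.mem_sup_right ht)
  have hf₁Y : ∀ x ∈ P, (invOn (Y ⊔ T) b' ∘ fh) x ∈ Y := by
    intro x hx
    show invOn (Y ⊔ T) b' (fh x) ∈ Y
    rw [hfhf x hx]
    have h1 : f x ∈ imgS Y b' := by
      rw [himgY]
      exact hQY (hf.mem_imgS_of_mem hx)
    obtain ⟨y, hy, hyx⟩ := hbY.mem_imgS.1 h1
    rw [← hyx, invOn_apply hbYT.injOn (Subgroup.mem_sup_left hy)]
    exact hy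
  have hf₁b : ∀ x ∈ P, b' ((invOn (Y ⊔ T) b' ∘ fh) x) = f x := by
    intro x hx
    show b' (invOn (Y ⊔ T) b' (fh x)) = f x
    rw [hbYT.apply_invOn (by rw [himgYT]; exact hfhmaps x (Subgroup.mem_sup_left hx)), hfhf x hx]
  have hf₁K : Mor (centralizerSystem F T hTS) P (invOn (Y ⊔ T) b' ∘ fh) := by
    rw [mor_centralizerSystem_iff hTS]
    exact ⟨hPY.trans hYC, fun x hx => hYC (hf₁Y x hx), _, hf₁, fun x hx => rfl, hf₁T⟩
  obtain ⟨t, ht, hf₀⟩ := hP.2.2 P _ hf₁K hPY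
  have htS : t ∈ S := ht.1
  have hYn := normal_of_stronglyClosed hYsc
  have hc : Mor F Y (fun x => t⁻¹ * x * t⁻¹⁻¹) := Mor.conj F hYS (S.inv_mem htS)
  have ha : Mor F Y (b' ∘ (fun x => t⁻¹ * x * t⁻¹⁻¹)) :=
    hc.comp hbY (fun x hx => hYn _ (S.inv_mem htS) x hx)
  refine ⟨b' ∘ (fun x => t⁻¹ * x * t⁻¹⁻¹), fun x => t * (invOn (Y ⊔ T) b' ∘ fh) x * t⁻¹, ha,
    imgS_eq_of_stronglyClosed hYsc ha, hf₀, fun x hx => ?_⟩
  show f x = b' (t⁻¹ * (t * (invOn (Y ⊔ T) b' ∘ fh) x * t⁻¹) * t⁻¹⁻¹)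
  rw [← hf₁b x hx]
  generalize (invOn (Y ⊔ T) b' ∘ fh) x = z
  have e : t⁻¹ * (t * z * t⁻¹) * t⁻¹⁻¹ = z := by group
  rw [e]

/-- An automorphism in `C_F(T)` of `Y` of order prime to `p` has a good extension in `F`, when `Y`
contains the hyperfocal subgroup of `C_F(T)`. -/
theorem goodExt_of_coprime_pPow [Finite S] {p : ℕ} [Fact p.Prime] (hS : IsPGroup p S)
    {F : FusionSystem S} (hF : F.IsSaturated p) (hTS : T ≤ S) (hTsc : F.StronglyClosed T)
    {Y : Subgroup Ω} (hYC : Y ≤ centralizerIn S T) (hYsc : F.StronglyClosed Y)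
    (hhyp : (centralizerSystem F T hTS).hyperfocalSubgroup p ≤ Y)
    {m : MulAut Y} (hm : m ∈ (centralizerSystem F T hTS).autGroup Y) (hmp : (orderOf m).Coprime p) :
    GoodExt F Y m := by
  have hp : p.Prime := Fact.out
  have hYS : Y ≤ S := hYsc.1
  haveI : Finite Y := finite_of_le hYS
  haveI : Finite T := finite_of_le hTS
  have hRS : Y ⊔ centralizerIn S Y ≤ S := sup_le hYS inf_le_left
  haveI : Finite ↥(Y ⊔ centralizerIn S Y) := finite_of_le hRS
  have hYTS : Y ⊔ T ≤ S := sup_le hYS hTS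
  have hTY : T ≤ centralizerIn S Y := by
    intro t ht
    rw [mem_centralizerIn_iff]
    exact ⟨hTS ht, fun y hy => ((mem_centralizerIn_iff.1 (hYC hy)).2 t ht).symm⟩
  have hTn := normal_of_stronglyClosed hTsc
  have hmK : Mor (centralizerSystem F T hTS) Y (autFun Y m) := (mem_autGroup_iff hYC m).1 hm
  obtain ⟨-, -, f', hf', hf'm, hf'T⟩ := (mor_centralizerSystem_iff hTS).1 hmK
  have himgf' : imgS (Y ⊔ T) f' = Y ⊔ T := sup_weaklyClosed hYsc hTsc hf'
  have hYTfn : F.IsFullyNormalized (Y ⊔ T) :=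
    fullyNormalized_of_weaklyClosed hYTS (fun f hf => sup_weaklyClosed hYsc hTsc hf)
  have hrec := saturated_receptive_of_fullyCentralized hS hF (saturated_fullyNormalized hS hF hYTfn).1
  obtain ⟨b₁, hb₁, hb₁f⟩ := receptive_extend' hrec hf' himgf'
  have hconjmem : ∀ g ∈ S, ∀ x ∈ Y ⊔ T, g * x * g⁻¹ ∈ Y ⊔ T := by
    intro g hg x hx
    have h1 : Mor F (Y ⊔ T) (fun x => g * x * g⁻¹) := Mor.conj F hYTS hg
    have h2 := h1.mem_imgS_of_mem hx
    rwa [sup_weaklyClosed hYsc hTsc h1] at h2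
  have hCle : centralizerIn S Y ≤ extSub S (Y ⊔ T) f' := by
    intro g hg
    obtain ⟨hgS, hgC⟩ := mem_centralizerIn_iff.1 hg
    rw [mem_extSub_iff hf']
    refine ⟨hgS, mem_normalizer_of_forall_conj_mem (hconjmem g hgS) (fun y hy => ?_), g, hgS, ?_⟩
    · have := hconjmem g⁻¹ (S.inv_mem hgS) y hy
      rwa [inv_inv] at this
    · have h1 : Mor F (Y ⊔ T) (f' ∘ (fun x => g * x * g⁻¹)) :=
        (Mor.conj F hYTS hgS).comp hf' (hconjmem g hgS)
      have h2 : Mor F (Y ⊔ T) ((fun x => g * x * g⁻¹) ∘ f') :=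
        hf'.comp (Mor.conj F hYTS hgS) (fun x hx => by
          have := hf'.mem_imgS_of_mem hx
          rwa [himgf'] at this)
      refine Mor.eq_on_sup h1 h2 (fun x hx => ?_) (fun x hx => ?_)
      · show f' (g * x * g⁻¹) = g * f' x * g⁻¹
        have e1 : g * x * g⁻¹ = x := by rw [← hgC x hx, mul_inv_cancel_right]
        have hfx : f' x ∈ Y := by rw [hf'm x hx]; exact autFun_mem m hx
        have e2 : g * f' x * g⁻¹ = f' x := by rw [← hgC _ hfx, mul_inv_cancel_right]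
        rw [e1, e2]
      · show f' (g * x * g⁻¹) = g * f' x * g⁻¹
        rw [hf'T _ (hTn g hgS x hx), hf'T x hx]
  have hb₀ : Mor F (Y ⊔ centralizerIn S Y) b₁ :=
    hb₁.restrict (sup_le (le_sup_left.trans (le_extSub hf')) hCle)
  have hb₀m : ∀ x ∈ Y, b₁ x = autFun Y m x := fun x hx => by
    rw [hb₁f x (Subgroup.mem_sup_left hx), hf'm x hx]
  have hb₀T : ∀ t ∈ T, b₁ t = t := fun t ht => by
    rw [hb₁f t (Subgroup.mem_sup_right ht), hf'T t ht]
  obtain ⟨-, himg₀⟩ := ext_maps hYS hb₀ hb₀m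
  have hβ₀F : mkAut hb₀ himg₀ ∈ F.autGroup (Y ⊔ centralizerIn S Y) := mkAut_mem hb₀ himg₀
  have hβ₀Y : ∀ x ∈ Y, autFun (Y ⊔ centralizerIn S Y) (mkAut hb₀ himg₀) x = autFun Y m x :=
    fun x hx => by rw [autFun_mkAut hb₀ himg₀ (Subgroup.mem_sup_left hx), hb₀m x hx]
  have hTle : T ≤ Y ⊔ centralizerIn S Y := hTY.trans le_sup_right
  have hβ₀T : ∀ t ∈ T, autFun (Y ⊔ centralizerIn S Y) (mkAut hb₀ himg₀) t = t :=
    fun t ht => by rw [autFun_mkAut hb₀ himg₀ (hTle ht), hb₀T t ht]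
  have hpow : ∀ (j : ℕ), ∀ x ∈ Y,
      autFun (Y ⊔ centralizerIn S Y) (mkAut hb₀ himg₀ ^ j) x = autFun Y (m ^ j) x := by
    intro j
    induction j with
    | zero =>
      intro x hx
      rw [pow_zero, pow_zero, autFun_one (Subgroup.mem_sup_left hx), autFun_one hx]
    | succ j ih =>
      intro x hx
      rw [pow_succ', pow_succ', autFun_mul _ _ (Subgroup.mem_sup_left hx), ih x hx,
        hβ₀Y _ (autFun_mem _ hx), autFun_mul _ _ hx]
  have hpowT : ∀ (j : ℕ), ∀ t ∈ T,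
      autFun (Y ⊔ centralizerIn S Y) (mkAut hb₀ himg₀ ^ j) t = t := by
    intro j
    induction j with
    | zero =>
      intro t ht
      rw [pow_zero, autFun_one (hTle ht)]
    | succ j ih =>
      intro t ht
      rw [pow_succ', autFun_mul _ _ (hTle ht), ih t ht, hβ₀T t ht]
  have ho : orderOf (mkAut hb₀ himg₀) ≠ 0 := (orderOf_pos _).ne'
  obtain ⟨k, m', hm', hkm⟩ := Nat.exists_eq_pow_mul_and_not_dvd ho p hp.ne_one
  have hcop : Nat.Coprime (p ^ k) (orderOf m) := Nat.Coprime.pow_left k hmp.symm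
  have hexu : ∃ u : ℕ, m ^ (p ^ k * u) = m := by
    by_cases hm1 : orderOf m = 1
    · rw [orderOf_eq_one_iff] at hm1
      exact ⟨0, by rw [hm1, one_pow]⟩
    · obtain ⟨u, -, hu⟩ := Nat.exists_mul_mod_eq_one_of_coprime hcop
        (by have := orderOf_pos m; omega)
      exact ⟨u, by rw [← pow_mod_orderOf, hu, pow_one]⟩
  obtain ⟨u, hu⟩ := hexu
  have hβF : mkAut hb₀ himg₀ ^ (p ^ k * u) ∈ F.autGroup (Y ⊔ centralizerIn S Y) :=
    Subgroup.pow_mem _ hβ₀F _
  have hβpow : (mkAut hb₀ himg₀ ^ (p ^ k * u)) ^ m' = 1 := by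
    rw [← pow_mul, mul_right_comm, ← hkm, pow_mul, pow_orderOf_eq_one, one_pow]
  have hβY : ∀ x ∈ Y, autFun (Y ⊔ centralizerIn S Y) (mkAut hb₀ himg₀ ^ (p ^ k * u)) x =
      autFun Y m x := by
    intro x hx
    rw [hpow _ x hx, hu]
  have hβm : Mor F (Y ⊔ centralizerIn S Y)
      (autFun (Y ⊔ centralizerIn S Y) (mkAut hb₀ himg₀ ^ (p ^ k * u))) :=
    (mem_autGroup_iff hRS _).1 hβF
  have hβT := hpowT (p ^ k * u)
  have hbn : ∀ x ∈ Y ⊔ centralizerIn S Y,
      (autFun (Y ⊔ centralizerIn S Y) (mkAut hb₀ himg₀ ^ (p ^ k * u)))^[m'] x = x := by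
    intro x hx
    rw [← autFun_pow _ _ hx, hβpow, autFun_one hx]
  obtain ⟨hCβ, -⟩ := ext_maps hYS hβm hβY
  generalize autFun (Y ⊔ centralizerIn S Y) (mkAut hb₀ himg₀ ^ (p ^ k * u)) = b at hβm hβY hβT hbn hCβ
  -- `b` is an automorphism in `F` of `Y C_S(Y)`, equal to `m` on `Y`, trivial on `T`, of order
  -- dividing `m'`
  have hbYmem : ∀ x ∈ Y, b x ∈ Y := fun x hx => by rw [hβY x hx]; exact autFun_mem m hx
  -- step 1: `[C_S(Y), b]` centralizes `T`
  have hd1 : ∀ c ∈ centralizerIn S Y, c⁻¹ * b c ∈ centralizerIn S Y ⊓ centralizerIn S T := by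
    intro c hc
    have hcS : c ∈ S := hc.1
    have hbc : b c ∈ centralizerIn S Y := hCβ c hc
    refine ⟨Subgroup.mul_mem _ (Subgroup.inv_mem _ hc) hbc, ?_⟩
    show c⁻¹ * b c ∈ centralizerIn S T
    rw [mem_centralizerIn_iff]
    refine ⟨S.mul_mem (S.inv_mem hcS) hbc.1, fun t ht => ?_⟩
    have hcR : c ∈ Y ⊔ centralizerIn S Y := Subgroup.mem_sup_right hc
    have htR : t ∈ Y ⊔ centralizerIn S Y := hTle ht
    have h1 : b (c * t * c⁻¹) = c * t * c⁻¹ := hβT _ (hTn c hcS t ht)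
    have h2 : b (c * t * c⁻¹) = b c * t * (b c)⁻¹ := by
      rw [hβm.map_mul (Subgroup.mul_mem _ hcR htR) (Subgroup.inv_mem _ hcR), hβm.map_mul hcR htR,
        hβm.map_inv hcR, hβT t ht]
    rw [h1] at h2
    generalize b c = d at h2
    calc t * (c⁻¹ * d) = c⁻¹ * (c * t * c⁻¹) * d := by group
      _ = c⁻¹ * (d * t * d⁻¹) * d := by rw [h2]
      _ = c⁻¹ * d * t := by group
  -- step 2: `[C_S(Y T), b] ≤ Y`
  have hZ₁C : centralizerIn S Y ⊓ centralizerIn S T ≤ centralizerIn S T := inf_le_right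
  have hW₀C : Y ⊔ (centralizerIn S Y ⊓ centralizerIn S T) ≤ centralizerIn S T := sup_le hYC hZ₁C
  have hW₀R : Y ⊔ (centralizerIn S Y ⊓ centralizerIn S T) ≤ Y ⊔ centralizerIn S Y :=
    sup_le_sup le_rfl inf_le_left
  have hW₀TR : Y ⊔ (centralizerIn S Y ⊓ centralizerIn S T) ⊔ T ≤ Y ⊔ centralizerIn S Y :=
    sup_le hW₀R hTle
  haveI : Finite ↥(Y ⊔ (centralizerIn S Y ⊓ centralizerIn S T)) := finite_of_le (hW₀R.trans hRS)
  have hbW : Mor F (Y ⊔ (centralizerIn S Y ⊓ centralizerIn S T)) b := hβm.restrict hW₀R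
  have hbZ₁ : ∀ z ∈ centralizerIn S Y ⊓ centralizerIn S T,
      b z ∈ centralizerIn S Y ⊓ centralizerIn S T := by
    intro z hz
    have hbz : b z ∈ centralizerIn S Y := hCβ z hz.1
    refine ⟨hbz, ?_⟩
    show b z ∈ centralizerIn S T
    rw [mem_centralizerIn_iff]
    refine ⟨hbz.1, fun t ht => ?_⟩
    have hzR : z ∈ Y ⊔ centralizerIn S Y := Subgroup.mem_sup_right hz.1
    have htR : t ∈ Y ⊔ centralizerIn S Y := hTle ht
    have h1 := (mem_centralizerIn_iff.1 hz.2).2 t ht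
    calc t * b z = b t * b z := by rw [hβT t ht]
      _ = b (t * z) := (hβm.map_mul htR hzR).symm
      _ = b (z * t) := by rw [h1]
      _ = b z * b t := hβm.map_mul hzR htR
      _ = b z * t := by rw [hβT t ht]
  have hbWmaps : ∀ x ∈ Y ⊔ (centralizerIn S Y ⊓ centralizerIn S T),
      b x ∈ Y ⊔ (centralizerIn S Y ⊓ centralizerIn S T) := by
    intro x hx
    have h1 := hbW.mem_imgS_of_mem hx
    rw [hbW.imgS_sup] at h1
    have hle : imgS Y b ⊔ imgS (centralizerIn S Y ⊓ centralizerIn S T) b ≤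
        Y ⊔ (centralizerIn S Y ⊓ centralizerIn S T) := by
      apply sup_le_sup
      · intro y hy
        obtain ⟨x', hx', rfl⟩ := (hbW.restrict le_sup_left).mem_imgS.1 hy
        exact hbYmem x' hx'
      · intro y hy
        obtain ⟨x', hx', rfl⟩ := (hbW.restrict le_sup_right).mem_imgS.1 hy
        exact hbZ₁ x' hx'
    exact hle h1
  have hbK : Mor (centralizerSystem F T hTS) (Y ⊔ (centralizerIn S Y ⊓ centralizerIn S T)) b := by
    rw [mor_centralizerSystem_iff hTS]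
    exact ⟨hW₀C, fun x hx => hW₀C (hbWmaps x hx), b, hβm.restrict hW₀TR, fun x hx => rfl, hβT⟩
  have himgW : imgS (Y ⊔ (centralizerIn S Y ⊓ centralizerIn S T)) b =
      Y ⊔ (centralizerIn S Y ⊓ centralizerIn S T) := imgS_eq_of_maps hbW hbWmaps
  have hγK := mkAut_mem hbK himgW
  have hγpow : mkAut hbK himgW ^ m' = 1 := by
    apply MulEquiv.ext
    intro y
    apply Subtype.ext
    rw [← autFun_apply, autFun_pow _ _ y.2]
    have h1 := (iterate_congr_on (fun z hz => autFun_mkAut hbK himgW hz) hbWmaps m' y y.2).1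
    rw [h1, hbn _ (hW₀R y.2)]
    rfl
  have hγcop : (orderOf (mkAut hbK himgW)).Coprime p := by
    have h2 : orderOf (mkAut hbK himgW) ∣ m' := orderOf_dvd_of_pow_eq_one hγpow
    exact Nat.Coprime.coprime_dvd_left h2 ((Nat.Prime.coprime_iff_not_dvd hp).2 hm').symm
  have hd2 : ∀ z ∈ centralizerIn S Y ⊓ centralizerIn S T, z⁻¹ * b z ∈ Y := by
    intro z hz
    apply hhyp
    apply Subgroup.subset_closure
    refine ⟨Y ⊔ (centralizerIn S Y ⊓ centralizerIn S T), ⟨mkAut hbK himgW, hγK⟩,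
      ⟨z, Subgroup.mem_sup_right hz⟩, hW₀C, Subgroup.subset_closure ?_, rfl⟩
    show (orderOf (⟨mkAut hbK himgW, hγK⟩ : (centralizerSystem F T hTS).autGroup
      (Y ⊔ (centralizerIn S Y ⊓ centralizerIn S T)))).Coprime p
    rw [← Subgroup.orderOf_coe]
    exact hγcop
  -- step 3: `[C_S(Y), b] ≤ Y`
  have hcore : ∀ c ∈ centralizerIn S Y, c⁻¹ * b c ∈ Y := by
    intro c hc
    have hw := hd1 c hc
    have hy₁ := hd2 _ hw
    have hcR : c ∈ Y ⊔ centralizerIn S Y := Subgroup.mem_sup_right hc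
    obtain ⟨w, hw_def⟩ : ∃ w, w = c⁻¹ * b c := ⟨_, rfl⟩
    rw [← hw_def] at hw hy₁ ⊢
    obtain ⟨y₁, hy₁_def⟩ : ∃ y₁, y₁ = w⁻¹ * b w := ⟨_, rfl⟩
    rw [← hy₁_def] at hy₁
    have hwC : w ∈ centralizerIn S Y := hw.1
    have hwS : w ∈ S := hwC.1
    have hwR : w ∈ Y ⊔ centralizerIn S Y := Subgroup.mem_sup_right hwC
    have hcomm : Commute w y₁ := ((mem_centralizerIn_iff.1 hwC).2 _ hy₁).symm
    have hbw : b w = w * y₁ := by rw [hy₁_def, mul_inv_cancel_left]
    have hbc : b c = c * w := by rw [hw_def, mul_inv_cancel_left]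
    have hiter : ∀ j : ℕ, ∃ y ∈ Y, b^[j] c = c * w ^ j * y := by
      intro j
      induction j with
      | zero => exact ⟨1, Y.one_mem, by simp⟩
      | succ j ih =>
        obtain ⟨y, hy, hj⟩ := ih
        refine ⟨y₁ ^ j * b y, Y.mul_mem (Y.pow_mem hy₁ j) (hbYmem y hy), ?_⟩
        rw [Function.iterate_succ_apply', hj,
          hβm.map_mul (Subgroup.mul_mem _ hcR (Subgroup.pow_mem _ hwR j)) (Subgroup.mem_sup_left hy),
          hβm.map_mul hcR (Subgroup.pow_mem _ hwR j), mor_map_pow hβm hwR j, hbc, hbw,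
          hcomm.mul_pow, pow_succ']
        simp only [mul_assoc]
    obtain ⟨y, hy, hn⟩ := hiter m'
    rw [hbn c hcR] at hn
    have hwn : w ^ m' ∈ Y := by
      have e : w ^ m' = y⁻¹ := by
        have h1 : w ^ m' * y = 1 := by
          have := congrArg (fun z => c⁻¹ * z) hn
          simp only [inv_mul_cancel] at this
          rw [mul_assoc, inv_mul_cancel_left] at this
          exact this.symm
        exact eq_inv_of_mul_eq_one_left h1
      rw [e]
      exact Y.inv_mem hy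
    obtain ⟨j, hj⟩ := hS ⟨w, hwS⟩
    have hj' : w ^ (p ^ j) = 1 := by
      have := congrArg Subtype.val hj
      simpa using this
    have hord : orderOf w ∣ p ^ j := orderOf_dvd_of_pow_eq_one hj'
    have hcop' : Nat.Coprime m' (orderOf w) :=
      Nat.Coprime.coprime_dvd_right hord
        (Nat.Coprime.pow_right j ((Nat.Prime.coprime_iff_not_dvd hp).2 hm').symm)
    obtain ⟨k', hk'⟩ := exists_pow_eq_self_of_coprime hcop'
    rw [← hk']
    exact Y.pow_mem hwn k'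
  exact ⟨b, hβm, hβY, fun c hc => ⟨hcore c hc,
    Subgroup.mul_mem _ (Subgroup.inv_mem _ hc.2) (hCβ c hc).2⟩⟩

end Cfsg.Agent.H86
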