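import Mathlib
import Cfsg.Prelude.Def_FusionSystem
import Cfsg.Agent.H86.CFEB
import Cfsg.Agent.H86.NCMain

set_option autoImplicit false
set_option maxHeartbeats 1600000

/-!
The centralizer `C_F(E)` of a normal subsystem `E` over `T`: the subsystem of `p`-power index of
`C_F(T)` over `C_S(E)` is a normal subsystem of `F`.
-/

namespace Cfsg.Agent.H86

open Cfsg Cfsg.FusionSystem Cfsg.Agent.H87

variable {Ω : Type*} [Group Ω] {S T : Subgroup Ω}

lemma nc_hyperfocal_le_focal (F : FusionSystem S) (p : ℕ) :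
    F.hyperfocalSubgroup p ≤ F.focalSubgroup := by
  unfold hyperfocalSubgroup
  rw [Subgroup.closure_le]
  rintro _ ⟨P, α, x, hP, -, rfl⟩
  obtain ⟨φ, hφ, hφα⟩ := (mem_autGroup_iff hP (α : MulAut P)).1 α.2
  apply Subgroup.subset_closure
  refine ⟨P, φ, x, hφ, ?_⟩
  rw [hφα, autFun_apply]

/-- The saturated subsystem of `p`-power index of `C_F(T)` over a subgroup `Y ≤ C_S(T)` strongly
closed in `F` and containing the hyperfocal subgroup of `C_F(T)` is normal in `F`, for `T` strongly
closed in `F`. -/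
theorem normal_of_pPow_centralizer [Finite S] {p : ℕ} [Fact p.Prime] (hS : IsPGroup p S)
    {F : FusionSystem S} (hF : F.IsSaturated p) (hTS : T ≤ S) (hTsc : F.StronglyClosed T)
    {Y : Subgroup Ω} (hYC : Y ≤ centralizerIn S T) (hYsc : F.StronglyClosed Y)
    (hhyp : (centralizerSystem F T hTS).hyperfocalSubgroup p ≤ Y)
    {D : FusionSystem Y} (hD : D.IsSaturated p) (hP : PPow D (centralizerSystem F T hTS) p) :
    D.IsNormalIn F p := by
  have hYS : Y ≤ S := hYsc.1
  haveI : Finite Y := finite_of_le hYS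
  have hYp : IsPGroup p Y := hS.to_le hYS
  have hK := centralizerSystem_isCentralizerSystem F T hTS
  have hsubF : D.IsSubsystemOf F := by
    intro P φ hφ
    have h1 := hP.1 P hφ
    rw [hK P] at h1
    exact h1.1
  have hDK : ∀ {β : MulAut Y}, β ∈ D.autGroup Y → β ∈ (centralizerSystem F T hTS).autGroup Y :=
    fun {β} hβ => (mem_autGroup_iff hYC β).2 (mor_of_subsystem hP.1 ((mem_autGroup_iff le_rfl β).1 hβ))
  refine ⟨⟨hD, hF, (isInvariantIn_iff hYS).2 ⟨hsubF, hYsc,
    autInv_of_pPow hS hF hTS hTsc hYC hYsc hD hP, frat_of_pPow hS hF hTS hTsc hYC hYsc hP⟩⟩,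
    fun α hα => ?_⟩
  have hgood : GoodExt F Y α := by
    have hfn := Cfsg.Agent.H88.fullyNormalized_self D
    obtain ⟨-, -, R, hR⟩ := saturated_fullyNormalized hYp hD hfn
    haveI : Finite (D.autGroup Y) := inferInstance
    obtain ⟨s, hs, m, hm, hsm⟩ :=
      Cfsg.Agent.H40.exists_mul_sylow_pResidual R (⟨α, hα⟩ : D.autGroup Y)
    have hα' : α = (s : MulAut Y) * (m : MulAut Y) := congrArg Subtype.val hsm
    rw [hα']
    refine GoodExt.mul hYS (GoodExt.inner hYS ?_) ?_
    · have h1 : s ∈ (R : Subgroup (D.autGroup Y)) := hs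
      rw [hR] at h1
      exact Subgroup.mem_subgroupOf.1 h1
    · have hm2 : m ∈ Subgroup.closure {g : D.autGroup Y | Nat.Coprime (orderOf g) p} := hm
      refine Subgroup.closure_induction''
        (p := fun (g : D.autGroup Y) _ => GoodExt F Y (g : MulAut Y)) ?_ ?_ ?_ ?_ hm2
      · intro x hx
        have hx' : Nat.Coprime (orderOf x) p := hx
        exact goodExt_of_coprime_pPow hS hF hTS hTsc hYC hYsc hhyp (hDK x.2)
          (by rw [Subgroup.orderOf_coe]; exact hx')
      · intro x hx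
        have hx' : Nat.Coprime (orderOf x) p := hx
        refine goodExt_of_coprime_pPow hS hF hTS hTsc hYC hYsc hhyp (hDK (x⁻¹).2) ?_
        rw [Subgroup.orderOf_coe, orderOf_inv]
        exact hx'
      · exact GoodExt.one F hYS
      · intro x y _ _ hx hy
        exact GoodExt.mul hYS hx hy
  obtain ⟨b, hb, hbα, hbc⟩ := hgood
  obtain ⟨-, himg⟩ := ext_maps hYS hb hbα
  refine ⟨mkAut hb himg, mkAut_mem hb himg, fun x => ?_, fun c hc => ?_⟩
  · show b x = _
    rw [hbα x x.2, autFun_apply]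
  · exact hbc c hc

/-- **The centralizer of a normal subsystem**: over the largest subgroup `Y` of `C_S(T)`
centralizing `E` there is a normal subsystem of `F` contained in `C_F(T)`. -/
theorem exists_centralizer_normal [Finite S] {p : ℕ} [Fact p.Prime] (hS : IsPGroup p S)
    {F : FusionSystem S} {E : FusionSystem T} (ND : NormalData p F E) (Y : Subgroup Ω)
    (hY : Y ≤ centralizerIn S T) (hEY : ∀ P : Subgroup Ω, E.Hom P ⊆ F.centralizerHom Y P)
    (hmax : ∀ Y' : Subgroup Ω, Y' ≤ centralizerIn S T →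
      (∀ P : Subgroup Ω, E.Hom P ⊆ F.centralizerHom Y' P) → Y' ≤ Y) :
    ∃ D : FusionSystem Y, D.IsNormalIn F p ∧ ∀ P : Subgroup Ω, D.Hom P ⊆ F.centralizerHom T P := by
  have hTS := ND.le
  have hTsc := ND.sc
  have hF := ND.satF
  haveI : Finite T := finite_of_le hTS
  obtain ⟨C, hCC, hCE, hCmax, hCsc⟩ := exists_centralizer_stronglyClosed hS ND
  have hYeq : Y = C := le_antisymm (hCmax Y hY hEY) (hmax C hCC hCE)
  have hYsc : F.StronglyClosed Y := by rw [hYeq]; exact hCsc
  have hK := centralizerSystem_isCentralizerSystem F T hTS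
  have hTfc : F.IsFullyCentralized T :=
    fullyCentralized_of_weaklyClosed hTS (fun f hf => imgS_eq_of_stronglyClosed hTsc hf)
  have hKsat := centralizerSystem_saturated' hS hF hTfc _ hK
  obtain ⟨hfocC, hfocE⟩ := focal_le_centralizer hS ND _ hK
  have hhyp : (centralizerSystem F T hTS).hyperfocalSubgroup p ≤ Y :=
    (nc_hyperfocal_le_focal _ p).trans (hmax _ hfocC hfocE)
  haveI : Finite (centralizerIn S T) := finite_of_le (S := S) inf_le_left
  have hCp : IsPGroup p (centralizerIn S T) := hS.to_le inf_le_left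
  obtain ⟨D, hD, hP⟩ := exists_pPow hCp hKsat hY hhyp
  refine ⟨D, normal_of_pPow_centralizer hS hF hTS hTsc hY hYsc hhyp hD hP, fun P φ hφ => ?_⟩
  have h1 := hP.1 P hφ
  rw [hK P] at h1
  exact h1

end Cfsg.Agent.H86
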