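import Mathlib
import Cfsg.Agent.H86.Ev2Fin
import Cfsg.Agent.H32.Ev2InvExP

/-!
# EV2 (helper86): the closed `r = 2` line of S5973
-/

set_option autoImplicit false

namespace Cfsg.Agent.H86.Ev2

universe u

theorem fin_invExP : StInvExP.{u} := Cfsg.Agent.H32.Ev2.invExP fin_sumType fin_oHalf

/-- The `r = 2` line of S5973 (closed). -/
theorem fin_r2P73 : StR2P73.{u} := fin_r2P73_of fin_invExP

example : StR2P73.{u} := fin_r2P73

end Cfsg.Agent.H86.Ev2
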