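import Mathlib
import Cfsg.Agent.H9.J2FDefs

set_option autoImplicit false

/-! S5321 team project (helper9), piece A5I: `A₅` is generated by its involutions. -/

namespace Cfsg.Agent.H86.J2F

open Cfsg.Agent.H9.J2F

theorem a5I : Cfsg.Agent.H9.J2F.StA5I := by
  intro s hs
  have h := Equiv.Perm.closure_cycleType_eq_two_two_eq_alternatingGroup (α := Fin 5) (by simp)
  rw [← h] at hs
  refine Subgroup.closure_mono ?_ hs
  intro g hg
  refine ⟨?_, ?_⟩
  · rw [← h]
    exact Subgroup.subset_closure hg
  · have hg' : g.cycleType = {2, 2} := hg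
    have h2 : orderOf g = 2 := by
      rw [← Equiv.Perm.lcm_cycleType, hg']
      rfl
    rw [← pow_two, ← h2]
    exact pow_orderOf_eq_one g

example : Cfsg.Agent.H9.J2F.StA5I := a5I

end Cfsg.Agent.H86.J2F
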