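import Mathlib
import Cfsg.Agent.H9.J2FDefs

set_option autoImplicit false

/-! S5321 team project (helper9), piece PZ: a nontrivial normal subgroup of a finite 2-group
contains a nontrivial central element. -/

namespace Cfsg.Agent.H86.J2F

open Cfsg.Agent.H9.J2F

universe u

theorem pZ : Cfsg.Agent.H9.J2F.StPZ.{u} := by
  intro G _ _ hG N hN hN1
  haveI := hN
  haveI : Fact (Nat.Prime 2) := ⟨Nat.prime_two⟩
  have hG' : IsPGroup 2 (ConjAct G) := hG.of_equiv ConjAct.toConjAct
  have hNp : IsPGroup 2 ↥N := hG.to_subgroup N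
  have hdvd : 2 ∣ Nat.card ↥N := by
    haveI : Nontrivial ↥N := (Subgroup.nontrivial_iff_ne_bot N).2 hN1
    obtain ⟨n, hn0, hn⟩ := hNp.nontrivial_iff_card.mp inferInstance
    rw [hn]
    exact dvd_pow_self _ (ne_of_gt hn0)
  have hfix : (1 : ↥N) ∈ MulAction.fixedPoints (ConjAct G) ↥N := by
    intro g
    exact smul_one g
  obtain ⟨b, hb, hb1⟩ := hG'.exists_fixed_point_of_prime_dvd_card_of_fixed_point ↥N hdvd hfix
  refine ⟨(b : G), b.2, ?_, ?_⟩
  · intro h
    apply hb1
    exact (Subtype.ext h).symm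
  · intro x
    have h1 := hb (ConjAct.toConjAct x)
    have h2 := congrArg Subtype.val h1
    rw [ConjAct.Subgroup.val_conj_smul, ConjAct.smul_def, ConjAct.ofConjAct_toConjAct] at h2
    calc (b : G) * x = (x * b * x⁻¹) * x := by rw [h2]
      _ = x * b := by group

example : Cfsg.Agent.H9.J2F.StPZ.{u} := pZ

end Cfsg.Agent.H86.J2F
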