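import Mathlib

set_option autoImplicit false

/-! S5321 team project (helper9), extra piece WIT: a subgroup `Q` of order 32 with centre `{1, t}`
and commutators in `{1, t}`, generated by conjugates of `t`, is not strongly closed in `C(t)`:
some conjugate of an element of `Q` centralizes `t` and is not in `Q`. -/

namespace Cfsg.Agent.H86.J2F

universe u

theorem wit {J : Type u} [Group J] [Finite J] (t : J) (Q : Subgroup J)
    (hQc : Nat.card ↥Q = 32) (htQ : t ∈ Q) (ht1 : t ≠ 1) (hQt : ∀ q ∈ Q, q * t = t * q)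
    (hZ : ∀ q ∈ Q, (∀ q' ∈ Q, q * q' = q' * q) → q = 1 ∨ q = t)
    (hcomm : ∀ x ∈ Q, ∀ y ∈ Q, x * y * x⁻¹ * y⁻¹ = 1 ∨ x * y * x⁻¹ * y⁻¹ = t)
    (hgen : Q ≤ Subgroup.closure {x : J | x ∈ Q ∧ ∃ d : J, x = d * t * d⁻¹}) :
    ∃ x ∈ Q, ∃ d : J, d * x * d⁻¹ * t = t * (d * x * d⁻¹) ∧ d * x * d⁻¹ ∉ Q := by
  classical
  by_contra hcon
  push Not at hcon
  -- `t * t = 1`
  have htt : t * t = 1 := by
    rcases hZ (t * t) (Q.mul_mem htQ htQ) (fun q' hq' => by
      have h := hQt q' hq'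
      calc t * t * q' = t * (t * q') := by group
        _ = t * (q' * t) := by rw [h]
        _ = (t * q') * t := by group
        _ = (q' * t) * t := by rw [h]
        _ = q' * (t * t) := by group) with h | h
    · exact h
    · exfalso
      apply ht1
      calc t = t⁻¹ * (t * t) := by group
        _ = t⁻¹ * t := by rw [h]
        _ = 1 := by group
  -- a conjugate `a ≠ t` of `t` in `Q`
  obtain ⟨g, haQ, hat⟩ : ∃ g : J, g * t * g⁻¹ ∈ Q ∧ g * t * g⁻¹ ≠ t := by
    by_contra hno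
    push Not at hno
    have h1 : Q ≤ Subgroup.zpowers t := by
      refine hgen.trans ?_
      rw [Subgroup.closure_le]
      rintro x ⟨hxQ, d, rfl⟩
      rw [hno d hxQ]
      exact Subgroup.mem_zpowers t
    have h2 : Nat.card ↥Q ≤ Nat.card ↥(Subgroup.zpowers t) := Subgroup.card_le_of_le h1
    rw [Nat.card_zpowers, hQc] at h2
    have h3 : orderOf t ≤ 2 :=
      orderOf_le_of_pow_eq_one (by norm_num) (by rw [pow_two]; exact htt)
    omega
  set a : J := g * t * g⁻¹ with ha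
  have ha1 : a ≠ 1 := by
    intro h
    apply ht1
    calc t = g⁻¹ * (g * t * g⁻¹) * g := by group
      _ = g⁻¹ * 1 * g := by rw [← ha, h]
      _ = 1 := by group
  -- elements of `Q` commuting with `a` are conjugated into `Q` by `g⁻¹`
  have hD1 : ∀ x ∈ Q, x * a = a * x → g⁻¹ * x * g ∈ Q := by
    intro x hx hxa
    have h := hcon x hx g⁻¹ (by
      calc g⁻¹ * x * g⁻¹⁻¹ * t = g⁻¹ * (x * (g * t * g⁻¹)) * g := by group
        _ = g⁻¹ * ((g * t * g⁻¹) * x) * g := by rw [← ha, hxa]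
        _ = t * (g⁻¹ * x * g⁻¹⁻¹) := by group)
    rw [inv_inv] at h
    exact h
  -- they commute pairwise
  have hD2 : ∀ x ∈ Q, x * a = a * x → ∀ y ∈ Q, y * a = a * y → x * y = y * x := by
    intro x hx hxa y hy hya
    have hc1 := hcomm x hx y hy
    have hc2 := hcomm _ (hD1 x hx hxa) _ (hD1 y hy hya)
    have e : g⁻¹ * x * g * (g⁻¹ * y * g) * (g⁻¹ * x * g)⁻¹ * (g⁻¹ * y * g)⁻¹ =
        g⁻¹ * (x * y * x⁻¹ * y⁻¹) * g := by group
    rw [e] at hc2
    have hone : x * y * x⁻¹ * y⁻¹ = 1 := by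
      rcases hc1 with h | h
      · exact h
      · exfalso
        rcases hc2 with h2 | h2
        · rw [h] at h2
          apply ht1
          calc t = g * (g⁻¹ * t * g) * g⁻¹ := by group
            _ = g * 1 * g⁻¹ := by rw [h2]
            _ = 1 := by group
        · rw [h] at h2
          apply hat
          rw [ha]
          calc g * t * g⁻¹ = g * (g⁻¹ * t * g) * g⁻¹ := by rw [h2]
            _ = t := by group
    calc x * y = (x * y * x⁻¹ * y⁻¹) * (y * x) := by group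
      _ = y * x := by rw [hone, one_mul]
  -- `a` is not central in `Q`
  have hnc : ¬ ∀ q' ∈ Q, a * q' = q' * a := by
    intro h
    rcases hZ a haQ h with h1 | h1
    · exact ha1 h1
    · exact hat h1
  push Not at hnc
  obtain ⟨y, hyQ, hya⟩ := hnc
  have hyt : y * a * y⁻¹ * a⁻¹ = t := by
    rcases hcomm y hyQ a haQ with h | h
    · exfalso
      apply hya
      calc a * y = (y * a * y⁻¹ * a⁻¹)⁻¹ * (y * a) := by group
        _ = y * a := by rw [h]; group
    · exact h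
  -- `Q = D ∪ y D`
  have hcover : ∀ q ∈ Q, q * a = a * q ∨ (y⁻¹ * q) * a = a * (y⁻¹ * q) := by
    intro q hq
    rcases hcomm q hq a haQ with h | h
    · left
      calc q * a = (q * a * q⁻¹ * a⁻¹) * (a * q) := by group
        _ = a * q := by rw [h, one_mul]
    · right
      have h2 : q * a * q⁻¹ = y * a * y⁻¹ := by
        calc q * a * q⁻¹ = (q * a * q⁻¹ * a⁻¹) * a := by group
          _ = (y * a * y⁻¹ * a⁻¹) * a := by rw [h, hyt]
          _ = y * a * y⁻¹ := by group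
      calc y⁻¹ * q * a = y⁻¹ * (q * a * q⁻¹) * q := by group
        _ = y⁻¹ * (y * a * y⁻¹) * q := by rw [h2]
        _ = a * (y⁻¹ * q) := by group
  obtain ⟨D, hD⟩ : ∃ D : Set J, D = {x : J | x ∈ Q ∧ x * a = a * x} := ⟨_, rfl⟩
  have hDmem : ∀ x, x ∈ D ↔ (x ∈ Q ∧ x * a = a * x) := by
    intro x
    rw [hD]
    exact Iff.rfl
  have hDfin : D.Finite := Set.toFinite D
  have hcard : 32 ≤ 2 * D.ncard := by
    have h1 : (Q : Set J) ⊆ D ∪ (fun d => y * d) '' D := by
      intro q hq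
      rcases hcover q hq with h | h
      · left
        exact (hDmem q).2 ⟨hq, h⟩
      · right
        refine ⟨y⁻¹ * q, (hDmem _).2 ⟨Q.mul_mem (Q.inv_mem hyQ) hq, h⟩, ?_⟩
        show y * (y⁻¹ * q) = q
        group
    have h2 : (Q : Set J).ncard ≤ (D ∪ (fun d => y * d) '' D).ncard :=
      Set.ncard_le_ncard h1 (Set.toFinite _)
    have h3 : (D ∪ (fun d => y * d) '' D).ncard ≤ D.ncard + ((fun d => y * d) '' D).ncard :=
      Set.ncard_union_le _ _
    have h4 : ((fun d => y * d) '' D).ncard ≤ D.ncard := Set.ncard_image_le hDfin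
    have h5 : (Q : Set J).ncard = 32 := by
      rw [← hQc]
      exact (Nat.card_coe_set_eq (Q : Set J)).symm
    omega
  have hker : ∀ d ∈ D, d * y = y * d → d = 1 ∨ d = t := by
    intro d hd hdy
    rw [hDmem] at hd
    apply hZ d hd.1
    intro q hq
    rcases hcover q hq with h | h
    · exact hD2 d hd.1 hd.2 q hq h
    · have h6 := hD2 d hd.1 hd.2 (y⁻¹ * q) (Q.mul_mem (Q.inv_mem hyQ) hq) h
      calc d * q = d * y * (y⁻¹ * q) := by group
        _ = y * (d * (y⁻¹ * q)) := by rw [hdy]; group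
        _ = y * ((y⁻¹ * q) * d) := by rw [h6]
        _ = q * d := by group
  have hval : ∀ d ∈ D, d ≠ 1 → d ≠ t → d * y * d⁻¹ * y⁻¹ = t := by
    intro d hd h1 ht
    rcases hcomm d ((hDmem d).1 hd).1 y hyQ with h | h
    · exfalso
      have h7 : d * y = y * d := by
        calc d * y = (d * y * d⁻¹ * y⁻¹) * (y * d) := by group
          _ = y * d := by rw [h, one_mul]
      rcases hker d hd h7 with h' | h'
      · exact h1 h'
      · exact ht h'
    · exact h
  -- choose `d1`, `d2`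
  have h2 : ({1, t} : Set J).ncard < D.ncard := by
    have h := Set.ncard_insert_le (1 : J) ({t} : Set J)
    rw [Set.ncard_singleton] at h
    omega
  obtain ⟨d1, hd1D, hd1⟩ := Set.exists_mem_notMem_of_ncard_lt_ncard h2 (Set.toFinite _)
  have h4 : ({1, t, d1⁻¹, d1⁻¹ * t} : Set J).ncard < D.ncard := by
    have ha := Set.ncard_insert_le (1 : J) ({t, d1⁻¹, d1⁻¹ * t} : Set J)
    have hb := Set.ncard_insert_le t ({d1⁻¹, d1⁻¹ * t} : Set J)
    have hc := Set.ncard_insert_le d1⁻¹ ({d1⁻¹ * t} : Set J)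
    rw [Set.ncard_singleton] at hc
    omega
  obtain ⟨d2, hd2D, hd2⟩ := Set.exists_mem_notMem_of_ncard_lt_ncard h4 (Set.toFinite _)
  simp only [Set.mem_insert_iff, Set.mem_singleton_iff, not_or] at hd1 hd2
  have hd1D' := (hDmem d1).1 hd1D
  have hd2D' := (hDmem d2).1 hd2D
  have hv1 := hval d1 hd1D hd1.1 hd1.2
  have hv2 := hval d2 hd2D hd2.1 hd2.2.1
  have hprodD : d1 * d2 ∈ D := by
    rw [hDmem]
    refine ⟨Q.mul_mem hd1D'.1 hd2D'.1, ?_⟩
    calc d1 * d2 * a = d1 * (d2 * a) := by group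
      _ = d1 * (a * d2) := by rw [hd2D'.2]
      _ = (d1 * a) * d2 := by group
      _ = (a * d1) * d2 := by rw [hd1D'.2]
      _ = a * (d1 * d2) := by group
  have hprod : (d1 * d2) * y = y * (d1 * d2) := by
    have ht1' : d1 * t = t * d1 := hQt d1 hd1D'.1
    have h8 : (d1 * d2) * y * (d1 * d2)⁻¹ * y⁻¹ = 1 := by
      calc (d1 * d2) * y * (d1 * d2)⁻¹ * y⁻¹
          = d1 * (d2 * y * d2⁻¹ * y⁻¹) * y * d1⁻¹ * y⁻¹ := by group
        _ = d1 * t * y * d1⁻¹ * y⁻¹ := by rw [hv2]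
        _ = t * d1 * y * d1⁻¹ * y⁻¹ := by rw [ht1']
        _ = t * (d1 * y * d1⁻¹ * y⁻¹) := by group
        _ = t * t := by rw [hv1]
        _ = 1 := htt
    calc d1 * d2 * y = ((d1 * d2) * y * (d1 * d2)⁻¹ * y⁻¹) * (y * (d1 * d2)) := by group
      _ = y * (d1 * d2) := by rw [h8, one_mul]
  rcases hker (d1 * d2) hprodD hprod with h | h
  · apply hd2.2.2.1
    calc d2 = d1⁻¹ * (d1 * d2) := by group
      _ = d1⁻¹ := by rw [h, mul_one]
  · apply hd2.2.2.2
    calc d2 = d1⁻¹ * (d1 * d2) := by group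
      _ = d1⁻¹ * t := by rw [h]

example {J : Type u} [Group J] [Finite J] (t : J) (Q : Subgroup J)
    (hQc : Nat.card ↥Q = 32) (htQ : t ∈ Q) (ht1 : t ≠ 1) (hQt : ∀ q ∈ Q, q * t = t * q)
    (hZ : ∀ q ∈ Q, (∀ q' ∈ Q, q * q' = q' * q) → q = 1 ∨ q = t)
    (hcomm : ∀ x ∈ Q, ∀ y ∈ Q, x * y * x⁻¹ * y⁻¹ = 1 ∨ x * y * x⁻¹ * y⁻¹ = t)
    (hgen : Q ≤ Subgroup.closure {x : J | x ∈ Q ∧ ∃ d : J, x = d * t * d⁻¹}) :
    ∃ x ∈ Q, ∃ d : J, d * x * d⁻¹ * t = t * (d * x * d⁻¹) ∧ d * x * d⁻¹ ∉ Q :=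
  wit t Q hQc htQ ht1 hQt hZ hcomm hgen

end Cfsg.Agent.H86.J2F
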