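import Mathlib
import Cfsg.Agent.H9.J2FDefs
import Cfsg.Agent.H86.J2FWit

set_option autoImplicit false

/-! S5321 team project (helper9), extra piece WIT in the form of the field `FD.hwit`. -/

namespace Cfsg.Agent.H86.J2F

open Cfsg.Agent.H9.J2F

universe u

/-- The field `hwit` of `Cfsg.Agent.H9.J2F.FD` follows from the other data and the fact that the
commutators of `Q = kerJ C φ` lie in `{1, t}`. -/
theorem wit_fd {J : Type u} [Group J] [Finite J] (t : J) (C : Subgroup J)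
    (φ : ↥C →* Equiv.Perm (Fin 5)) (hC : ∀ g : J, g ∈ C ↔ g * t = t * g)
    (hker : Nat.card ↥(kerJ C φ) = 32) (htQ : t ∈ kerJ C φ) (ht1 : t ≠ 1)
    (hZ : ∀ q ∈ kerJ C φ, (∀ q' ∈ kerJ C φ, q * q' = q' * q) → q = 1 ∨ q = t)
    (hcomm : ∀ x ∈ kerJ C φ, ∀ y ∈ kerJ C φ, x * y * x⁻¹ * y⁻¹ = 1 ∨ x * y * x⁻¹ * y⁻¹ = t)
    (hgen : kerJ C φ ≤ Subgroup.closure {x : J | x ∈ kerJ C φ ∧ ∃ d : J, x = d * t * d⁻¹}) :
    ∃ x ∈ kerJ C φ, ∃ d : J, d * x * d⁻¹ ∈ C ∧ d * x * d⁻¹ ∉ kerJ C φ := by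
  obtain ⟨x, hx, d, h1, h2⟩ := wit t (kerJ C φ) hker htQ ht1
    (fun q hq => (hC q).1 (kerJ_le C φ hq)) hZ hcomm hgen
  exact ⟨x, hx, d, (hC _).2 h1, h2⟩

end Cfsg.Agent.H86.J2F
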