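import Cfsg.Agent.H10.J2S.OutChk

/-!
# S2066, piece NOTINN (helper86 for helper10): the automorphism inducing `nu` is not inner
-/

set_option autoImplicit false

namespace Cfsg.Agent.H86.J2Out

open Cfsg.Agent.H10.J2S Cfsg.Agent.H9.J2 Cfsg.Spor MulAction

theorem not_inner {φ : MulAut J2} (hφ : Ind φ nu) :
    φ ∉ (MulAut.conj : J2 →* MulAut J2).range := by
  rintro ⟨g, rfl⟩
  obtain ⟨fg, hfg⟩ := exists_Rl g
  have hc : Ind (MulAut.conj g) fg := Ind.conj hfg
  have key : ∀ p, p < 315 → fg p = nu p := by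
    intro p hp
    obtain ⟨e1, l1⟩ := hc p hp
    obtain ⟨e2, l2⟩ := hφ p hp
    exact io_xk_inj l1 l2 (e1.symm.trans e2)
  obtain ⟨n0, n19, n12, n2, -⟩ := nu_vals
  have g0 : g • xk 0 = xk 0 := by
    rw [(hfg 0 (by norm_num)).1, key 0 (by norm_num), n0]
  have g19 : g • xk 19 = xk 19 := by
    rw [(hfg 19 (by norm_num)).1, key 19 (by norm_num), n19]
  have g12 : g • xk 12 = xk 14 := by
    rw [(hfg 12 (by norm_num)).1, key 12 (by norm_num), n12]
  have g2 : g • xk 2 = xk 2 := by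
    rw [(hfg 2 (by norm_num)).1, key 2 (by norm_num), n2]
  obtain ⟨w, hw, rfl⟩ := stab_exhaust g g0
  refine no_inner w hw ⟨?_, ?_, ?_⟩
  · obtain ⟨e, l⟩ := Rl.word w 19 (by norm_num)
    rw [g19] at e
    exact (xk_inj (by norm_num) l e).symm
  · obtain ⟨e, l⟩ := Rl.word w 12 (by norm_num)
    rw [g12] at e
    exact (xk_inj (by norm_num) l e).symm
  · obtain ⟨e, l⟩ := Rl.word w 2 (by norm_num)
    rw [g2] at e
    exact (xk_inj (by norm_num) l e).symm

end Cfsg.Agent.H86.J2Out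

/-! verbatim check of the posted statement -/
section Check
open Cfsg.Agent.H10.J2S Cfsg.Agent.H9.J2 Cfsg.Spor MulAction

example {φ : MulAut J2} (hφ : Ind φ nu) : φ ∉ (MulAut.conj : J2 →* MulAut J2).range :=
  Cfsg.Agent.H86.J2Out.not_inner hφ

end Check
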