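import Mathlib
import Cfsg.Prelude.Def_PLocal

set_option autoImplicit false

/-!
The centre of a finite group lies in every abelian subgroup of largest order, hence in the Thompson
subgroup (abelian version).
-/

namespace Cfsg.Agent.H86

theorem center_le_thompsonSubgroupA (Q : Type*) [Group Q] [Finite Q] :
    Subgroup.center Q ≤ Cfsg.thompsonSubgroupA Q := by
  have hbot : IsMulCommutative ↥(⊥ : Subgroup Q) :=
    Subgroup.le_centralizer_iff_isMulCommutative.1 bot_le
  have : Nonempty {B : Subgroup Q // IsMulCommutative ↥B} := ⟨⟨⊥, hbot⟩⟩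
  obtain ⟨⟨A, hA⟩, hAmax⟩ :=
    Finite.exists_max (fun B : {B : Subgroup Q // IsMulCommutative ↥B} => Nat.card B.1)
  have hAc : A ≤ Subgroup.centralizer (A : Set Q) :=
    Subgroup.le_centralizer_iff_isMulCommutative.2 hA
  have h1 : A ⊔ Subgroup.center Q ≤ Subgroup.centralizer (A : Set Q) :=
    sup_le hAc (Subgroup.center_le_centralizer _)
  have h2 : A ≤ Subgroup.centralizer ((A ⊔ Subgroup.center Q : Subgroup Q) : Set Q) :=
    Subgroup.le_centralizer_iff.1 h1
  have h3 : A ⊔ Subgroup.center Q ≤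
      Subgroup.centralizer ((A ⊔ Subgroup.center Q : Subgroup Q) : Set Q) :=
    sup_le h2 (Subgroup.center_le_centralizer _)
  have hAZ : IsMulCommutative ↥(A ⊔ Subgroup.center Q) :=
    Subgroup.le_centralizer_iff_isMulCommutative.1 h3
  have hcard : Nat.card ↥(A ⊔ Subgroup.center Q) ≤ Nat.card A := hAmax ⟨_, hAZ⟩
  have heq : A = A ⊔ Subgroup.center Q := Subgroup.eq_of_le_of_card_ge le_sup_left hcard
  have hmem : A ∈ Cfsg.maxAbelianSubgroups Q := ⟨hA, fun B hB => hAmax ⟨B, hB⟩⟩
  exact (le_sup_right.trans heq.ge).trans (le_sSup hmem)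

end Cfsg.Agent.H86
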