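import Mathlib
import Cfsg.Prelude.Def_PLocal
import Cfsg.Agent.S0650
import Cfsg.Agent.H29.ThompsonInt
import Cfsg.Agent.H86.GrpLemmas
import Cfsg.Agent.H86.MaxClassEss
import Cfsg.Agent.H86.FusAut
import Cfsg.Agent.H86.FrattiniFus

set_option autoImplicit false
set_option maxHeartbeats 1600000

/-!
The Thompson subgroup (abelian version) satisfies the quadratic element condition: if `J(P)` is not normal
in the finite group `G` with Sylow `p`-subgroup `P`, then some abelian subgroup `A` of `P` of largest order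
is not contained in `O_p(G)` and is normalized by `Z(O_p(G))` (Thompson's replacement theorem), so every
`g ∈ A` outside `O_p(G)` has `[Z(O_p(G)), g, g] = 1`.
-/

namespace Cfsg.Agent.H86

open Cfsg Cfsg.Agent.H29
open scoped commutatorElement

/-- Replacement, existential form. -/
lemma exists_replacement {S : Type*} [Group S] [Finite S] {p : ℕ} [Fact p.Prime] (hS : IsPGroup p S)
    (B : Subgroup S) [B.Normal] (hB : IsMulCommutative B) (A : Subgroup S) (hA : IsMulCommutative A)
    (hnot : ¬ B ≤ Subgroup.normalizer (A : Set S)) :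
    ∃ Astar : Subgroup S, Nat.card Astar = Nat.card A ∧ IsMulCommutative Astar ∧
      A ⊓ B < Astar ⊓ B ∧ Astar ≤ Subgroup.normalizer (A : Set S) := by
  obtain ⟨b, hb, hbN, hbA⟩ := exists_mem_normalizer_not_mem' hS B _ hnot
  have hBA : ⁅B, B⁆ ≤ A := by
    have h1 : ⁅B, B⁆ = ⊥ := by
      rw [Subgroup.commutator_eq_bot_iff_le_centralizer]
      exact Subgroup.le_centralizer_iff_isMulCommutative.mpr hB
    rw [h1]
    exact bot_le
  have res := Cfsg.Agent.S0650.result hS B (fun _ => hB) A hA hBA hnot b hb hbN hbA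
  exact ⟨_, res.1, res.2.1, res.2.2.2.1, res.2.2.2.2.2.2.1⟩

theorem thompsonA_quadratic {G : Type*} [Group G] [Finite G] {p : ℕ} [Fact p.Prime] (P : Sylow p G)
    (hnot : ¬ (((Cfsg.thompsonSubgroupA ↥(P : Subgroup G)).map (P : Subgroup G).subtype :
      Subgroup G)).Normal) :
    ∃ g : G, g ∈ (P : Subgroup G) ∧ g ∉ Cfsg.pCore p G ∧
      ⁅⁅Subgroup.center ↥(Cfsg.pCore p G) |>.map (Cfsg.pCore p G).subtype, Subgroup.zpowers g⁆,
        Subgroup.zpowers g⁆ = ⊥ := by
  classical
  have hJ : (Cfsg.thompsonSubgroupA ↥(P : Subgroup G)).map (P : Subgroup G).subtype =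
      nJ 0 (P : Subgroup G) := thompsonSubgroupAOf_eq (P : Subgroup G)
  rw [hJ] at hnot
  have hQn : (pCore p G).Normal := pCore_normal p G
  have hQP : pCore p G ≤ P := pCore_le_sylow P
  have hVm : ∀ a, a ∈ (Subgroup.center ↥(pCore p G)).map (pCore p G).subtype ↔
      a ∈ pCore p G ∧ ∀ q ∈ pCore p G, q * a = a * q := fun a => mem_map_center_iff
  have hVconj : ∀ (k a : G), a ∈ (Subgroup.center ↥(pCore p G)).map (pCore p G).subtype →
      k * a * k⁻¹ ∈ (Subgroup.center ↥(pCore p G)).map (pCore p G).subtype := by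
    intro k a ha
    obtain ⟨haQ, hac⟩ := (hVm a).1 ha
    refine (hVm _).2 ⟨hQn.conj_mem a haQ k, fun q hq => ?_⟩
    have hq' : k⁻¹ * q * k ∈ pCore p G := by
      have := hQn.conj_mem q hq k⁻¹
      simpa using this
    have h := hac _ hq'
    calc q * (k * a * k⁻¹) = k * ((k⁻¹ * q * k) * a) * k⁻¹ := by group
      _ = k * (a * (k⁻¹ * q * k)) * k⁻¹ := by rw [h]
      _ = k * a * k⁻¹ * q := by group
  have hVnormal : ((Subgroup.center ↥(pCore p G)).map (pCore p G).subtype).Normal :=
    ⟨fun a ha k => hVconj k a ha⟩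
  have hVcomm : IsMulCommutative ↥((Subgroup.center ↥(pCore p G)).map (pCore p G).subtype) :=
    Subgroup.map_isMulCommutative _ _
  have hVP : (Subgroup.center ↥(pCore p G)).map (pCore p G).subtype ≤ (P : Subgroup G) :=
    fun a ha => hQP ((hVm a).1 ha).1
  generalize (Subgroup.center ↥(pCore p G)).map (pCore p G).subtype = V at hVm hVconj hVnormal hVcomm hVP
  -- Step 1: some member of `nMax` is not contained in `O_p(G)`
  have hex : ∃ A ∈ nMax 0 (P : Subgroup G), ¬ A ≤ pCore p G := by
    by_contra hcon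
    push Not at hcon
    apply hnot
    have hmap : ∀ k : G, (nJ 0 (P : Subgroup G)).map (MulAut.conj k).toMonoidHom ≤
        nJ 0 (P : Subgroup G) := by
      intro k
      rw [Subgroup.map_le_iff_le_comap]
      apply sSup_le
      intro A hA
      rw [← Subgroup.map_le_iff_le_comap]
      apply le_sSup
      have hAQ := hcon A hA
      have hA' : A.map (MulAut.conj k).toMonoidHom ∈ nAb 0 (P : Subgroup G) := by
        have := hA.1.2.1
        refine ⟨?_, Subgroup.map_isMulCommutative _ _, fun _ _ => pow_zero _⟩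
        rintro _ ⟨a, ha, rfl⟩
        exact hQP (hQn.conj_mem a (hAQ ha) k)
      exact mem_nMax_of_card_eq hA hA' (Subgroup.card_map_of_injective (MulAut.conj k).injective)
    exact ⟨fun x hx k => hmap k ⟨x, hx, rfl⟩⟩
  -- Step 2: choose one meeting `V` as much as possible
  obtain ⟨A₀, hA₀, hA₀Q⟩ := hex
  have hne : Nonempty {A : Subgroup G // A ∈ nMax 0 (P : Subgroup G) ∧ ¬ A ≤ pCore p G} :=
    ⟨⟨A₀, hA₀, hA₀Q⟩⟩
  obtain ⟨⟨A, hA, hAQ⟩, hmax⟩ := Finite.exists_max
    (fun A : {A : Subgroup G // A ∈ nMax 0 (P : Subgroup G) ∧ ¬ A ≤ pCore p G} =>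
      Nat.card ((A : Subgroup G) ⊓ V : Subgroup G))
  have hAP : A ≤ (P : Subgroup G) := hA.1.1
  have hAc : IsMulCommutative A := hA.1.2.1
  -- Step 3: `V` normalizes `A`
  have hVN : V ≤ Subgroup.normalizer (A : Set G) := by
    by_contra hVN
    haveI hB'n : (V.subgroupOf (P : Subgroup G)).Normal := hVnormal.subgroupOf _
    have hB'c : IsMulCommutative (V.subgroupOf (P : Subgroup G)) :=
      Subgroup.subgroupOf_isMulCommutative _ _
    have hA'c : IsMulCommutative (A.subgroupOf (P : Subgroup G)) :=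
      Subgroup.subgroupOf_isMulCommutative _ _
    have hnot' : ¬ V.subgroupOf (P : Subgroup G) ≤
        Subgroup.normalizer ((A.subgroupOf (P : Subgroup G) : Subgroup ↥(P : Subgroup G)) :
          Set ↥(P : Subgroup G)) := by
      intro hle
      apply hVN
      intro v hv
      apply mem_normalizer_of_conj_le
      intro x hx
      have h1 : (⟨v, hVP hv⟩ : ↥(P : Subgroup G)) ∈ V.subgroupOf (P : Subgroup G) :=
        Subgroup.mem_subgroupOf.2 hv
      have h2 := (Subgroup.mem_normalizer_iff.1 (hle h1) ⟨x, hAP hx⟩).1 (Subgroup.mem_subgroupOf.2 hx)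
      exact Subgroup.mem_subgroupOf.1 h2
    obtain ⟨Astar', hcard, hcomm, hlt, hAsN⟩ := exists_replacement P.isPGroup'
      (V.subgroupOf (P : Subgroup G)) hB'c (A.subgroupOf (P : Subgroup G)) hA'c hnot'
    have hAstar_nAb : Astar'.map (P : Subgroup G).subtype ∈ nAb 0 (P : Subgroup G) :=
      ⟨Subgroup.map_subtype_le _, Subgroup.map_isMulCommutative _ _, fun _ _ => pow_zero _⟩
    have hcardA : Nat.card (Astar'.map (P : Subgroup G).subtype) = Nat.card A := by
      rw [Subgroup.card_subtype, hcard]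
      exact Nat.card_congr (Subgroup.subgroupOfEquivOfLe hAP).toEquiv
    have hAstar : Astar'.map (P : Subgroup G).subtype ∈ nMax 0 (P : Subgroup G) :=
      mem_nMax_of_card_eq hA hAstar_nAb hcardA
    have hsub : (Astar'.map (P : Subgroup G).subtype).subgroupOf (P : Subgroup G) = Astar' :=
      Subgroup.comap_map_eq_self_of_injective (Subgroup.subtype_injective _) _
    have hcard1 : ∀ X : Subgroup G, X ≤ (P : Subgroup G) →
        Nat.card ((X.subgroupOf (P : Subgroup G) ⊓ V.subgroupOf (P : Subgroup G) :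
          Subgroup ↥(P : Subgroup G))) = Nat.card (X ⊓ V : Subgroup G) := by
      intro X hX
      have h1 : X.subgroupOf (P : Subgroup G) ⊓ V.subgroupOf (P : Subgroup G) =
          (X ⊓ V).subgroupOf (P : Subgroup G) := by
        ext y
        simp [Subgroup.mem_subgroupOf]
      rw [h1]
      exact Nat.card_congr (Subgroup.subgroupOfEquivOfLe (inf_le_left.trans hX)).toEquiv
    have hlt' : Nat.card (A ⊓ V : Subgroup G) <
        Nat.card (Astar'.map (P : Subgroup G).subtype ⊓ V : Subgroup G) := by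
      rw [← hcard1 A hAP, ← hcard1 _ hAstar.1.1, hsub]
      exact card_lt_card_of_lt hlt
    have hAstarQ : Astar'.map (P : Subgroup G).subtype ≤ pCore p G := by
      by_contra hnQ
      have := hmax ⟨_, hAstar, hnQ⟩
      simp only at this
      omega
    have hVle : V ≤ Astar'.map (P : Subgroup G).subtype := by
      refine absorb hAstar ⟨hVP, hVcomm, fun _ _ => pow_zero _⟩ ?_
      intro v hv
      rw [Subgroup.mem_centralizer_iff]
      intro x hx
      exact ((hVm v).1 hv).2 x (hAstarQ hx)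
    apply hVN
    refine hVle.trans ?_
    rintro _ ⟨x', hx', rfl⟩
    apply mem_normalizer_of_conj_le
    intro a ha
    have h2 := (Subgroup.mem_normalizer_iff.1 (hAsN hx') ⟨a, hAP ha⟩).1 (Subgroup.mem_subgroupOf.2 ha)
    exact Subgroup.mem_subgroupOf.1 h2
  -- Step 4
  obtain ⟨g, hgA, hgQ⟩ := SetLike.not_le_iff_exists.1 hAQ
  refine ⟨g, hAP hgA, hgQ, ?_⟩
  have hzA : Subgroup.zpowers g ≤ A := by
    rw [Subgroup.zpowers_le]
    exact hgA
  rw [Subgroup.commutator_eq_bot_iff_le_centralizer]
  have h1 : ⁅V, Subgroup.zpowers g⁆ ≤ A := by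
    rw [Subgroup.commutator_le]
    intro v hv h hh
    have hvN := hVN hv
    have h2 : v * h * v⁻¹ ∈ A := (Subgroup.mem_normalizer_iff.1 hvN h).1 (hzA hh)
    rw [commutatorElement_def]
    exact A.mul_mem h2 (A.inv_mem (hzA hh))
  refine h1.trans ?_
  intro a ha
  rw [Subgroup.mem_centralizer_iff]
  intro h hh
  exact setLike_mul_comm (s := A) (hzA hh) ha

end Cfsg.Agent.H86
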