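import Mathlib
import Cfsg.Prelude.Def_FusionSystem
import Cfsg.Agent.H86.WClosure

set_option autoImplicit false
set_option maxHeartbeats 800000

/-!
`Z(N_F(W(S))) = Z(F)` for a functor `W` controlling weak closure of elements in finite groups.
-/

namespace Cfsg.Agent.H86

open Cfsg Cfsg.FusionSystem

universe u

variable {Ω : Type u} [Group Ω]

theorem wc_center {p : ℕ} [Fact p.Prime]
    {W : ∀ (Q : Type u) [Group Q], Subgroup Q}
    (hW2 : ∀ (Q R : Type u) [Group Q] [Group R] [Finite Q], IsPGroup p Q →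
      ∀ φ : Q ≃* R, (W Q).map φ.toMonoidHom = W R)
    (hWZ : ∀ (Q : Type u) [Group Q] [Finite Q], IsPGroup p Q → Subgroup.center Q ≤ W Q)
    (hC : ∀ (G : Type u) [Group G] [Finite G] (P : Sylow p G),
      Cfsg.pCore p G ⊓ Subgroup.center G = Cfsg.pCore p G ⊓
        (Subgroup.center ↥(Subgroup.normalizer (((W ↥(P : Subgroup G)).map (P : Subgroup G).subtype :
          Subgroup G) : Set G))).map
          (Subgroup.normalizer (((W ↥(P : Subgroup G)).map (P : Subgroup G).subtype :
            Subgroup G) : Set G)).subtype)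
    {S : Subgroup Ω} [Finite S] (hS : IsPGroup p S) (F : FusionSystem S) (hF : F.IsSaturated p)
    (N : FusionSystem (normalizerIn S (WS W S))) (hN : F.IsNormalizerSystem (WS W S) N) :
    N.center = F.center := by
  have hVS : WS W S ≤ S := WS_le W S
  have hVn : ∀ s ∈ S, ∀ y ∈ WS W S, s * y * s⁻¹ ∈ WS W S := fun s hs y hy =>
    WS_conj_mem hW2 hS (Subgroup.le_normalizer hs) hy
  have hNS : normalizerIn S (WS W S) = S := by
    apply le_antisymm inf_le_left
    intro s hs
    refine ⟨hs, mem_normalizer_of_forall_conj_mem (fun y hy => hVn s hs y hy) (fun y hy => ?_)⟩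
    have h := hVn s⁻¹ (S.inv_mem hs) y hy
    simpa using h
  have hVfn : F.IsFullyNormalized (WS W S) := fullyNormalized_of_normal F hVS hVn
  have hNsat : N.IsSaturated p := Cfsg.Agent.H88.normalizerSystem_saturated hS hF hVfn N hN
  haveI hfinN : Finite (normalizerIn S (WS W S)) := finite_of_le (S := S) inf_le_left
  have hNp : IsPGroup p (normalizerIn S (WS W S)) := hS.to_le inf_le_left
  have hmorNF : ∀ (P : Subgroup Ω) (f : Ω → Ω), Mor N P f → Mor F P f := by
    intro P f hf
    obtain ⟨-, -, f', hf', hf'f, -⟩ := (Cfsg.Agent.H88.mor_normalizerSystem_iff hN).1 hf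
    exact (hf'.restrict le_sup_left).congr hf'f
  have hiff : ∀ Q : Subgroup Ω, N.IsCentral Q ↔ F.IsCentral Q := by
    intro Q
    rw [isCentral_iff_conjElt hNp hNsat Q, isCentral_iff_conjElt hS hF Q]
    constructor
    · rintro ⟨hQN, hfix⟩
      have hQS : Q ≤ S := hQN.trans inf_le_left
      refine ⟨hQS, fun x hx y hxy => ?_⟩
      obtain ⟨f, hf, rfl⟩ := isConjElt_iff.1 hxy
      have hxS : x ∈ S := hQS hx
      have hxN : x ∈ normalizerIn S (WS W S) := hQN hx
      have hzle : Subgroup.zpowers x ≤ normalizerIn S (WS W S) := by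
        rw [Subgroup.zpowers_le]; exact hxN
      have hxZ : ∀ s ∈ S, s * x = x * s := by
        intro s hs
        have hsN : s ∈ normalizerIn S (WS W S) := by rw [hNS]; exact hs
        have h1 := hfix x hx (s * x * s⁻¹)
          (isConjElt_iff.2 ⟨fun z => s * z * s⁻¹, Mor.conj N hzle hsN, rfl⟩)
        calc s * x = (s * x * s⁻¹) * s := by group
          _ = x * s := by rw [h1]
      have hxV : x ∈ WS W S := center_mem_WS hWZ hS hxS hxZ
      have hWS : ∀ g, Mor F (WS W S) g → imgS (WS W S) g = WS W S → g x = x := by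
        intro g hg himg
        refine hfix x hx (g x) (isConjElt_iff.2 ⟨g, ?_, rfl⟩)
        rw [Cfsg.Agent.H88.mor_normalizerSystem_iff hN]
        have hzV : Subgroup.zpowers x ≤ WS W S := by
          rw [Subgroup.zpowers_le]; exact hxV
        refine ⟨hzle, fun z hz => ?_, g, ?_, fun _ _ => rfl, himg⟩
        · have h1 : g z ∈ imgS (WS W S) g := hg.mem_imgS_of_mem (hzV hz)
          rw [himg, ← hNS] at h1
          exact (WS_le W _).trans (le_of_eq hNS.symm) (by rw [hNS] at h1; exact h1)
        · rw [sup_eq_right.2 hzV]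
          exact hg
      exact wc_main hW2 hWZ hC (Nat.card S) S rfl hS F hF x hxS hxZ hWS _ f hf (Subgroup.mem_zpowers x)
    · rintro ⟨hQS, hfix⟩
      refine ⟨by rw [hNS]; exact hQS, fun x hx y hxy => ?_⟩
      obtain ⟨f, hf, rfl⟩ := isConjElt_iff.1 hxy
      exact hfix x hx (f x) (isConjElt_iff.2 ⟨f, hmorNF _ f hf, rfl⟩)
  unfold FusionSystem.center
  congr 1
  ext Q
  exact hiff Q

end Cfsg.Agent.H86
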