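import Mathlib
import Cfsg.Prelude.Def_FusionSystem
import Cfsg.Agent.H86.FusExt
import Cfsg.Agent.H86.GrpLemmas
import Cfsg.Agent.H88.NormModel
import Cfsg.Agent.H89.Normalizer
import Cfsg.Agent.H90.Model

set_option autoImplicit false
set_option maxHeartbeats 800000

/-!
The model of the normalizer system of a fully normalized centric subgroup `Q`, packaged: a finite group
`G` with an embedding `ι` of `N_S(Q)` onto a Sylow subgroup, `C_G(O_p(G)) ≤ O_p(G)`, every automorphism of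
`Q` in the system is induced by an element of `G`, and conjugation by an element of `G` between subgroups
of `N_S(Q)` is a map of the system.
-/

namespace Cfsg.Agent.H86

open Cfsg Cfsg.FusionSystem

universe u

variable {Ω : Type u} [Group Ω] {S : Subgroup Ω}

theorem exists_model_data [Finite S] {p : ℕ} [Fact p.Prime] (hS : IsPGroup p S) {F : FusionSystem S}
    (hF : F.IsSaturated p) {Q : Subgroup Ω} (hQn : F.IsFullyNormalized Q) (hQc : F.IsCentric Q) :
    ∃ (G : Type u) (_ : Group G) (_ : Finite G) (ι : ↥(normalizerIn S Q) →* G) (T : Sylow p G),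
      Function.Injective ι ∧ (T : Subgroup G) = ι.range ∧
      Subgroup.centralizer ((pCore p G : Subgroup G) : Set G) ≤ pCore p G ∧
      ((Q.subgroupOf (normalizerIn S Q)).map ι).Normal ∧
      Subgroup.centralizer (((Q.subgroupOf (normalizerIn S Q)).map ι : Subgroup G) : Set G) ≤
        (Q.subgroupOf (normalizerIn S Q)).map ι ∧
      (∀ f, Mor F Q f → imgS Q f = Q → ∃ g : G, ∀ (y : Ω) (hy : y ∈ normalizerIn S Q), y ∈ Q →
          ∃ hfy : f y ∈ normalizerIn S Q, ι ⟨f y, hfy⟩ = g * ι ⟨y, hy⟩ * g⁻¹) ∧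
      (∀ (A : Subgroup Ω) (hA : A ≤ normalizerIn S Q) (g : G),
          (∀ a : A, g * ι ⟨a, hA a.2⟩ * g⁻¹ ∈ (T : Subgroup G)) →
          ∃ f, Mor F A f ∧ ∀ (a : Ω) (ha : a ∈ A), ∃ hfa : f a ∈ normalizerIn S Q,
            ι ⟨f a, hfa⟩ = g * ι ⟨a, hA ha⟩ * g⁻¹) := by
  have hQS : Q ≤ S := hQn.1
  have hP₁S : normalizerIn S Q ≤ S := inf_le_left
  have hQP₁ : Q ≤ normalizerIn S Q := le_normalizerIn hQS
  haveI hfinP₁ : Finite (normalizerIn S Q) := finite_of_le hP₁S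
  have hP₁p : IsPGroup p (normalizerIn S Q) := hS.to_le hP₁S
  have hE : F.IsNormalizerSystem Q (Cfsg.Agent.H89.normalizerSystem F Q hQS) :=
    Cfsg.Agent.H89.normalizerSystem_isNormalizerSystem F Q hQS
  have hEsat := Cfsg.Agent.H88.normalizerSystem_saturated hS hF hQn _ hE
  have hEn := Cfsg.Agent.H88.normalizerSystem_isNormal hQS hE
  have hEc := Cfsg.Agent.H88.normalizerSystem_isCentric hQc hE
  obtain ⟨G, _, ι, hmodel, hιQn, hιQc⟩ := Cfsg.Agent.H90.exists_model hP₁p hEsat hEn hEc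
  obtain ⟨hfinG, ⟨hinj, hreal⟩, ⟨T, hT⟩, hcon⟩ := hmodel
  refine ⟨G, inferInstance, hfinG, ι, T, hinj, hT, hcon, hιQn, hιQc, ?_, ?_⟩
  · intro f hf himg
    have hfE : Mor (Cfsg.Agent.H89.normalizerSystem F Q hQS) Q f := by
      rw [Cfsg.Agent.H88.mor_normalizerSystem_iff hE]
      refine ⟨hQP₁, fun y hy => hQP₁ ?_, f, ?_, fun _ _ => rfl, himg⟩
      · have := hf.mem_imgS_of_mem hy
        rwa [himg] at this
      · rw [sup_idem]
        exact hf
    obtain ⟨φ', hφ', hφ'f⟩ := hfE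
    have hφ'val : ∀ y : Q, φ' y ∈ normalizerIn S Q :=
      ((Cfsg.Agent.H89.normalizerSystem F Q hQS).le_of_mem hφ').2
    obtain ⟨g, hg⟩ := (hreal Q hQP₁ φ' hφ'val).1 hφ'
    refine ⟨g, fun y hy hyQ => ?_⟩
    have h1 : f y = φ' ⟨y, hyQ⟩ := (hφ'f ⟨y, hyQ⟩).symm
    have hfy : f y ∈ normalizerIn S Q := by rw [h1]; exact hφ'val _
    refine ⟨hfy, ?_⟩
    have h2 : (⟨f y, hfy⟩ : ↥(normalizerIn S Q)) = ⟨φ' ⟨y, hyQ⟩, hφ'val ⟨y, hyQ⟩⟩ := Subtype.ext h1
    rw [h2]
    exact hg ⟨y, hyQ⟩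
  · intro A hA g hval0
    let e : ↥(normalizerIn S Q) ≃* ↥(T : Subgroup G) :=
      (MonoidHom.ofInjective hinj).trans (MulEquiv.subgroupCongr hT.symm)
    have he : ∀ z : ↥(normalizerIn S Q), ((e z : ↥(T : Subgroup G)) : G) = ι z := fun z => rfl
    have hval : ∀ y : ↥A,
        (MulAut.conj g).toMonoidHom.comp (ι.comp (Subgroup.inclusion hA)) y ∈ (T : Subgroup G) :=
      fun y => hval0 y
    let φ : ↥A →* Ω :=
      (normalizerIn S Q).subtype.comp (e.symm.toMonoidHom.comp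
        (((MulAut.conj g).toMonoidHom.comp (ι.comp (Subgroup.inclusion hA))).codRestrict
          (T : Subgroup G) hval))
    have hφval : ∀ y : ↥A, φ y ∈ normalizerIn S Q := fun y =>
      (e.symm ((((MulAut.conj g).toMonoidHom.comp (ι.comp (Subgroup.inclusion hA))).codRestrict
          (T : Subgroup G) hval) y)).2
    have hφι : ∀ y : ↥A, ι ⟨φ y, hφval y⟩ = g * ι ⟨y, hA y.2⟩ * g⁻¹ := by
      intro y
      have h1 : ι ⟨φ y, hφval y⟩ = ((e ⟨φ y, hφval y⟩ : ↥(T : Subgroup G)) : G) := (he _).symm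
      rw [h1]
      have h2 : (⟨φ y, hφval y⟩ : ↥(normalizerIn S Q)) =
          e.symm ((((MulAut.conj g).toMonoidHom.comp (ι.comp (Subgroup.inclusion hA))).codRestrict
          (T : Subgroup G) hval) y) := rfl
      rw [h2, MulEquiv.apply_symm_apply]
      rfl
    have hφE : φ ∈ (Cfsg.Agent.H89.normalizerSystem F Q hQS).Hom A :=
      (hreal _ hA φ hφval).2 ⟨g, hφι⟩
    have hφF : φ ∈ F.Hom A := by
      rw [hE] at hφE
      exact hφE.1
    refine ⟨extFun A φ, mor_extFun hφF, fun a ha => ?_⟩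
    have h1 : extFun A φ a = φ ⟨a, ha⟩ := extFun_of_mem A φ ha
    have hfa : extFun A φ a ∈ normalizerIn S Q := by rw [h1]; exact hφval _
    refine ⟨hfa, ?_⟩
    have h2 : (⟨extFun A φ a, hfa⟩ : ↥(normalizerIn S Q)) = ⟨φ ⟨a, ha⟩, hφval ⟨a, ha⟩⟩ :=
      Subtype.ext h1
    rw [h2]
    exact hφι ⟨a, ha⟩

end Cfsg.Agent.H86
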