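import Cfsg.Agent.H86.EssChain
import Cfsg.Agent.H86.PFour
import Cfsg.Agent.H86.AbelSS

set_option autoImplicit false
set_option maxHeartbeats 400000

/-!
An essential subgroup isomorphic to `C_{p²} × C_{p²}` forces `p ≤ 3`.
-/

namespace Cfsg.Agent.H86

open Cfsg

variable {Ω : Type*} [Group Ω] {S : Subgroup Ω}

theorem essential_not_homocyclic_sq [Finite S] {p : ℕ} [Fact p.Prime] (hS : IsPGroup p S)
    {F : FusionSystem S} {H : Subgroup Ω} (hH : F.IsEssential p H)
    (e : ↥H ≃* Multiplicative (ZMod (p ^ 2)) × Multiplicative (ZMod (p ^ 2))) :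
    p = 2 ∨ p = 3 := by
  have hp : p.Prime := Fact.out
  by_contra hp3
  have hp5 : 5 ≤ p := by
    have h2 := hp.two_le
    have h4 : p ≠ 4 := by
      rintro rfl
      exact absurd hp (by decide)
    omega
  have hHS : H ≤ S := hH.1.1
  haveI : Finite H := finite_of_le hHS
  have hcomm : ∀ x y : H, x * y = y * x := by
    intro x y
    apply e.injective
    rw [map_mul, map_mul, mul_comm]
  have hInn : Inn H = ⊥ := by
    rw [eq_bot_iff]
    rintro _ ⟨g, rfl⟩
    rw [Subgroup.mem_bot]
    ext h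
    rw [MulAut.conj_apply, hcomm g h, mul_inv_cancel_right]
    rfl
  have hH2 := hH
  obtain ⟨-, -, hnorm, E, hE⟩ := hH2
  have hdvd : p ∣ Nat.card (F.autGroup H) := hE.1.trans (Subgroup.card_quotient_dvd_card _)
  obtain ⟨a, hao⟩ := exists_prime_orderOf_dvd_card' p hdvd
  have hap : (a : MulAut H) ^ p = 1 := by
    have h1 : a ^ p = 1 := by
      have h := pow_orderOf_eq_one a
      rwa [hao] at h
    have h2 := congrArg Subtype.val h1
    simpa using h2
  have hkey := @homocyclic_sq_key ↥H (commGroupOfForall hcomm) _ p _ hp5 e (a : MulAut H) hap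
  have hexp : ∀ x : H, x ^ p ^ 2 = 1 := by
    intro x
    apply e.injective
    rw [map_pow, map_one]
    exact Prod.ext (zmodpow_card 2 (e x).1) (zmodpow_card 2 (e x).2)
  obtain ⟨C, hC0, hCn, hCinv, hCstab⟩ := @powChain ↥H (commGroupOfForall hcomm) p 2 hexp
    (a : MulAut H) hkey
  have hmem := essential_stab_mem_inn hS hH 2 C hC0 hCn (fun b _ => hCinv b) a.2 hCstab
  rw [hInn, Subgroup.mem_bot] at hmem
  have ha1 : a = 1 := Subtype.ext hmem
  rw [ha1, orderOf_one] at hao
  exact hp.one_lt.ne hao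

end Cfsg.Agent.H86
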