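import Mathlib

/-!
# Abstract core of the (R1)-kill, case `V ⊄ Q₁` (S2953, KILL2)

`r1_out` has exactly the signature announced by helper1 (board post 11052) for
`Cfsg.Agent.H1.R1.r1_out`; it is proved here by an elementary route:

* `z₁ = k z k⁻¹`, `z₂ = k z₁ k⁻¹`; `v z₁ v⁻¹ = z₂ ≠ z₁`, so `z₂ = z₁ z` and `W = ⟨z, z₁⟩` is a
  `k`-invariant subgroup of exponent 2 that is central in `Q₁`;
* `k` centralizes `Q₁ / W` (`cent_mod`), hence fixes every square of `Q₁`;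
* every involution of `T'` not commuting with `v` lies in `Q₁`;
* `s z₁ s⁻¹` is such an involution, and its centralizer in `T'` lies in `Q₁`.
-/

namespace Cfsg.Agent.H86.R1

universe u

/-- If conjugation by `k` (of order dividing 3) agrees modulo the central subgroup `W` of `Q`
with conjugation by a 2-element `r` of `Q`, then `k` centralizes `Q / W`. -/
theorem cent_mod {G : Type u} [Group G] (Q W : Subgroup G) (k r : G)
    (hWc : ∀ w ∈ W, ∀ q ∈ Q, w * q = q * w)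
    (hkW : ∀ w ∈ W, k * w * k⁻¹ ∈ W) (hrQ : r ∈ Q)
    (hbase : ∀ q ∈ Q, k * q * k⁻¹ * (r * q * r⁻¹)⁻¹ ∈ W)
    (hk3 : k ^ 3 = 1) (hr : ∃ m : ℕ, r ^ (2 ^ m) = 1) :
    ∀ q ∈ Q, k * q * k⁻¹ * q⁻¹ ∈ W := by
  have iter : ∀ n : ℕ, ∀ q ∈ Q,
      k ^ n * q * (k ^ n)⁻¹ * (r ^ n * q * (r ^ n)⁻¹)⁻¹ ∈ W := by
    intro n
    induction n with
    | zero => intro q _; simp
    | succ n ih =>
      intro q hq
      have hB : r ^ n * q * (r ^ n)⁻¹ ∈ Q :=
        Q.mul_mem (Q.mul_mem (Q.pow_mem hrQ n) hq) (Q.inv_mem (Q.pow_mem hrQ n))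
      have h1 := ih q hq
      have h2 := hbase _ hB
      have h3 := hkW _ h1
      have h4 := W.mul_mem h3 h2
      have e : k ^ (n + 1) * q * (k ^ (n + 1))⁻¹ * (r ^ (n + 1) * q * (r ^ (n + 1))⁻¹)⁻¹ =
          k * (k ^ n * q * (k ^ n)⁻¹ * (r ^ n * q * (r ^ n)⁻¹)⁻¹) * k⁻¹ *
            (k * (r ^ n * q * (r ^ n)⁻¹) * k⁻¹ * (r * (r ^ n * q * (r ^ n)⁻¹) * r⁻¹)⁻¹) := by
        rw [pow_succ' k n, pow_succ' r n]
        group
      rw [e]
      exact h4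
  obtain ⟨m, hm⟩ := hr
  have hr4 : r ^ (4 ^ m) = 1 := by
    have e : (4 : ℕ) ^ m = 2 ^ m * 2 ^ m := by rw [← mul_pow]; norm_num
    rw [e, pow_mul, hm, one_pow]
  have hk4 : k ^ (4 ^ m) = k := by
    have h : ∃ j, (4 : ℕ) ^ m = 3 * j + 1 := by
      clear hm hr4
      induction m with
      | zero => exact ⟨0, rfl⟩
      | succ m ih =>
        obtain ⟨j, hj⟩ := ih
        exact ⟨4 * j + 1, by rw [pow_succ, hj]; ring⟩
    obtain ⟨j, hj⟩ := h
    rw [hj, pow_add, pow_mul, hk3, one_pow, one_mul, pow_one]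
  intro q hq
  have h := iter (4 ^ m) q hq
  rw [hr4, hk4] at h
  simpa using h

theorem r1_out {G : Type u} [Group G] [Finite G] (T' Q₁ K' O : Subgroup G) (z v k s : G)
    (hQT : Q₁ ≤ T') (hT2 : IsPGroup 2 ↥T') (hvT : v ∈ T') (hvQ : v ∉ Q₁)
    (hTQv : ∀ t ∈ T', t ∈ Q₁ ∨ t * v ∈ Q₁) (hv2 : v * v = 1) (hz2 : z * z = 1) (hzQ : z ∈ Q₁)
    (hzT : ∀ t ∈ T', t * z = z * t)
    (hQv : ∀ q ∈ Q₁, v * q * v⁻¹ = q ∨ v * q * v⁻¹ = q * z) (hkK : k ∈ K') (hk3 : k ^ 3 = 1)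
    (hkz : k * z * k⁻¹ ≠ z) (hkQ : ∀ q ∈ Q₁, k * q * k⁻¹ ∈ Q₁) (hOQ : O ≤ Q₁)
    (hKO : ∀ g ∈ K', ∃ o ∈ O, ∃ i : ℕ, g = o * k ^ i)
    (hKgen : Subgroup.closure {g : G | g ∈ K' ∧ Odd (orderOf g)} = K')
    (hvk : v * k * v⁻¹ ∈ K') (hvk' : v * k * v⁻¹ * k ∈ Q₁)
    (hsT : ∀ t ∈ T', s * t * s⁻¹ ∈ T') (hsv : s * v * s⁻¹ = v ∨ s * v * s⁻¹ = v * z) :
    ∀ q ∈ Q₁, s * q * s⁻¹ ∈ Q₁ := by
  have hvinv : v⁻¹ = v := inv_eq_of_mul_eq_one_left hv2
  have hzinv : z⁻¹ = z := inv_eq_of_mul_eq_one_left hz2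
  have h3 : k * k * k = 1 := by rw [← hk3, pow_succ, pow_two]
  have hk2 : ∀ x : G, k⁻¹ * x * k = k * (k * x * k⁻¹) * k⁻¹ := by
    intro x
    calc k⁻¹ * x * k = (k * k * k) * (k⁻¹ * x * k) * (k * k * k)⁻¹ := by rw [h3]; simp
      _ = k * (k * x * k⁻¹) * k⁻¹ := by group
  have hkQ' : ∀ q ∈ Q₁, k⁻¹ * q * k ∈ Q₁ := by
    intro q hq
    rw [hk2]
    exact hkQ _ (hkQ q hq)
  have hzc : ∀ q ∈ Q₁, z * q = q * z := fun q hq => (hzT q (hQT hq)).symm
  set z1 := k * z * k⁻¹ with hz1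
  set z2 := k * z1 * k⁻¹ with hz2'
  have hz1Q : z1 ∈ Q₁ := hkQ z hzQ
  have hz2Q : z2 ∈ Q₁ := hkQ z1 hz1Q
  have hz1c : ∀ q ∈ Q₁, z1 * q = q * z1 := by
    intro q hq
    have h := hzc _ (hkQ' q hq)
    calc z1 * q = k * (z * (k⁻¹ * q * k)) * k⁻¹ := by rw [hz1]; group
      _ = k * ((k⁻¹ * q * k) * z) * k⁻¹ := by rw [h]
      _ = q * z1 := by rw [hz1]; group
  have hz2c : ∀ q ∈ Q₁, z2 * q = q * z2 := by
    intro q hq
    have h := hz1c _ (hkQ' q hq)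
    calc z2 * q = k * (z1 * (k⁻¹ * q * k)) * k⁻¹ := by rw [hz2']; group
      _ = k * ((k⁻¹ * q * k) * z1) * k⁻¹ := by rw [h]
      _ = q * z2 := by rw [hz2']; group
  have hz1sq : z1 * z1 = 1 := by
    calc z1 * z1 = k * (z * z) * k⁻¹ := by rw [hz1]; group
      _ = 1 := by rw [hz2]; group
  have hkz2 : k * z2 * k⁻¹ = z := by
    calc k * z2 * k⁻¹ = (k * k * k) * z * (k * k * k)⁻¹ := by rw [hz2', hz1]; group
      _ = z := by rw [h3]; simp
  have hkz2' : k⁻¹ * z * k = z2 := by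
    rw [← hkz2]; group
  have hvz : v * z * v⁻¹ = z := by
    rw [hzT v hvT]; group
  set q0 := v * k * v⁻¹ * k with hq0
  have hvz1 : v * z1 * v⁻¹ = z2 := by
    calc v * z1 * v⁻¹ = q0 * (k⁻¹ * (v * z * v⁻¹) * k) * q0⁻¹ := by rw [hz1, hq0]; group
      _ = q0 * z2 * q0⁻¹ := by rw [hvz, hkz2']
      _ = z2 := by rw [← hz2c q0 hvk']; group
  have hz12 : z2 ≠ z1 := by
    intro h
    apply hkz
    have h' : k⁻¹ * z2 * k = k⁻¹ * z1 * k := by rw [h]
    calc k * z * k⁻¹ = k⁻¹ * z2 * k := by rw [hz2', hz1]; group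
      _ = k⁻¹ * z1 * k := h'
      _ = z := by rw [hz1]; group
  have hz2eq : z2 = z1 * z := by
    rcases hQv z1 hz1Q with h | h
    · exact absurd (hvz1.symm.trans h) hz12
    · exact hvz1.symm.trans h
  -- the subgroup `W = ⟨z, z₁⟩`
  have hWprop : ∀ w ∈ Subgroup.closure ({z, z1} : Set G),
      w ∈ Q₁ ∧ (∀ q ∈ Q₁, w * q = q * w) ∧ w * w = 1 ∧
        k * w * k⁻¹ ∈ Subgroup.closure ({z, z1} : Set G) := by
    intro w hw
    induction hw using Subgroup.closure_induction with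
    | mem x hx =>
      rcases hx with hx | hx
      · rw [hx]
        exact ⟨hzQ, hzc, hz2, Subgroup.subset_closure (Set.mem_insert_of_mem _ rfl)⟩
      · have hx' : x = z1 := hx
        rw [hx']
        refine ⟨hz1Q, hz1c, hz1sq, ?_⟩
        have e : k * z1 * k⁻¹ = z1 * z := hz2eq
        rw [e]
        exact Subgroup.mul_mem _ (Subgroup.subset_closure (Set.mem_insert_of_mem _ rfl))
          (Subgroup.subset_closure (Set.mem_insert _ _))
    | one =>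
      refine ⟨Q₁.one_mem, fun q _ => by simp, by simp, ?_⟩
      simp
    | mul a b ha hb iha ihb =>
      obtain ⟨a1, a2, a3, a4⟩ := iha
      obtain ⟨b1, b2, b3, b4⟩ := ihb
      refine ⟨Q₁.mul_mem a1 b1, ?_, ?_, ?_⟩
      · intro q hq
        rw [mul_assoc, b2 q hq, ← mul_assoc, a2 q hq, mul_assoc]
      · calc a * b * (a * b) = a * (b * a) * b := by group
          _ = a * (a * b) * b := by rw [← a2 b b1]
          _ = (a * a) * (b * b) := by group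
          _ = 1 := by rw [a3, b3, one_mul]
      · have e : k * (a * b) * k⁻¹ = (k * a * k⁻¹) * (k * b * k⁻¹) := by group
        rw [e]
        exact Subgroup.mul_mem _ a4 b4
    | inv a ha iha =>
      obtain ⟨a1, a2, a3, a4⟩ := iha
      have hai : a⁻¹ = a := inv_eq_of_mul_eq_one_left a3
      rw [hai]
      exact ⟨a1, a2, a3, a4⟩
  obtain ⟨W, hWdef⟩ : ∃ W : Subgroup G, W = Subgroup.closure ({z, z1} : Set G) := ⟨_, rfl⟩
  rw [← hWdef] at hWprop
  have hzW : z ∈ W := by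
    rw [hWdef]; exact Subgroup.subset_closure (Set.mem_insert _ _)
  have hW_Q : ∀ w ∈ W, w ∈ Q₁ := fun w hw => (hWprop w hw).1
  have hW_c : ∀ w ∈ W, ∀ q ∈ Q₁, w * q = q * w := fun w hw => (hWprop w hw).2.1
  have hW_sq : ∀ w ∈ W, w * w = 1 := fun w hw => (hWprop w hw).2.2.1
  have hW_k : ∀ w ∈ W, k * w * k⁻¹ ∈ W := fun w hw => (hWprop w hw).2.2.2
  have hW_k' : ∀ w ∈ W, k⁻¹ * w * k ∈ W := by
    intro w hw
    rw [hk2]
    exact hW_k _ (hW_k w hw)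
  have hW_v : ∀ w ∈ W, v * w * v⁻¹ ∈ W := by
    intro w hw
    rcases hQv w (hW_Q w hw) with h | h
    · rw [h]; exact hw
    · rw [h]; exact W.mul_mem hw hzW
  have hvstep : ∀ q ∈ Q₁, ∃ w ∈ W, v * q * v⁻¹ = q * w := by
    intro q hq
    rcases hQv q hq with h | h
    · exact ⟨1, W.one_mem, by rw [h, mul_one]⟩
    · exact ⟨z, hzW, h⟩
  have hvstep' : ∀ q ∈ Q₁, ∃ w ∈ W, v⁻¹ * q * v = q * w := by
    intro q hq
    obtain ⟨w, hw, e⟩ := hvstep q hq
    exact ⟨w, hw, by rw [← e, hvinv]⟩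
  -- conjugation by `k` agrees with conjugation by `q0⁻¹` modulo `W`
  have hbase : ∀ q ∈ Q₁, k * q * k⁻¹ * (q0⁻¹ * q * q0⁻¹⁻¹)⁻¹ ∈ W := by
    intro q hq
    obtain ⟨w1, hw1, e1⟩ := hvstep' q hq
    have hq2 := hkQ' q hq
    obtain ⟨w2, hw2, e2⟩ := hvstep _ hq2
    have hu1 : k⁻¹ * w1 * k ∈ W := hW_k' w1 hw1
    have hu2 : v * (k⁻¹ * w1 * k) * v⁻¹ ∈ W := hW_v _ hu1
    have hw3 : k⁻¹ * (w2 * (v * (k⁻¹ * w1 * k) * v⁻¹)) * k ∈ W := hW_k' _ (W.mul_mem hw2 hu2)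
    have hp : k * q * k⁻¹ ∈ Q₁ := hkQ q hq
    have e3 : k⁻¹ * (k⁻¹ * q * k) * k = k * q * k⁻¹ := by
      calc k⁻¹ * (k⁻¹ * q * k) * k = (k * k * k)⁻¹ * (k * q * k⁻¹) * (k * k * k) := by group
        _ = k * q * k⁻¹ := by rw [h3]; simp
    have key : q0⁻¹ * q * q0 =
        (k * q * k⁻¹) * (k⁻¹ * (w2 * (v * (k⁻¹ * w1 * k) * v⁻¹)) * k) := by
      calc q0⁻¹ * q * q0 = k⁻¹ * (v * (k⁻¹ * (v⁻¹ * q * v) * k) * v⁻¹) * k := by
            rw [hq0]; group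
        _ = k⁻¹ * (v * (k⁻¹ * (q * w1) * k) * v⁻¹) * k := by rw [e1]
        _ = k⁻¹ * ((v * (k⁻¹ * q * k) * v⁻¹) * (v * (k⁻¹ * w1 * k) * v⁻¹)) * k := by group
        _ = k⁻¹ * (((k⁻¹ * q * k) * w2) * (v * (k⁻¹ * w1 * k) * v⁻¹)) * k := by rw [e2]
        _ = (k⁻¹ * (k⁻¹ * q * k) * k) * (k⁻¹ * (w2 * (v * (k⁻¹ * w1 * k) * v⁻¹)) * k) := by
            group
        _ = (k * q * k⁻¹) * (k⁻¹ * (w2 * (v * (k⁻¹ * w1 * k) * v⁻¹)) * k) := by rw [e3]
    generalize k⁻¹ * (w2 * (v * (k⁻¹ * w1 * k) * v⁻¹)) * k = w3 at hw3 key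
    have hc := hW_c w3⁻¹ (W.inv_mem hw3) (k * q * k⁻¹) hp
    have e4 : k * q * k⁻¹ * (q0⁻¹ * q * q0⁻¹⁻¹)⁻¹ = w3⁻¹ := by
      rw [inv_inv, key]
      calc k * q * k⁻¹ * (k * q * k⁻¹ * w3)⁻¹ = (k * q * k⁻¹ * w3⁻¹) * (k * q * k⁻¹)⁻¹ := by
            group
        _ = (w3⁻¹ * (k * q * k⁻¹)) * (k * q * k⁻¹)⁻¹ := by rw [hc]
        _ = w3⁻¹ := by group
    rw [e4]
    exact W.inv_mem hw3
  have hr : ∃ m : ℕ, q0⁻¹ ^ (2 ^ m) = 1 := by
    obtain ⟨m, hm⟩ := hT2 ⟨q0⁻¹, hQT (Q₁.inv_mem hvk')⟩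
    refine ⟨m, ?_⟩
    have := congrArg (fun x : T' => (x : G)) hm
    simpa using this
  have hcent : ∀ q ∈ Q₁, k * q * k⁻¹ * q⁻¹ ∈ W :=
    cent_mod Q₁ W k q0⁻¹ hW_c hW_k (Q₁.inv_mem hvk') hbase hk3 hr
  -- `k` fixes the squares of `Q₁`
  have hsqfix : ∀ q ∈ Q₁, k * (q * q) * k⁻¹ = q * q := by
    intro q hq
    have hw := hcent q hq
    have e : k * q * k⁻¹ = (k * q * k⁻¹ * q⁻¹) * q := by group
    generalize k * q * k⁻¹ * q⁻¹ = w at hw e
    have hwc := hW_c w hw q hq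
    have hw2 := hW_sq w hw
    calc k * (q * q) * k⁻¹ = (k * q * k⁻¹) * (k * q * k⁻¹) := by group
      _ = (w * q) * (w * q) := by rw [e]
      _ = w * (q * w) * q := by group
      _ = w * (w * q) * q := by rw [hwc]
      _ = (w * w) * (q * q) := by group
      _ = q * q := by rw [hw2, one_mul]
  have hsq : ∀ q ∈ Q₁, q * q ≠ z := by
    intro q hq h
    apply hkz
    have := hsqfix q hq
    rw [h] at this
    exact this
  -- involutions of `T'` outside `Q₁` commute with `v`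
  have hinv : ∀ y ∈ T', y * y = 1 → y ∉ Q₁ → v * y * v⁻¹ = y := by
    intro y hy hy2 hyQ
    rcases hTQv y hy with h | h
    · exact absurd h hyQ
    · rcases hQv (y * v) h with e | e
      · have e' : v * y = y * v := by
          calc v * y = v * (y * v) * v⁻¹ := by group
            _ = y * v := e
        rw [e']; group
      · exfalso
        have e' : v * y = y * v * z := by
          calc v * y = v * (y * v) * v⁻¹ := by group
            _ = y * v * z := e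
        apply hsq (y * v) h
        calc y * v * (y * v) = y * (v * y) * v := by group
          _ = y * (y * v * z) * v := by rw [e']
          _ = (y * y) * (v * z) * v := by group
          _ = (z * v) * v := by rw [hy2, one_mul, hzT v hvT]
          _ = z * (v * v) := by group
          _ = z := by rw [hv2, mul_one]
  -- the involution `y = s z₁ s⁻¹`
  have hyT : s * z1 * s⁻¹ ∈ T' := hsT z1 (hQT hz1Q)
  have hy2 : (s * z1 * s⁻¹) * (s * z1 * s⁻¹) = 1 := by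
    calc (s * z1 * s⁻¹) * (s * z1 * s⁻¹) = s * (z1 * z1) * s⁻¹ := by group
      _ = 1 := by rw [hz1sq]; group
  have hyv : v * (s * z1 * s⁻¹) * v⁻¹ ≠ s * z1 * s⁻¹ := by
    intro h
    apply hz12
    rw [← hvz1]
    have h' : (s * v * s⁻¹) * (s * z1 * s⁻¹) * (s * v * s⁻¹)⁻¹ = s * z1 * s⁻¹ := by
      rcases hsv with e | e
      · rw [e]; exact h
      · rw [e]
        have hyz : (s * z1 * s⁻¹) * z = z * (s * z1 * s⁻¹) := hzT _ hyT
        calc v * z * (s * z1 * s⁻¹) * (v * z)⁻¹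
            = v * (z * (s * z1 * s⁻¹)) * z⁻¹ * v⁻¹ := by group
          _ = v * ((s * z1 * s⁻¹) * z) * z⁻¹ * v⁻¹ := by rw [hyz]
          _ = v * (s * z1 * s⁻¹) * v⁻¹ := by group
          _ = s * z1 * s⁻¹ := h
    have h'' : s * (v * z1 * v⁻¹) * s⁻¹ = s * z1 * s⁻¹ :=
      (show s * (v * z1 * v⁻¹) * s⁻¹ = (s * v * s⁻¹) * (s * z1 * s⁻¹) * (s * v * s⁻¹)⁻¹ by
        group).trans h'
    calc v * z1 * v⁻¹ = s⁻¹ * (s * (v * z1 * v⁻¹) * s⁻¹) * s := by group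
      _ = s⁻¹ * (s * z1 * s⁻¹) * s := by rw [h'']
      _ = z1 := by group
  have hyQ : s * z1 * s⁻¹ ∈ Q₁ := by
    by_contra hn
    exact hyv (hinv _ hyT hy2 hn)
  have e_y : v * (s * z1 * s⁻¹) * v⁻¹ = (s * z1 * s⁻¹) * z := by
    rcases hQv _ hyQ with h | h
    · exact absurd h hyv
    · exact h
  -- the final step
  intro q hq
  by_contra hn
  have htT := hsT q (hQT hq)
  have hty : (s * q * s⁻¹) * (s * z1 * s⁻¹) = (s * z1 * s⁻¹) * (s * q * s⁻¹) := by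
    have h := hz1c q hq
    calc (s * q * s⁻¹) * (s * z1 * s⁻¹) = s * (q * z1) * s⁻¹ := by group
      _ = s * (z1 * q) * s⁻¹ := by rw [h]
      _ = (s * z1 * s⁻¹) * (s * q * s⁻¹) := by group
  generalize s * q * s⁻¹ = t at hn htT hty
  generalize s * z1 * s⁻¹ = y at hyT hy2 hyv hyQ e_y hty
  rcases hTQv t htT with h | h
  · exact hn h
  · have c1 : v * y = y * z * v := by
      calc v * y = (v * y * v⁻¹) * v := by group
        _ = y * z * v := by rw [e_y]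
    have c2 : (t * v) * y = z * y * (t * v) := by
      calc (t * v) * y = t * (v * y) := by group
        _ = t * (y * z * v) := by rw [c1]
        _ = (t * y) * z * v := by group
        _ = (y * t) * z * v := by rw [hty]
        _ = y * (t * z) * v := by group
        _ = y * (z * t) * v := by rw [hzT t htT]
        _ = (y * z) * (t * v) := by group
        _ = z * y * (t * v) := by rw [hzT y hyT]
    generalize t * v = q' at h c2
    have c3 : y * q' = z * q' * y := by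
      calc y * q' = z⁻¹ * (z * y * q') := by group
        _ = z⁻¹ * (q' * y) := by rw [c2]
        _ = z * q' * y := by rw [hzinv]; group
    have e3 : (q' * y) * (q' * y) = (q' * q') * z := by
      calc (q' * y) * (q' * y) = q' * (y * q') * y := by group
        _ = q' * (z * q' * y) * y := by rw [c3]
        _ = (q' * z) * q' * (y * y) := by group
        _ = (z * q') * q' * (y * y) := by rw [hzT q' (hQT h)]
        _ = z * (q' * q') := by rw [hy2]; group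
        _ = (q' * q') * z := (hzT _ (T'.mul_mem (hQT h) (hQT h))).symm
    have e1 : k * ((q' * y) * (q' * y)) * k⁻¹ = (q' * y) * (q' * y) :=
      hsqfix _ (Q₁.mul_mem h hyQ)
    have e2 : k * (q' * q') * k⁻¹ = q' * q' := hsqfix _ h
    have ez : z = (q' * q')⁻¹ * ((q' * y) * (q' * y)) := by rw [e3]; group
    apply hkz
    calc k * z * k⁻¹
        = (k * (q' * q') * k⁻¹)⁻¹ * (k * ((q' * y) * (q' * y)) * k⁻¹) := by
          conv_lhs => rw [ez]
          group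
      _ = (q' * q')⁻¹ * ((q' * y) * (q' * y)) := by rw [e1, e2]
      _ = z := ez.symm

end Cfsg.Agent.H86.R1
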