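import Mathlib
import Cfsg.Agent.H67.UmDefs

/-!
UM-AR1 (piece of S2263 for helper67): the arithmetic for one part, and the elementary bounds
on `Qn` and `tgt` shared with UM-AR2A.
-/

set_option autoImplicit false

namespace Cfsg.Agent.H86.Um

open Cfsg.Agent.H67.Um

theorem qn_le (q a : ℕ) : Qn q a ≤ q ^ a + 1 := by
  unfold Qn
  split_ifs <;> omega

theorem qn_dvd (q a : ℕ) (ha : 1 ≤ a) : q + 1 ∣ Qn q a := by
  unfold Qn
  split_ifs with h
  · obtain ⟨c, rfl⟩ := h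
    have h1 : q ^ (c + c) - 1 = (q ^ 2) ^ c - 1 ^ c := by
      rw [one_pow, ← pow_mul]; congr 2; omega
    rw [h1]
    have h2 : q ^ 2 - 1 ∣ (q ^ 2) ^ c - 1 ^ c := Nat.sub_dvd_pow_sub_pow _ _ _
    have h3 : q + 1 ∣ q ^ 2 - 1 := by
      refine ⟨q - 1, ?_⟩
      rcases Nat.eq_zero_or_pos q with h0 | h0
      · subst h0; simp
      · obtain ⟨r, rfl⟩ : ∃ r, q = r + 1 := ⟨q - 1, by omega⟩
        simp only [Nat.add_sub_cancel]
        have : (r + 1) ^ 2 = (r + 1 + 1) * r + 1 := by ring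
        omega
    exact h3.trans h2
  · have ho : Odd a := Nat.not_even_iff_odd.mp h
    have := Odd.nat_add_dvd_pow_add_pow q 1 ho
    simpa using this

theorem qn_ge (q a : ℕ) (hq : 2 ≤ q) (ha : 1 ≤ a) : q + 1 ≤ Qn q a := by
  unfold Qn
  split_ifs with h
  · have h2 : 2 ≤ a := by
      rcases h with ⟨c, rfl⟩; omega
    have h3 : q ^ 2 ≤ q ^ a := Nat.pow_le_pow_right (by omega) h2
    have h4 : q * 2 ≤ q ^ 2 := by
      rw [pow_two]; exact Nat.mul_le_mul_left q hq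
    omega
  · have h3 : q ^ 1 ≤ q ^ a := Nat.pow_le_pow_right (by omega) ha
    simp only [pow_one] at h3
    omega

theorem qn_div_pos (q a : ℕ) (hq : 2 ≤ q) (ha : 1 ≤ a) : 1 ≤ Qn q a / (q + 1) :=
  (Nat.one_le_div_iff (by omega)).mpr (qn_ge q a hq ha)

theorem qn_div_le (q a : ℕ) (hq : 2 ≤ q) (ha : 1 ≤ a) : Qn q a / (q + 1) ≤ q ^ (a - 1) := by
  obtain ⟨b, rfl⟩ : ∃ b, a = b + 1 := ⟨a - 1, by omega⟩
  simp only [Nat.add_sub_cancel]
  apply Nat.div_le_of_le_mul
  have h1 := qn_le q (b + 1)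
  have h2 : 1 ≤ q ^ b := Nat.one_le_pow _ _ (by omega)
  have h3 : (q + 1) * q ^ b = q ^ (b + 1) + q ^ b := by ring
  omega

theorem qn_div_lt (q a : ℕ) (hq : 2 ≤ q) (ha : 2 ≤ a) : Qn q a / (q + 1) < q ^ (a - 1) := by
  obtain ⟨b, rfl⟩ : ∃ b, a = b + 1 := ⟨a - 1, by omega⟩
  simp only [Nat.add_sub_cancel]
  rw [Nat.div_lt_iff_lt_mul (by omega)]
  have h2 : q ^ 1 ≤ q ^ b := Nat.pow_le_pow_right (by omega) (by omega)
  simp only [pow_one] at h2
  have h3 : q ^ b * (q + 1) = q ^ (b + 1) + q ^ b := by ring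
  have h1 := qn_le q (b + 1)
  omega

theorem qn_one (q : ℕ) : Qn q 1 = q + 1 := by
  unfold Qn
  simp

/-- `tgt` is at least `q ^ (d - 1) - 1`. -/
theorem tgt_ge (p f d : ℕ) (hp : p.Prime) (hf : 1 ≤ f) (hd : 3 ≤ d) :
    (p ^ f) ^ (d - 1) - 1 ≤ tgt p f d := by
  have hp2 := hp.two_le
  unfold tgt
  split_ifs with h1 h2 h3
  · exact le_rfl
  · have hf1 : f = 1 := by omega
    subst hf1
    have : (p ^ (d - 2) + 1) * p = p ^ (d - 1) + p := by
      obtain ⟨e, rfl⟩ : ∃ e, d = e + 2 := ⟨d - 2, by omega⟩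
      simp only [Nat.add_sub_cancel]
      have : e + 2 - 1 = e + 1 := by omega
      rw [this]; ring
    rw [this, pow_one]; omega
  · omega
  · have hq : p ^ f = 2 := by
      have : 2 ≤ p ^ f := le_trans hp2 (Nat.le_self_pow (by omega) p)
      omega
    rw [hq]
    obtain ⟨e, rfl⟩ : ∃ e, d = e + 3 := ⟨d - 3, by omega⟩
    simp only [Nat.add_sub_cancel]
    have : e + 3 - 1 = e + 2 := by omega
    rw [this]
    have : 2 ^ (e + 2) = 4 * 2 ^ e := by ring
    omega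

/-- For even `d`, `tgt` is at least `q ^ (d - 1) + 1`. -/
theorem tgt_ge_even (p f d : ℕ) (hp : p.Prime) (hf : 1 ≤ f) (hd : 3 ≤ d) (he : Even d) :
    (p ^ f) ^ (d - 1) + 1 ≤ tgt p f d := by
  have hp2 := hp.two_le
  unfold tgt
  have hno : ¬ Odd d := Nat.not_odd_iff_even.mpr he
  rw [if_neg hno]
  split_ifs with h3
  · exact le_rfl
  · have hq : p ^ f = 2 := by
      have : 2 ≤ p ^ f := le_trans hp2 (Nat.le_self_pow (by omega) p)
      omega
    rw [hq]
    obtain ⟨e, rfl⟩ : ∃ e, d = e + 3 := ⟨d - 3, by omega⟩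
    simp only [Nat.add_sub_cancel]
    have : e + 3 - 1 = e + 2 := by omega
    rw [this]
    have : 2 ^ (e + 2) = 4 * 2 ^ e := by ring
    omega

/-- `tgt` is at least `p ^ (d - 1)`. -/
theorem tgt_ge_p (p f d : ℕ) (hp : p.Prime) (hf : 1 ≤ f) (hd : 3 ≤ d) :
    p ^ (d - 1) ≤ tgt p f d := by
  have hp2 := hp.two_le
  have hpq : p ≤ p ^ f := Nat.le_self_pow (by omega) p
  have hle : p ^ (d - 1) ≤ (p ^ f) ^ (d - 1) := Nat.pow_le_pow_left hpq _
  unfold tgt
  split_ifs with h1 h2 h3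
  · have hlt : p < p ^ f := by
      calc p = p ^ 1 := (pow_one p).symm
        _ < p ^ f := Nat.pow_lt_pow_right (by omega) (by omega)
    have : p ^ (d - 1) < (p ^ f) ^ (d - 1) := Nat.pow_lt_pow_left hlt (by omega)
    omega
  · have : (p ^ (d - 2) + 1) * p = p ^ (d - 1) + p := by
      obtain ⟨e, rfl⟩ : ∃ e, d = e + 2 := ⟨d - 2, by omega⟩
      simp only [Nat.add_sub_cancel]
      have : e + 2 - 1 = e + 1 := by omega
      rw [this]; ring
    rw [this]; omega
  · omega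
  · have hq : p ^ f = 2 := by omega
    have hp' : p = 2 := by omega
    subst hp'
    obtain ⟨e, rfl⟩ : ∃ e, d = e + 3 := ⟨d - 3, by omega⟩
    simp only [Nat.add_sub_cancel]
    have : e + 3 - 1 = e + 2 := by omega
    rw [this]
    have : 2 ^ (e + 2) = 4 * 2 ^ e := by ring
    omega

theorem ar1 : StAr1 := by
  intro p f d a k hp hf hd _ ha hk hak
  have hp2 := hp.two_le
  have hpq : p ≤ p ^ f := Nat.le_self_pow (by omega) p
  have hq2 : 2 ≤ p ^ f := le_trans hp2 hpq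
  refine ⟨k - 1, ?_, ?_, ?_⟩
  · have h1 : k - 1 < 2 ^ (k - 1) := Nat.lt_two_pow_self
    have h2 : 2 ^ (k - 1) ≤ p ^ (k - 1) := Nat.pow_le_pow_left hp2 _
    omega
  · have h1 := qn_div_pos (p ^ f) a hq2 ha
    have h2 : 1 ≤ p ^ (k - 1) := Nat.one_le_pow _ _ (by omega)
    exact Nat.mul_le_mul h1 h2
  · rcases Nat.lt_or_ge a 2 with ha1 | ha2
    · -- `a = 1`
      have ha1' : a = 1 := by omega
      subst ha1'
      have hkd : k = d := by omega
      subst hkd
      rw [qn_one, Nat.div_self (by omega), one_mul]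
      exact tgt_ge_p p f k hp hf hd
    · rcases Nat.lt_or_ge k 2 with hk1 | hk2
      · have hk1' : k = 1 := by omega
        subst hk1'
        have had : a = d := by omega
        subst had
        simp only [Nat.sub_self, pow_zero, mul_one]
        have h1 := qn_div_lt (p ^ f) a hq2 ha2
        have h2 := tgt_ge p f a hp hf hd
        omega
      · have h1 := qn_div_le (p ^ f) a hq2 ha
        have h2 : p ^ (k - 1) ≤ (p ^ f) ^ (k - 1) := Nat.pow_le_pow_left hpq _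
        have h3 : Qn (p ^ f) a / (p ^ f + 1) * p ^ (k - 1) ≤
            (p ^ f) ^ (a - 1) * (p ^ f) ^ (k - 1) := Nat.mul_le_mul h1 h2
        rw [← pow_add] at h3
        have h4 : a - 1 + (k - 1) ≤ d - 2 := by
          obtain ⟨a', rfl⟩ : ∃ a', a = a' + 2 := ⟨a - 2, by omega⟩
          obtain ⟨k', rfl⟩ : ∃ k', k = k' + 2 := ⟨k - 2, by omega⟩
          have : (a' + 2) * (k' + 2) = a' * k' + 2 * a' + 2 * k' + 4 := by ring
          have h0 : 0 ≤ a' * k' := Nat.zero_le _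
          omega
        have h5 : (p ^ f) ^ (a - 1 + (k - 1)) ≤ (p ^ f) ^ (d - 2) :=
          Nat.pow_le_pow_right (by omega) h4
        have h6 : (p ^ f) ^ (d - 2) * 2 ≤ (p ^ f) ^ (d - 1) := by
          have : d - 1 = d - 2 + 1 := by omega
          rw [this, pow_succ]
          exact Nat.mul_le_mul_left _ hq2
        have h7 : 1 ≤ (p ^ f) ^ (d - 2) := Nat.one_le_pow _ _ (by omega)
        have h8 := tgt_ge p f d hp hf hd
        omega

example : StAr1 := ar1

end Cfsg.Agent.H86.Um
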