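import Mathlib
import Cfsg.Agent.H67.UmDefs
import Cfsg.Agent.H86.UmAr1

/-!
UM-AR2A (piece of S2263 for helper67): two parts of multiplicity one.
-/

set_option autoImplicit false

namespace Cfsg.Agent.H86.Um

open Cfsg.Agent.H67.Um

/-- `Qn q a * Qn q b ≤ (q + 1) * (q ^ (a + b - 1) + 1)`. -/
theorem qn_mul_le (q a b : ℕ) (hq : 2 ≤ q) (ha : 1 ≤ a) (hb : 1 ≤ b) :
    Qn q a * Qn q b ≤ (q + 1) * (q ^ (a + b - 1) + 1) := by
  obtain ⟨a', rfl⟩ : ∃ a', a = a' + 1 := ⟨a - 1, by omega⟩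
  obtain ⟨b', rfl⟩ : ∃ b', b = b' + 1 := ⟨b - 1, by omega⟩
  have h1 := qn_le q (a' + 1)
  have h2 := qn_le q (b' + 1)
  have h3 : Qn q (a' + 1) * Qn q (b' + 1) ≤ (q ^ (a' + 1) + 1) * (q ^ (b' + 1) + 1) :=
    Nat.mul_le_mul h1 h2
  refine le_trans h3 ?_
  have e : a' + 1 + (b' + 1) - 1 = a' + b' + 1 := by omega
  rw [e]
  -- `(q^a' - 1) * (q^b' - 1) ≥ 0`
  obtain ⟨x, hx⟩ : ∃ x, q ^ a' = x + 1 := ⟨q ^ a' - 1, by
    have : 1 ≤ q ^ a' := Nat.one_le_pow _ _ (by omega)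
    omega⟩
  obtain ⟨y, hy⟩ : ∃ y, q ^ b' = y + 1 := ⟨q ^ b' - 1, by
    have : 1 ≤ q ^ b' := Nat.one_le_pow _ _ (by omega)
    omega⟩
  have e1 : q ^ (a' + 1) = (x + 1) * q := by rw [pow_succ, hx]
  have e2 : q ^ (b' + 1) = (y + 1) * q := by rw [pow_succ, hy]
  have e3 : q ^ (a' + b' + 1) = (x + 1) * (y + 1) * q := by
    rw [pow_succ, pow_add, hx, hy]
  rw [e1, e2, e3]
  obtain ⟨r, rfl⟩ : ∃ r, q = r + 2 := ⟨q - 2, by omega⟩
  nlinarith [Nat.zero_le (x * y), Nat.zero_le (x * y * r), Nat.zero_le (x * y * r * r),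
    Nat.zero_le x, Nat.zero_le y, Nat.zero_le r]

/-- If `a` is even, `Qn q a * Qn q b ≤ (q + 1) * (q ^ (a + b - 1) - 1)`. -/
theorem qn_mul_le_even (q a b : ℕ) (hq : 2 ≤ q) (ha : 1 ≤ a) (hb : 1 ≤ b) (he : Even a) :
    Qn q a * Qn q b ≤ (q + 1) * (q ^ (a + b - 1) - 1) := by
  have ha2 : 2 ≤ a := by
    rcases he with ⟨c, rfl⟩; omega
  obtain ⟨a', rfl⟩ : ∃ a', a = a' + 2 := ⟨a - 2, by omega⟩
  obtain ⟨b', rfl⟩ : ∃ b', b = b' + 1 := ⟨b - 1, by omega⟩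
  have h1 : Qn q (a' + 2) = q ^ (a' + 2) - 1 := by
    unfold Qn; rw [if_pos he]
  have h2 := qn_le q (b' + 1)
  have h3 : Qn q (a' + 2) * Qn q (b' + 1) ≤ (q ^ (a' + 2) - 1) * (q ^ (b' + 1) + 1) := by
    rw [h1]; exact Nat.mul_le_mul_left _ h2
  refine le_trans h3 ?_
  have e : a' + 2 + (b' + 1) - 1 = a' + b' + 2 := by omega
  rw [e]
  obtain ⟨x, hx⟩ : ∃ x, q ^ a' = x + 1 := ⟨q ^ a' - 1, by
    have : 1 ≤ q ^ a' := Nat.one_le_pow _ _ (by omega)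
    omega⟩
  obtain ⟨y, hy⟩ : ∃ y, q ^ b' = y + 1 := ⟨q ^ b' - 1, by
    have : 1 ≤ q ^ b' := Nat.one_le_pow _ _ (by omega)
    omega⟩
  have e1 : q ^ (a' + 2) = (x + 1) * q * q := by rw [pow_succ, pow_succ, hx]
  have e2 : q ^ (b' + 1) = (y + 1) * q := by rw [pow_succ, hy]
  have e3 : q ^ (a' + b' + 2) = (x + 1) * (y + 1) * q * q := by
    rw [pow_succ, pow_succ, pow_add, hx, hy]
  rw [e1, e2, e3]
  have hq0 : 0 < q := by omega
  have k1 : 0 < (x + 1) * q * q := Nat.mul_pos (Nat.mul_pos (Nat.succ_pos x) hq0) hq0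
  obtain ⟨u, hu⟩ : ∃ u, (x + 1) * q * q = u + 1 := ⟨(x + 1) * q * q - 1, by omega⟩
  have e4 : (x + 1) * (y + 1) * q * q = u * (y + 1) + y + 1 := by
    calc (x + 1) * (y + 1) * q * q = ((x + 1) * q * q) * (y + 1) := by ring
      _ = (u + 1) * (y + 1) := by rw [hu]
      _ = u * (y + 1) + y + 1 := by ring
  rw [hu, e4]
  simp only [Nat.add_sub_cancel]
  nlinarith [Nat.zero_le (q * y), Nat.zero_le (u * y), Nat.zero_le y]

theorem qn_pos (q a : ℕ) (hq : 2 ≤ q) (ha : 1 ≤ a) : 1 ≤ Qn q a := by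
  have := qn_ge q a hq ha
  omega

theorem ar2a : StAr2a := by
  intro p f d a b hp hf hd _ ha hb hab
  have hp2 := hp.two_le
  have hpq : p ≤ p ^ f := Nat.le_self_pow (by omega) p
  have hq2 : 2 ≤ p ^ f := le_trans hp2 hpq
  obtain ⟨ca, hca⟩ := qn_dvd (p ^ f) a ha
  obtain ⟨cb, hcb⟩ := qn_dvd (p ^ f) b hb
  have hca1 : 1 ≤ ca := by
    have := qn_pos (p ^ f) a hq2 ha
    rcases Nat.eq_zero_or_pos ca with h | h
    · rw [h, mul_zero] at hca; omega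
    · exact h
  have hcb1 : 1 ≤ cb := by
    have := qn_pos (p ^ f) b hq2 hb
    rcases Nat.eq_zero_or_pos cb with h | h
    · rw [h, mul_zero] at hcb; omega
    · exact h
  refine ⟨(p ^ f + 1) * ca * cb, 0, ?_, ?_, ?_, ?_, ?_, ?_⟩
  · exact Nat.mul_pos (Nat.mul_pos (Nat.succ_pos _) hca1) hcb1
  · rw [hca]; exact Dvd.intro _ rfl
  · rw [hcb]; exact ⟨ca, by ring⟩
  · simp
  · simp
  · rw [pow_zero, mul_one]
    -- `(q+1) * ((q+1) ca cb) = Qn a * Qn b`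
    have hprod : (p ^ f + 1) * ((p ^ f + 1) * ca * cb) = Qn (p ^ f) a * Qn (p ^ f) b := by
      rw [hca, hcb]; ring
    by_cases hev : Even a ∨ Even b
    · -- bound `q^(d-1) - 1`
      have hb1 : Qn (p ^ f) a * Qn (p ^ f) b ≤ (p ^ f + 1) * ((p ^ f) ^ (a + b - 1) - 1) := by
        rcases hev with h | h
        · exact qn_mul_le_even _ a b hq2 ha hb h
        · have := qn_mul_le_even (p ^ f) b a hq2 hb ha h
          rw [mul_comm, add_comm a b]; exact this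
      rw [← hprod, hab] at hb1
      have h3 := Nat.le_of_mul_le_mul_left hb1 (by omega : 0 < p ^ f + 1)
      exact le_trans h3 (tgt_ge p f d hp hf hd)
    · -- both odd, so `d` even
      have hoa : Odd a := Nat.not_even_iff_odd.mp (fun h => hev (Or.inl h))
      have hob : Odd b := Nat.not_even_iff_odd.mp (fun h => hev (Or.inr h))
      have hde : Even d := by rw [← hab]; exact hoa.add_odd hob
      have hb1 := qn_mul_le (p ^ f) a b hq2 ha hb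
      rw [← hprod, hab] at hb1
      have h3 := Nat.le_of_mul_le_mul_left hb1 (by omega : 0 < p ^ f + 1)
      exact le_trans h3 (tgt_ge_even p f d hp hf hd hde)

example : StAr2a := ar2a

end Cfsg.Agent.H86.Um
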