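import Mathlib
import Cfsg.Prelude.Def_FusionSystem
import Cfsg.Agent.H86.WClosure2
import Cfsg.Agent.H86.QuadPow

set_option autoImplicit false
set_option maxHeartbeats 800000

/-!
`℧¹(Z(S)) ∩ Z(N_F(W(S))) ≤ Z(F)` for a functor `W` with the quadratic element condition.
-/

namespace Cfsg.Agent.H86

open Cfsg Cfsg.FusionSystem

universe u

variable {Ω : Type u} [Group Ω]

theorem locHyp_pow {p : ℕ} [Fact p.Prime]
    {W : ∀ (Q : Type u) [Group Q], Subgroup Q}
    (hW2 : ∀ (Q R : Type u) [Group Q] [Group R] [Finite Q], IsPGroup p Q →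
      ∀ φ : Q ≃* R, (W Q).map φ.toMonoidHom = W R)
    (hq : ∀ (G : Type u) [Group G] [Finite G] (P : Sylow p G),
      ¬ (((W ↥(P : Subgroup G)).map (P : Subgroup G).subtype : Subgroup G)).Normal →
      ∃ g : G, g ∈ (P : Subgroup G) ∧ g ∉ Cfsg.pCore p G ∧
        ⁅⁅Subgroup.center ↥(Cfsg.pCore p G) |>.map (Cfsg.pCore p G).subtype, Subgroup.zpowers g⁆,
          Subgroup.zpowers g⁆ = ⊥) (z : Ω) :
    LocHyp p W z (z ^ p) := by
  intro G _ _ T P₁ ι hz hx hinj hT hzc hzQ hxQ hNn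
  have he : ι ⟨z ^ p, hx⟩ = (ι ⟨z, hz⟩) ^ p := by
    rw [← map_pow]
    rfl
  rw [he] at hNn ⊢
  rw [Subgroup.mem_center_iff]
  intro k
  refine quad_pow_central hW2 hq (Nat.card G) G rfl T (ι ⟨z, hz⟩) ?_ (fun y hy => ?_) hzQ hNn k
  · rw [hT]
    exact ⟨_, rfl⟩
  · rw [hT] at hy
    obtain ⟨y', rfl⟩ := hy
    rw [← map_mul, ← map_mul]
    congr 1
    exact Subtype.ext (hzc y' y'.2)

theorem wc_pow_center {p : ℕ} [Fact p.Prime]
    {W : ∀ (Q : Type u) [Group Q], Subgroup Q}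
    (hW2 : ∀ (Q R : Type u) [Group Q] [Group R] [Finite Q], IsPGroup p Q →
      ∀ φ : Q ≃* R, (W Q).map φ.toMonoidHom = W R)
    (hWZ : ∀ (Q : Type u) [Group Q] [Finite Q], IsPGroup p Q → Subgroup.center Q ≤ W Q)
    (hq : ∀ (G : Type u) [Group G] [Finite G] (P : Sylow p G),
      ¬ (((W ↥(P : Subgroup G)).map (P : Subgroup G).subtype : Subgroup G)).Normal →
      ∃ g : G, g ∈ (P : Subgroup G) ∧ g ∉ Cfsg.pCore p G ∧
        ⁅⁅Subgroup.center ↥(Cfsg.pCore p G) |>.map (Cfsg.pCore p G).subtype, Subgroup.zpowers g⁆,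
          Subgroup.zpowers g⁆ = ⊥)
    {S : Subgroup Ω} [Finite S] (hS : IsPGroup p S) (F : FusionSystem S) (hF : F.IsSaturated p)
    (N : FusionSystem (normalizerIn S (WS W S))) (hN : F.IsNormalizerSystem (WS W S) N) :
    Subgroup.closure ((fun z => z ^ p) ''
      ((S ⊓ Subgroup.centralizer (S : Set Ω) : Subgroup Ω) : Set Ω)) ⊓ N.center ≤ F.center := by
  have hVS : WS W S ≤ S := WS_le W S
  have hVn : ∀ s ∈ S, ∀ y ∈ WS W S, s * y * s⁻¹ ∈ WS W S := fun s hs y hy =>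
    WS_conj_mem hW2 hS (Subgroup.le_normalizer hs) hy
  have hNS : normalizerIn S (WS W S) = S := by
    apply le_antisymm inf_le_left
    intro s hs
    refine ⟨hs, mem_normalizer_of_forall_conj_mem (fun y hy => hVn s hs y hy) (fun y hy => ?_)⟩
    have h := hVn s⁻¹ (S.inv_mem hs) y hy
    simpa using h
  have hVfn : F.IsFullyNormalized (WS W S) := fullyNormalized_of_normal F hVS hVn
  have hNsat : N.IsSaturated p := Cfsg.Agent.H88.normalizerSystem_saturated hS hF hVfn N hN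
  haveI hfinN : Finite (normalizerIn S (WS W S)) := finite_of_le (S := S) inf_le_left
  have hNp : IsPGroup p (normalizerIn S (WS W S)) := hS.to_le inf_le_left
  obtain ⟨hQN, hfix⟩ := (isCentral_iff_conjElt hNp hNsat N.center).1
    (Cfsg.Agent.H88.isCentral_center N)
  have hcen : F.IsCentral (Subgroup.closure ((fun z => z ^ p) ''
      ((S ⊓ Subgroup.centralizer (S : Set Ω) : Subgroup Ω) : Set Ω)) ⊓ N.center) := by
    rw [isCentral_iff_conjElt hS hF]
    refine ⟨inf_le_right.trans (hQN.trans inf_le_left), fun x hx y hxy => ?_⟩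
    obtain ⟨f, hf, rfl⟩ := isConjElt_iff.1 hxy
    obtain ⟨hx1, hx2⟩ := Subgroup.mem_inf.1 hx
    have hex : ∃ z ∈ (S ⊓ Subgroup.centralizer (S : Set Ω) : Subgroup Ω), x = z ^ p := by
      refine Subgroup.closure_induction
        (p := fun x _ => ∃ z ∈ (S ⊓ Subgroup.centralizer (S : Set Ω) : Subgroup Ω), x = z ^ p)
        ?_ ?_ ?_ ?_ hx1
      · rintro x ⟨z, hz, rfl⟩
        exact ⟨z, hz, rfl⟩
      · exact ⟨1, Subgroup.one_mem _, (one_pow p).symm⟩
      · rintro a b - - ⟨za, hza, rfl⟩ ⟨zb, hzb, rfl⟩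
        refine ⟨za * zb, Subgroup.mul_mem _ hza hzb, ?_⟩
        have hc : Commute za zb := by
          have h1 := Subgroup.mem_centralizer_iff.1 (Subgroup.mem_inf.1 hzb).2 za
            (Subgroup.mem_inf.1 hza).1
          exact h1
        exact (hc.mul_pow p).symm
      · rintro a - ⟨za, hza, rfl⟩
        exact ⟨za⁻¹, Subgroup.inv_mem _ hza, (inv_pow za p).symm⟩
    obtain ⟨z, hz, rfl⟩ := hex
    obtain ⟨hzS, hzC⟩ := Subgroup.mem_inf.1 hz
    have hzZ : ∀ s ∈ S, s * z = z * s := fun s hs =>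
      (Subgroup.mem_centralizer_iff.1 hzC s hs)
    have hxS : z ^ p ∈ S := Subgroup.pow_mem _ hzS _
    have hxN : z ^ p ∈ normalizerIn S (WS W S) := hQN hx2
    have hzle : Subgroup.zpowers (z ^ p) ≤ normalizerIn S (WS W S) := by
      rw [Subgroup.zpowers_le]; exact hxN
    have hxZ : ∀ s ∈ S, s * z ^ p = z ^ p * s := by
      intro s hs
      have hc : Commute s z := hzZ s hs
      exact (hc.pow_right p).eq
    have hxV : z ^ p ∈ WS W S := center_mem_WS hWZ hS hxS hxZ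
    have hWS : ∀ g, Mor F (WS W S) g → imgS (WS W S) g = WS W S → g (z ^ p) = z ^ p := by
      intro g hg himg
      refine hfix (z ^ p) hx2 (g (z ^ p)) (isConjElt_iff.2 ⟨g, ?_, rfl⟩)
      rw [Cfsg.Agent.H88.mor_normalizerSystem_iff hN]
      have hzV : Subgroup.zpowers (z ^ p) ≤ WS W S := by
        rw [Subgroup.zpowers_le]; exact hxV
      refine ⟨hzle, fun y hy => ?_, g, ?_, fun _ _ => rfl, himg⟩
      · have h1 : g y ∈ imgS (WS W S) g := hg.mem_imgS_of_mem (hzV hy)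
        rw [himg] at h1
        rw [hNS]
        exact hVS h1
      · rw [sup_eq_right.2 hzV]
        exact hg
    exact wc_main2 hW2 hWZ (Nat.card S) S rfl hS F hF hzS hzZ (z ^ p) hxS (locHyp_pow hW2 hq z)
      hxZ hWS _ f hf (Subgroup.mem_zpowers _)
  exact le_sSup hcen

end Cfsg.Agent.H86
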